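import Groth.Agent.AGF80.Luna.SplitTori
import Groth.Agent.RedPts82.GaNoTorus
import Groth.Agent.FlatMor68.FibDimBC

/-!
A splitting of a reductive group over a field gives one over any algebraically closed extension.
-/

set_option autoImplicit false
set_option linter.unusedSectionVars false
set_option linter.style.haveILetI false
set_option backward.isDefEq.respectTransparency.types false
set_option synthInstance.maxHeartbeats 200000
set_option maxHeartbeats 1600000

universe u

open CategoryTheory MonoidalCategory CartesianMonoidalCategory MonObj GrpObj AlgebraicGeometry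
open Groth.Agent.RedPts82

noncomputable section

namespace Groth.Agent.AGF80.Luna

variable {k : Type u} [Field k] {K : Type u} [Field K] [IsAlgClosed K]
  (σ : Spec (CommRingCat.of K) ⟶ Spec (CommRingCat.of k))

/-- The maximal torus of a splitting stays maximal in the sense over a base. -/
theorem isMaximalTorus_bc {G T : Over (Spec (CommRingCat.of k))} [GrpObj G] [GrpObj T] (hG : Red.IsReductive G)
    {iT : T ⟶ G} (hT : Red.IsMaximalTorus iT) : Red.IsMaximalTorus ((Over.pullback σ).map iT) := by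
  obtain ⟨hm, hmono, ht, -⟩ := id (isMaxTorus_ext hG hT σ)
  haveI := hT.1
  refine ⟨hm, hmono, ht, fun s T' _ j _ _ f hT' hf => ?_⟩
  obtain ⟨e, henat, he⟩ := exists_bc_comp_iso σ (Red.geomPt s)
  haveI := (he G).2
  haveI : Mono (j ≫ (e G).inv) := mono_comp _ _
  haveI : IsMonHom (j ≫ (e G).inv) := inferInstance
  obtain ⟨-, -, -, hmax⟩ := isMaxTorus_ext hG hT (Red.geomPt s ≫ σ)
  have := hmax T' (j ≫ (e G).inv) ((e T).hom ≫ f) hT' (by
    rw [Category.assoc (e T).hom f, ← Category.assoc f j, hf, ← Category.assoc (e T).hom, henat iT]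
    exact (Category.assoc _ _ _).trans (by rw [Iso.hom_inv_id, Category.comp_id]))
  exact @IsIso.of_isIso_comp_left _ _ _ _ _ (e T).hom f ⟨(e T).inv, (e T).hom_inv_id, (e T).inv_hom_id⟩ this

/-- A reductive group stays reductive in the sense over a base. -/
theorem isReductive_bc {G : Over (Spec (CommRingCat.of k))} [GrpObj G] (hG : Red.IsReductive G) :
    Red.IsReductive (Red.bc σ G) := by
  haveI := hG.1
  haveI := hG.2.1
  exact ⟨MorphismProperty.pullback_snd (P := @IsAffineHom) _ _ hG.1,
    MorphismProperty.pullback_snd (P := @Smooth) _ _ hG.2.1,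
    fun s => isReductiveOver_bc (Red.geomPt s) (isReductiveOver_ext hG σ)⟩

variable {G : Over (Spec (CommRingCat.of k))} [GrpObj G] (D : Red.SplitRed G)

/-- The diagonalisation of the torus over the extension. -/
theorem exists_split_bc :
    ∃ e : Grp.mk (Red.bc σ D.T) ≅ Grp.mk (Red.DS (Spec (CommRingCat.of K)) D.M),
      ∀ (X : Over (Spec (CommRingCat.of K))) (t : X ⟶ Red.bc σ D.T) (m : D.M),
        dsFn (t ≫ e.hom.hom.hom) m = dsFn (toBase σ t ≫ D.split.hom.hom.hom) m := by
  obtain ⟨a, ham, hai, ha⟩ := exists_ds_bc σ D.M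
  haveI := ham
  haveI := hai
  haveI : IsMonHom (inv a) := isMonHom_of_points (inv a) fun X x y => by
    rw [← cancel_mono a, MonObj.mul_comp _ _ a]
    simp only [Category.assoc, IsIso.inv_hom_id, Category.comp_id]
  haveI : IsMonHom D.split.hom.hom.hom := D.split.hom.hom.isMonHom_hom
  haveI : IsIso D.split.hom.hom.hom :=
    ⟨D.split.inv.hom.hom, congrArg (fun f => f.hom.hom) D.split.hom_inv_id,
      congrArg (fun f => f.hom.hom) D.split.inv_hom_id⟩
  let h : Red.bc σ D.T ⟶ Red.DS (Spec (CommRingCat.of K)) D.M :=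
    (Over.pullback σ).map D.split.hom.hom.hom ≫ inv a
  refine ⟨Grp.mkIso' (asIso h), fun X t m => ?_⟩
  show dsFn (t ≫ h) m = _
  rw [← ha, ← toBase_comp_map σ t]
  congr 2
  simp [h]

/-- The diagonalisation. -/
def splitIso : Grp.mk (Red.bc σ D.T) ≅ Grp.mk (Red.DS (Spec (CommRingCat.of K)) D.M) :=
  (exists_split_bc σ D).choose

theorem splitIso_spec {X : Over (Spec (CommRingCat.of K))} (t : X ⟶ Red.bc σ D.T) (m : D.M) :
    dsFn (t ≫ (splitIso σ D).hom.hom.hom) m = dsFn (toBase σ t ≫ D.split.hom.hom.hom) m :=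
  (exists_split_bc σ D).choose_spec X t m

/-- A point of the additive group over the extension as a point over the base. -/
def gaT {X : Over (Spec (CommRingCat.of K))} (x : X ⟶ Red.Ga (Spec (CommRingCat.of K))) :
    (Over.map σ).obj X ⟶ Red.Ga (Spec (CommRingCat.of k)) :=
  gaPt (S := Spec (CommRingCat.of k)) (X := (Over.map σ).obj X)
    (Red.gaFn (S := Spec (CommRingCat.of K)) (X := X) x)

theorem gaFn_gaT {X : Over (Spec (CommRingCat.of K))} (x : X ⟶ Red.Ga (Spec (CommRingCat.of K))) :
    Red.gaFn (gaT σ x) = Red.gaFn x := gaFn_gaPt _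

/-- The comparison of the additive groups. -/
def gaB : Red.Ga (Spec (CommRingCat.of K)) ⟶ Red.bc σ (Red.Ga (Spec (CommRingCat.of k))) :=
  ofBase σ (gaT σ (𝟙 _))

theorem toBase_gaB {X : Over (Spec (CommRingCat.of K))} (x : X ⟶ Red.Ga (Spec (CommRingCat.of K))) :
    toBase σ (x ≫ gaB σ) = gaT σ x := by
  refine gaFn_injective ?_
  rw [gaB, toBase_comp, toBase_ofBase, gaFn_comp, gaFn_gaT, gaFn_gaT]
  have := gaFn_comp x (𝟙 (Red.Ga (Spec (CommRingCat.of K))))
  rw [Category.comp_id] at this
  exact this.symm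

theorem isIso_gaB : IsIso (gaB σ) := by
  let β : Red.bc σ (Red.Ga (Spec (CommRingCat.of k))) ⟶ Red.Ga (Spec (CommRingCat.of K)) :=
    gaPt (S := Spec (CommRingCat.of K)) (X := Red.bc σ (Red.Ga (Spec (CommRingCat.of k))))
      (Red.gaFn (S := Spec (CommRingCat.of k))
        (X := (Over.map σ).obj (Red.bc σ (Red.Ga (Spec (CommRingCat.of k))))) (toBase σ (𝟙 _)))
  have hβ : ∀ (X : Over (Spec (CommRingCat.of K))) (x : X ⟶ Red.bc σ (Red.Ga (Spec (CommRingCat.of k)))),
      Red.gaFn (x ≫ β) = Red.gaFn (toBase σ x) := by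
    intro X x
    rw [gaFn_comp, gaFn_gaPt]
    conv_rhs => rw [show x = x ≫ 𝟙 _ from (Category.comp_id x).symm, toBase_comp, gaFn_comp]
    rfl
  refine ⟨β, gaFn_injective ?_, toBase_injective σ (gaFn_injective ?_)⟩
  · rw [hβ, ← Category.id_comp (gaB σ), toBase_gaB, gaFn_gaT]
  · rw [toBase_gaB, gaFn_gaT, ← Category.id_comp β, hβ]

/-- The root homomorphism over the extension. -/
def rootBC (a : D.idx) : Red.Ga (Spec (CommRingCat.of K)) ⟶ Red.bc σ G :=
  gaB σ ≫ (Over.pullback σ).map (D.u a)

theorem toBase_rootBC (a : D.idx) {X : Over (Spec (CommRingCat.of K))} (x : X ⟶ Red.Ga (Spec (CommRingCat.of K))) :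
    toBase σ (x ≫ rootBC σ D a) = gaT σ x ≫ D.u a := by
  rw [rootBC, ← Category.assoc, toBase_comp_map, toBase_gaB]

theorem rootBC_isRootHom (a : D.idx) :
    Red.IsRootHom ((Over.pullback σ).map D.i)
      ((splitIso σ D).hom.hom.hom ≫ Red.chi (Spec (CommRingCat.of K)) (D.P.root a)) (rootBC σ D a) := by
  obtain ⟨hm, hcl, hconj⟩ := D.rootHom a
  haveI := hm
  haveI := hcl
  refine ⟨isMonHom_of_points _ fun X x y => toBase_injective σ ?_, ?_, fun X t x => ?_⟩
  · rw [toBase_mul, toBase_rootBC, toBase_rootBC, toBase_rootBC, ← MonObj.mul_comp]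
    refine congrArg (· ≫ D.u a) (gaFn_injective ?_)
    rw [gaFn_mul, gaFn_gaT, gaFn_gaT, gaFn_gaT, gaFn_mul]
  · haveI := isIso_gaB σ
    haveI : IsIso (gaB σ).left := inferInstanceAs (IsIso ((Over.forget _).map (gaB σ)))
    haveI : IsClosedImmersion ((Over.pullback σ).map (D.u a)).left := GeomSub.isClosedImmersion_bc σ (D.u a)
    rw [rootBC, Over.comp_left]
    infer_instance
  · obtain ⟨y, hy, hyf⟩ := hconj _ (toBase σ t) (gaT σ x)
    refine ⟨gaPt (S := Spec (CommRingCat.of K)) (X := X)
      (Red.gaFn (S := Spec (CommRingCat.of k)) (X := (Over.map σ).obj X) y), toBase_injective σ ?_, ?_⟩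
    · rw [toBase_rootBC, toBase_mul, toBase_mul, toBase_inv, toBase_comp_map, toBase_rootBC, ← hy]
      exact congrArg (· ≫ D.u a) (gaFn_injective ((gaFn_gaT σ _).trans (gaFn_gaPt _)))
    · rw [gaFn_gaPt, hyf, gaFn_gaT, ← Category.assoc, ← Category.assoc, gmFn_chi, gmFn_chi, splitIso_spec]

/-- The splitting over the extension. -/
def splitBC : Red.SplitRed (Red.bc σ G) where
  T := Red.bc σ D.T
  i := (Over.pullback σ).map D.i
  M := D.M
  idx := D.idx
  P := D.P
  pairing_eq := D.pairing_eq
  u := rootBC σ D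
  reductive := isReductive_bc σ D.reductive
  maximalTorus := isMaximalTorus_bc σ D.reductive D.maximalTorus
  split := splitIso σ D
  rootHom := rootBC_isRootHom σ D
  refl a := by
    obtain ⟨n, hn⟩ := D.refl a
    refine ⟨ofBase σ (toUnit _ ≫ n), fun X t => toBase_injective σ ?_⟩
    have e1 : toBase σ (toUnit X ≫ ofBase σ (toUnit ((Over.map σ).obj (𝟙_ _)) ≫ n)) = toUnit _ ≫ n := by
      rw [toBase_comp, toBase_ofBase, ← Category.assoc]
      exact congrArg (· ≫ n) (toUnit_unique _ _)
    rw [toBase_mul, toBase_mul, toBase_inv, e1, toBase_comp_map, hn, ← Category.assoc t,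
      ← Category.assoc (t ≫ _), ← Category.assoc ((t ≫ _) ≫ _), toBase_comp_map]
    simp only [← Category.assoc]
    refine congrArg (· ≫ D.i) ?_
    haveI : IsIso D.split.hom.hom.hom :=
      ⟨D.split.inv.hom.hom, congrArg (fun f => f.hom.hom) D.split.hom_inv_id,
        congrArg (fun f => f.hom.hom) D.split.inv_hom_id⟩
    rw [← cancel_mono D.split.hom.hom.hom]
    refine dsFn_injective fun m => ?_
    rw [← splitIso_spec]
    simp only [Category.assoc]
    rw [show D.split.inv.hom.hom ≫ D.split.hom.hom.hom = 𝟙 _ from congrArg (fun f => f.hom.hom) D.split.inv_hom_id,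
      show (splitIso σ D).inv.hom.hom ≫ (splitIso σ D).hom.hom.hom = 𝟙 _ from
        congrArg (fun f => f.hom.hom) (splitIso σ D).inv_hom_id, Category.comp_id, Category.comp_id,
      ← Category.assoc, ← Category.assoc, dsFn_DSmap, dsFn_DSmap, splitIso_spec]
  dim_fibre s := by
    obtain ⟨e, -, -⟩ := exists_bc_comp_iso σ (Red.geomPt s)
    let s₀ : ↥(Spec (CommRingCat.of k)) := IsLocalRing.closedPoint k
    rw [← D.dim_fibre s₀]
    haveI := D.reductive.1
    haveI := D.reductive.2.1
    have key : ∀ {L : Type u} [Field L] (g : Spec (CommRingCat.of L) ⟶ Spec (CommRingCat.of k)),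
        topologicalKrullDim ↥(Red.bc g G).left = topologicalKrullDim ↥G.left := fun {L} _ g => by
      obtain ⟨φ, rfl⟩ := Spec.map_surjective g
      exact FlatMor68.FibDimBC.dim_eq_of_isPullback_field φ.hom G.hom _ _ (IsPullback.of_hasPullback _ _)
    have h1 : topologicalKrullDim ↥(Red.bc (Red.geomPt s) (Red.bc σ G)).left =
        topologicalKrullDim ↥(Red.bc (Red.geomPt s ≫ σ) G).left :=
      IsHomeomorph.topologicalKrullDim_eq _ (Scheme.homeoOfIso ((Over.forget _).mapIso (e G).symm)).isHomeomorph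
    exact h1.trans ((key _).trans (key _).symm)

theorem splitBC_P : (splitBC σ D).P = D.P := rfl

end Groth.Agent.AGF80.Luna
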