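import Groth.Agent.AGF80.Luna.BorelSplit
import Groth.Agent.AGF80.Luna.SplitBC
import Groth.Agent.S3912

/-!
Every Borel subgroup containing the torus of a splitting belongs to a chamber.
-/

set_option autoImplicit false
set_option linter.unusedSectionVars false
set_option linter.style.haveILetI false
set_option backward.isDefEq.respectTransparency.types false

universe u

open CategoryTheory MonoidalCategory CartesianMonoidalCategory MonObj GrpObj AlgebraicGeometry
open CategoryTheory.Limits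
open Groth.Agent.RedPts82 Groth.Agent.RootDat34

namespace Groth.Agent.AGF80.Luna

variable {k : Type u} [Field k]

theorem exists_chamber {G : Over (Spec (CommRingCat.of k))} [GrpObj G] (D : Red.SplitRed G) :
    ∃ l : D.M →+ ℤ, Chamber D l := by
  rcases isEmpty_or_nonempty D.idx with h | ⟨⟨a⟩⟩
  · exact ⟨0, fun c => isEmptyElim c, fun c => isEmptyElim c⟩
  · obtain ⟨l, hl, -⟩ := exists_chamber_pos D (D.P.root a) (D.P.ne_zero a)
    exact ⟨l, hl⟩

/-- Over an algebraically closed field a Borel subgroup containing the torus is a chamber subgroup. -/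
theorem borel_eq_chamber [IsAlgClosed k] {G : Over (Spec (CommRingCat.of k))} [GrpObj G] (D : Red.SplitRed G)
    {B : Over (Spec (CommRingCat.of k))} [GrpObj B] (iB : B ⟶ G) (hB : Red.IsBorelOver k iB)
    (t : D.T ⟶ B) (ht : t ≫ iB = D.i) :
    ∃ l : D.M →+ ℤ, Chamber D l ∧
      ∀ (X : Over (Spec (CommRingCat.of k))) (g : X ⟶ G), (∃ b, b ≫ iB = g) ↔ InBorel D l g := by
  classical
  have hGr : Red.IsReductiveOver k G := isReductiveOver_of D.reductive
  obtain ⟨hGa, hGs, hGc, -⟩ := id hGr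
  haveI := hGa
  haveI := hGs
  haveI := hGc
  haveI hred := isReduced_splitRed D
  haveI := hB.1
  haveI := hB.2.1
  haveI := hB.2.2.1
  haveI := hB.2.2.2.1
  haveI : Mono iB := Over.mono_of_mono_left iB
  obtain ⟨l₀, hl₀⟩ := exists_chamber D
  obtain ⟨b₀, -⟩ := exists_baseChamber_of_chamber hl₀
  obtain ⟨B₀, _, i₀, t₀, hm₀, hc₀, hs₀, hcon₀, hsol₀, ht₀, hpts₀⟩ := exists_borelChamber hl₀
  have hB₀ := isBorelOver_chamber hl₀ i₀ hsol₀ t₀ ht₀ hpts₀
  obtain ⟨n, τ, σ, hτ, hσ⟩ := S3912.result k G D.T B₀ B D.i i₀ iB (isMaxTorus_of D.maximalTorus) hB₀ hB t₀ ht₀ t ht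
  have hconj : ∀ {H : Over (Spec (CommRingCat.of k))} (j : H ⟶ G) {X : Over (Spec (CommRingCat.of k))}
      (s : X ⟶ H), s ≫ AGF.conjBy n j = np n X * (s ≫ j) * (np n X)⁻¹ := fun j X s => by
    simp only [AGF.conjBy, MonObj.comp_mul, GrpObj.comp_inv, ← Category.assoc,
      toUnit_unique (s ≫ toUnit _) (toUnit X)]
  haveI : IsAffine (Spec (CommRingCat.of k)) := inferInstance
  haveI : Subsingleton (Spec (CommRingCat.of k)) := inferInstanceAs (Subsingleton (PrimeSpectrum k))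
  haveI : Nonempty (Spec (CommRingCat.of k)) := inferInstanceAs (Nonempty (PrimeSpectrum k))
  haveI : Nontrivial Γ(Spec (CommRingCat.of k), ⊤) :=
    (Scheme.ΓSpecIso (CommRingCat.of k)).symm.commRingCatIsoToRingEquiv.injective.nontrivial
  obtain ⟨φ, hφ⟩ := exists_conj D D n fun X s => ⟨s ≫ τ.hom, by rw [Category.assoc, hτ, hconj]⟩
  have hφi : Function.Injective φ :=
    OrzechProperty.injective_of_surjective_endomorphism φ.toIntLinearMap (surjective_of_conj hφ)
  choose ρ hρ using fun a => exists_root_of_conj hφ hφi a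
  have hρi : Function.Injective ρ := fun a c h => D.P.root.injective (hφi (by rw [← hρ, ← hρ, h]))
  let l : D.M →+ ℤ := l₀.comp φ
  have hl : ∀ a, l (D.P.root a) = l₀ (D.P.root (ρ a)) := fun a => by
    show l₀ (φ _) = _
    rw [hρ]
  have hch : Chamber D l := ⟨fun a c h => hρi (hl₀.inj (by simpa only [hl] using h)),
    fun c => by rw [hl]; exact hl₀.ne _⟩
  have hroot : ∀ a, 0 < l (D.P.root a) → ∀ (X : Over (Spec (CommRingCat.of k))) (r : Γ(X.left, ⊤)),
      ∃ b : X ⟶ B, b ≫ iB = rp D a r := by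
    intro a ha X r
    haveI hua : IsMonHom (D.u a) := (D.rootHom a).1
    let v : Red.Ga (Spec (CommRingCat.of k)) ⟶ G := (np n _)⁻¹ * D.u a * np n _
    have hv : ∀ {X : Over (Spec (CommRingCat.of k))} (x : X ⟶ Red.Ga (Spec (CommRingCat.of k))),
        x ≫ v = (np n X)⁻¹ * (x ≫ D.u a) * np n X := fun x => by
      simp only [v, MonObj.comp_mul, GrpObj.comp_inv, comp_np]
    haveI : IsMonHom v := isMonHom_of_points _ fun Z x y => by
      rw [hv, hv, hv, @MonObj.mul_comp _ _ _ _ _ _ _ _ x y (D.u a) (D.rootHom a).1]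
      group
    obtain ⟨c, hc⟩ := exists_coord_of_weight b₀ (ρ a) v fun Z s y => by
      have h1 := tpt_conj_rp (D := D) (s ≫ Red.DSmap _ φ) a y
      rw [dsFn_DSmap, ← hρ a, ← hφ Z s] at h1
      show tpt D s * (gaPt y ≫ v) * (tpt D s)⁻¹ = _
      rw [hv, hv]
      change _ = (np n Z)⁻¹ * rp D a _ * np n Z
      rw [← h1]
      simp only [rp]
      group
    have e := hc X r
    rw [hv] at e
    obtain ⟨b, hb⟩ := (hpts₀ X (rp D (ρ a) (X.hom.appTop c * r))).mpr
      ⟨1, _, rp_mem_up (by rw [← hl]; exact ha) _, by rw [tpt_one, _root_.one_mul]⟩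
    refine ⟨b ≫ σ.hom, ?_⟩
    rw [Category.assoc, hσ, hconj, hb]
    show np n X * (gaPt (X.hom.appTop c * r) ≫ D.u (ρ a)) * (np n X)⁻¹ = _
    rw [← e]
    group
  obtain ⟨B₁, _, i₁, t₁, hm₁, hc₁, hs₁, hcon₁, hsol₁, ht₁, hpts₁⟩ := exists_borelChamber hch
  have hle : ∀ (X : Over (Spec (CommRingCat.of k))) (g : X ⟶ G), InBorel D l g → ∃ b : X ⟶ B, b ≫ iB = g := by
    rintro X g ⟨s, v, hv, rfl⟩
    obtain ⟨x, rfl⟩ := hch.exists_prod posEnum_injective posEnum_range hv
    choose y hy using fun j => hroot _ (posEnum_pos j) X (x j)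
    refine ⟨((s ≫ D.split.inv.hom.hom) ≫ t) * (List.ofFn y).prod, ?_⟩
    rw [MonObj.mul_comp, Category.assoc, ht, Category.assoc]
    congr 1
    let Φ : (X ⟶ B) →* (X ⟶ G) :=
      { toFun := fun b => b ≫ iB, map_one' := MonObj.one_comp iB, map_mul' := fun a c => MonObj.mul_comp a c iB }
    show Φ (List.ofFn y).prod = _
    rw [map_list_prod, List.map_ofFn]
    congr 1
    exact congrArg List.ofFn (funext hy)
  obtain ⟨f, hf⟩ := hle B₁ i₁ ((hpts₁ _ _).mp ⟨𝟙 _, Category.id_comp _⟩)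
  have hB₁ := isBorelOver_chamber hch i₁ hsol₁ t₁ ht₁ hpts₁
  haveI := hB₁.2.2.2.2.2 B iB f hB.2.1 hB.2.2.1 hB.2.2.2.1 hB.2.2.2.2.1 hf
  refine ⟨l, hch, fun X g => ⟨fun ⟨b, hb⟩ => (hpts₁ X g).mp ⟨b ≫ inv f, ?_⟩, hle X g⟩⟩
  rw [Category.assoc, ← hf, IsIso.inv_hom_id_assoc, hb]

/-- Of two opposite root groups exactly one lies in a Borel subgroup containing the torus. -/
theorem borel_root_xor {G : Over (Spec (CommRingCat.of k))} [GrpObj G] (D : Red.SplitRed G)
    {B : Over (Spec (CommRingCat.of k))} [GrpObj B] (iB : B ⟶ G) (hB : Red.IsBorel iB)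
    (t : D.T ⟶ B) (ht : t ≫ iB = D.i) (a : D.idx) :
    Xor' (∃ f : Red.Ga (Spec (CommRingCat.of k)) ⟶ B, f ≫ iB = D.u a)
      (∃ f : Red.Ga (Spec (CommRingCat.of k)) ⟶ B, f ≫ iB = D.u (negIdx D a)) := by
  haveI := hB.2.1
  let s : Spec (CommRingCat.of k) := IsLocalRing.closedPoint k
  let K := AlgebraicClosure ((Spec (CommRingCat.of k)).residueField s)
  let σ : Spec (CommRingCat.of K) ⟶ Spec (CommRingCat.of k) := Red.geomPt s
  have hBK : Red.IsBorelOver K ((Over.pullback σ).map iB) := hB.2.2.2 s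
  let D' := splitBC σ D
  let t' : Red.bc σ D.T ⟶ Red.bc σ B := (Over.pullback σ).map t
  have ht' : t' ≫ (Over.pullback σ).map iB = D'.i := by
    show (Over.pullback σ).map t ≫ (Over.pullback σ).map iB = (Over.pullback σ).map D.i
    rw [← Functor.map_comp, ht]
  obtain ⟨l, hl, hpts⟩ := borel_eq_chamber D' ((Over.pullback σ).map iB) hBK t' ht'
  obtain ⟨hga, hgs, -, -⟩ := ga_facts (k := K)
  have hredGa : IsReduced (Red.Ga (Spec (CommRingCat.of k))).left := by
    obtain ⟨hs, -⟩ := polyGa_base_facts k (Red.Ga (Spec (CommRingCat.of k))) (Iso.refl _)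
    exact SpFP87.isReduced_of_smooth (Red.Ga (Spec (CommRingCat.of k))).hom
  haveI := isIso_gaB σ
  have key : ∀ c : D.idx, 0 < l (D'.P.root c) →
      ∃ f : Red.Ga (Spec (CommRingCat.of k)) ⟶ B, f ≫ iB = D.u c := fun c hc => by
    obtain ⟨f', hf'⟩ := (hpts (Red.Ga (Spec (CommRingCat.of K))) (D'.u c)).mpr
      ⟨1, D'.u c, by
        have := rp_mem_up (D := D') hc (Red.gaFn (𝟙 (Red.Ga (Spec (CommRingCat.of K)))))
        rwa [rp_eq, Category.id_comp] at this,
        by rw [tpt_one, _root_.one_mul]⟩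
    refine exists_factor_of_bc σ (D.u c) iB ⟨CategoryTheory.inv (gaB σ) ≫ f', ?_⟩
    rw [Category.assoc, hf', IsIso.inv_comp_eq]
    rfl
  have notboth : (∃ f : Red.Ga (Spec (CommRingCat.of k)) ⟶ B, f ≫ iB = D.u a) →
      (∃ f : Red.Ga (Spec (CommRingCat.of k)) ⟶ B, f ≫ iB = D.u (negIdx D a)) → False := by
    rintro ⟨f, hf⟩ ⟨g, hg⟩
    haveI := hBK.1
    haveI := hBK.2.1
    haveI := hBK.2.2.1
    haveI := hBK.2.2.2.1
    exact no_pair (D := D') a ((Over.pullback σ).map iB) hBK.2.2.2.2.1 t' ht'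
      (gaB σ ≫ (Over.pullback σ).map f) (by rw [Category.assoc, ← Functor.map_comp, hf]; rfl)
      (gaB σ ≫ (Over.pullback σ).map g) (by rw [Category.assoc, ← Functor.map_comp, hg]; rfl)
  rcases lt_or_gt_of_ne (hl.ne a) with h | h
  · have h' := key (negIdx D a) (by
      show 0 < l (D'.P.root (negIdx D' a))
      rw [root_negIdx, map_neg]; omega)
    exact Or.inr ⟨h', fun h2 => notboth h2 h'⟩
  · exact Or.inl ⟨key a h, fun h2 => notboth (key a h) h2⟩

end Groth.Agent.AGF80.Luna
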