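import Groth.Agent.AGF80.Luna.Cartan
import Groth.Agent.AGF80.GeomSub
import Groth.Agent.Unip38.Unipotent
import Groth.Agent.Comod33.IdentityComp
import Groth.Agent.S3006
import Groth.Agent.S8473

/-!
In a reductive group, a point centralising a maximal torus lies in it.
-/

set_option autoImplicit false
set_option linter.unusedSectionVars false
set_option linter.style.haveILetI false
set_option backward.isDefEq.respectTransparency.types false
set_option synthInstance.maxHeartbeats 200000

universe u

open CategoryTheory MonoidalCategory CartesianMonoidalCategory MonObj GrpObj AlgebraicGeometry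
open scoped TensorProduct
open WithConv Groth.Agent.GMod80

noncomputable section

namespace Groth.Agent.AGF80.Luna

open Comod33 AlgGrp79

variable {k : Type u} [Field k]

/-- In a reductive group over an algebraically closed field, points commuting with a maximal torus lie in it. -/
theorem exists_factor_of_comm [IsAlgClosed k] {G : Over (Spec (CommRingCat.of k))} [GrpObj G] (hG : Red.IsReductiveOver k G)
    {T : Over (Spec (CommRingCat.of k))} [GrpObj T] {iT : T ⟶ G} (hT : AGF.IsMaxTorus iT)
    {X : Over (Spec (CommRingCat.of k))} (g : X ⟶ G)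
    (hg : ∀ (X' : Over (Spec (CommRingCat.of k))) (x : X' ⟶ X) (s : X' ⟶ T),
      (x ≫ g) * (s ≫ iT) = (s ≫ iT) * (x ≫ g)) : ∃ f : X ⟶ T, f ≫ iT = g := by
  obtain ⟨hGa, hGs, hGc, hU⟩ := hG
  haveI := hGa
  haveI := hGs
  haveI := hGc
  obtain ⟨hTm, hTmono, hTt, -⟩ := id hT
  haveI := hTm
  haveI := hTmono
  have hcl := BorelCor.isClosedImmersion_torus G hTt iT
  obtain ⟨⟨C, _, c, hc, -, -⟩, -⟩ := Groth.Agent.S3006.result _ G T iT hcl hTt
  obtain ⟨w, hw⟩ := (hc.2.2 X g).2 hg
  obtain ⟨U, _, u, _, hucl, hus, huc, hn, nU, hmax⟩ := UnipExist.exists_unipRad G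
  haveI := hucl
  haveI := hus
  haveI := huc
  have hUR : Par.IsUnipotentRadical u := UnipBasic.isUnipotentRadical_of_largest u hn nU
    fun V _ v _ h1 h2 h3 h4 h5 => hmax V v h1 h2 h3 h4 h5
  obtain ⟨f, hf⟩ := exists_cent_le_torus G hUR (hU U u hucl hus huc hn nU) hT hc
  exact ⟨w ≫ f, by rw [Category.assoc, hf, hw]⟩

/-- A factorization through a closed subscheme is detected after a field extension. -/
theorem exists_factor_of_bc {L : Type u} [Field L] (f : Spec (CommRingCat.of L) ⟶ Spec (CommRingCat.of k))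
    {Z T G : Over (Spec (CommRingCat.of k))} (z : Z ⟶ G) (iT : T ⟶ G) [IsClosedImmersion iT.left]
    (h : ∃ φ : Red.bc f Z ⟶ Red.bc f T, φ ≫ (Over.pullback f).map iT = (Over.pullback f).map z) :
    ∃ w : Z ⟶ T, w ≫ iT = z := by
  obtain ⟨φ, hφ⟩ := h
  haveI := GeomSub.flat_spec f
  haveI := GeomSub.surjective_spec f
  have sq := IsPullback.of_hasPullback z iT
  let p : Limits.pullback z iT ⟶ Z := Limits.pullback.fst z iT
  haveI hp : IsClosedImmersion p.left := MorphismProperty.of_isPullback (AlgGrp79.isPullback_left sq).flip inferInstance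
  let s := (sq.map (Over.pullback f)).lift (𝟙 (Red.bc f Z)) φ (by rw [Category.id_comp, hφ])
  have hs : s ≫ (Over.pullback f).map p = 𝟙 _ := IsPullback.lift_fst _ _ _ _
  haveI : IsClosedImmersion ((Over.pullback f).map p).left := GeomSub.isClosedImmersion_bc f p
  haveI : Mono ((Over.pullback f).map p) := Over.mono_of_mono_left _
  haveI : IsSplitEpi ((Over.pullback f).map p) := IsSplitEpi.mk' ⟨s, hs⟩
  haveI : IsIso ((Over.pullback f).map p) := isIso_of_mono_of_isSplitEpi _
  haveI : IsIso ((Over.pullback f).map p).left := ((Over.forget _).mapIso (asIso ((Over.pullback f).map p))).isIso_hom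
  haveI : MorphismProperty.DescendsAlong (MorphismProperty.isomorphisms Scheme.{u}) Unr55.fpqc.{u} := by
    unfold Unr55.fpqc; infer_instance
  haveI : Flat (Limits.pullback.fst Z.hom f) := MorphismProperty.pullback_fst _ _ inferInstance
  haveI : Surjective (Limits.pullback.fst Z.hom f) := MorphismProperty.pullback_fst _ _ inferInstance
  haveI : QuasiCompact f := inferInstance
  haveI : QuasiCompact (Limits.pullback.fst Z.hom f) := MorphismProperty.pullback_fst _ _ inferInstance
  haveI : IsIso p.left := MorphismProperty.of_isPullback_of_descendsAlong (P := MorphismProperty.isomorphisms Scheme.{u})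
    (Q := Unr55.fpqc.{u}) (RedPts82.isPullback_bc_map p f).flip
    (⟨⟨inferInstance, inferInstance⟩, inferInstance⟩ : Unr55.fpqc.{u} (Limits.pullback.fst Z.hom f))
    (‹IsIso ((Over.pullback f).map p).left›)
  haveI : IsIso ((Over.forget _).map p) := ‹IsIso p.left›
  haveI : IsIso p := isIso_of_reflects_iso p (Over.forget _)
  exact ⟨inv p ≫ Limits.pullback.snd z iT, by
    rw [Category.assoc, ← Limits.pullback.condition]
    exact IsIso.inv_hom_id_assoc p z⟩

/-- The base change to an algebraic closure of a maximal torus. -/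
theorem isMaxTorus_geom {G T : Over (Spec (CommRingCat.of k))} [GrpObj G] [GrpObj T] [IsAffineHom G.hom] [Smooth G.hom]
    {iT : T ⟶ G} (hT : Red.IsMaximalTorus iT) (s : ↥(Spec (CommRingCat.of k))) :
    IsClosedImmersion iT.left ∧ AGF.IsMaxTorus ((Over.pullback (Red.geomPt s)).map iT) := by
  obtain ⟨hm, hmono, hTt, hmax⟩ := hT
  haveI := hm
  haveI := hmono
  haveI : LocallyOfFiniteType T.hom :=
    haveI : MorphismProperty.DescendsAlong (@LocallyOfFiniteType : MorphismProperty Scheme.{u}) Unr55.fpqc.{u} := by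
      unfold Unr55.fpqc; infer_instance
    RedPts82.isTorus_prop (@LocallyOfFiniteType) hTt fun U r => Groth.Agent.S8473.lft_ds U _
  haveI := RedPts82.isTorus_isAffineHom hTt
  haveI : IsAffine G.left := isAffine_of_isAffineHom G.hom
  haveI hcl : IsClosedImmersion iT.left := QuotSub.isClosedImmersion_of_mono iT
  refine ⟨hcl, inferInstance, inferInstance, AlgGrp79.TorusBC.isTorus_bc (Red.geomPt s) hTt, fun T' _ j _ _ f h1 h2 =>
    hmax s T' j f h1 h2⟩

/-- The centre of a reductive group lies in every maximal torus. -/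
theorem centre_le_torus {G : Over (Spec (CommRingCat.of k))} [GrpObj G] (hG : Red.IsReductive G)
    {Z : Over (Spec (CommRingCat.of k))} [GrpObj Z] {z : Z ⟶ G} (hz : Red.IsCentre z)
    {T : Over (Spec (CommRingCat.of k))} [GrpObj T] {iT : T ⟶ G} (hT : Red.IsMaximalTorus iT) :
    ∃ f : Z ⟶ T, f ≫ iT = z := by
  let s : ↥(Spec (CommRingCat.of k)) := IsLocalRing.closedPoint k
  haveI := hG.1
  haveI := hG.2.1
  obtain ⟨hcl, hT'⟩ := isMaxTorus_geom hT s
  haveI := hcl
  refine exists_factor_of_bc (Red.geomPt s) z iT (exists_factor_of_comm (hG.2.2 s) hT' _ fun X' x t => ?_)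
  refine RedPts82.toBase_injective (Red.geomPt s) ?_
  simp only [RedPts82.toBase_mul, RedPts82.toBase_comp_map]
  have h := (hz.2.2 _ (RedPts82.toBase (Red.geomPt s) x ≫ z)).1 ⟨_, rfl⟩ _ (𝟙 _)
    (RedPts82.toBase (Red.geomPt s) t ≫ iT)
  simpa using h

theorem isHopfIdeal_sup {A : Type u} [CommRing A] [HopfAlgebra k A] (I J : Ideal A) [I.IsHopfIdeal k] [J.IsHopfIdeal k] :
    (I ⊔ J).IsHopfIdeal k := by
  have hdec : ∀ {x : A}, x ∈ I ⊔ J → ∃ a ∈ I, ∃ b ∈ J, a + b = x := fun hx => Submodule.mem_sup.1 hx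
  refine { counit_eq_zero := ?_, map_mkQ_comul_eq_zero := ?_, antipode_mem := ?_ }
  · intro x hx
    obtain ⟨a, ha, b, hb, rfl⟩ := hdec hx
    rw [map_add, Submodule.IsCoideal.counit_eq_zero (I := I.restrictScalars k) ha,
      Submodule.IsCoideal.counit_eq_zero (I := J.restrictScalars k) hb, add_zero]
  · intro x hx
    obtain ⟨a, ha, b, hb, rfl⟩ := hdec hx
    have key : ∀ (K : Ideal A) [K.IsHopfIdeal k], K ≤ I ⊔ J → ∀ y ∈ K,
        TensorProduct.map ((I ⊔ J).restrictScalars k).mkQ ((I ⊔ J).restrictScalars k).mkQ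
          (CoalgebraStruct.comul (R := k) y) = 0 := by
      intro K _ hK y hy
      have e : ((I ⊔ J).restrictScalars k).mkQ =
          Submodule.factor (p := K.restrictScalars k) (p' := (I ⊔ J).restrictScalars k) (fun z hz => hK hz) ∘ₗ
            (K.restrictScalars k).mkQ := (Submodule.factor_comp_mk _).symm
      rw [e, TensorProduct.map_comp, LinearMap.comp_apply,
        Submodule.IsCoideal.map_mkQ_comul_eq_zero (I := K.restrictScalars k) hy, map_zero]
    rw [map_add, map_add, key I le_sup_left a ha, key J le_sup_right b hb, add_zero]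
  · intro x hx
    obtain ⟨a, ha, b, hb, rfl⟩ := hdec hx
    rw [map_add]
    exact add_mem (Ideal.mem_sup_left (Ideal.IsHopfIdeal.antipode_mem (R := k) ha))
      (Ideal.mem_sup_right (Ideal.IsHopfIdeal.antipode_mem (R := k) hb))

/-- A diagonalisable quotient and a unipotent quotient of a Hopf algebra only meet in the trivial group. -/
theorem sup_ker_eq {A D Q : Type u} [CommRing A] [HopfAlgebra k A] [CommRing D] [HopfAlgebra k D] [CommRing Q]
    [HopfAlgebra k Q] (hD : HopfRep.IsDiagonalizable k D) (hQ : HopfRep.IsUnipotent k Q)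
    (τ : A →ₐc[k] D) (hτ : Function.Surjective τ) (π : A →ₐc[k] Q) (hπ : Function.Surjective π) (a : A) :
    a - algebraMap k A (CoalgebraStruct.counit (R := k) a) ∈
      RingHom.ker (τ : A →ₐ[k] D) ⊔ RingHom.ker (π : A →ₐ[k] Q) := by
  classical
  let I := RingHom.ker (τ : A →ₐ[k] D)
  let J := RingHom.ker (π : A →ₐ[k] Q)
  haveI : I.IsHopfIdeal k := IdComp.isHopfIdeal_ker τ hτ
  haveI : J.IsHopfIdeal k := IdComp.isHopfIdeal_ker π hπ
  haveI := isHopfIdeal_sup (k := k) I J
  let q : A →ₐc[k] A ⧸ (I ⊔ J) := Bialgebra.Quotient.mkBialgHom (R := k) _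
  have hq : ∀ {x : A}, q x = 0 ↔ x ∈ I ⊔ J := fun {x} => Ideal.Quotient.eq_zero_iff_mem
  obtain ⟨qD, hqD⟩ := CentTorusPts.exists_factor τ hτ q fun x hx => hq.2 (Ideal.mem_sup_left hx)
  obtain ⟨qQ, hqQ⟩ := CentTorusPts.exists_factor π hπ q fun x hx => hq.2 (Ideal.mem_sup_right hx)
  have hsurjQ : Function.Surjective qQ := fun y => by
    obtain ⟨x, rfl⟩ := Ideal.Quotient.mk_surjective y
    exact ⟨π x, hqQ x⟩
  have hU := Unip38.isUnipotent_of_surjective qQ hsurjQ hQ
  have hgl : ∀ χ : D, IsGroupLikeElem k χ → qD χ = 1 := fun χ hχ => by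
    let E := A ⧸ (I ⊔ J)
    have hg : IsGroupLikeElem k (qD χ) := hχ.map qD
    let L : Submodule k E := Submodule.span k {qD χ}
    have hL : HopfRep.IsSubcomod (k := k) (A := E) L := by
      intro w hw
      obtain ⟨c, rfl⟩ := Submodule.mem_span_singleton.1 hw
      refine ⟨(c • (⟨qD χ, Submodule.mem_span_singleton_self _⟩ : L)) ⊗ₜ[k] qD χ, ?_⟩
      show _ = CoalgebraStruct.comul (R := k) (c • qD χ)
      rw [map_smul, hg.comul_eq_tmul_self, LinearMap.rTensor_tmul, Submodule.subtype_apply,
        TensorProduct.smul_tmul']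
      rfl
    letI cL := ComodSub.Comod.restr (HopfRep.Comod.regular k E) L hL
    have hne : qD χ ≠ 0 := fun e => by
      have := hg.counit_eq_one
      rw [e, map_zero] at this
      exact zero_ne_one this
    haveI : Nontrivial L := ⟨⟨⟨qD χ, Submodule.mem_span_singleton_self _⟩, 0, fun e => hne (congrArg Subtype.val e)⟩⟩
    obtain ⟨x, hx, hx0⟩ := Submodule.exists_mem_ne_zero_of_ne_bot (hU L inferInstance inferInstance)
    obtain ⟨c, hc⟩ := Submodule.mem_span_singleton.1 x.2
    have hc0 : c ≠ 0 := fun e => hx0 (Subtype.ext (by rw [← hc, e, zero_smul]; rfl))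
    have h2 : CoalgebraStruct.comul (R := k) (x : E) = (x : E) ⊗ₜ[k] (1 : E) := by
      have h1 : cL.coact x = x ⊗ₜ[k] (1 : E) := hx
      have h3 := congrArg (L.subtype.rTensor E) h1
      rw [ComodSub.restr_coact_coe, LinearMap.rTensor_tmul] at h3
      exact h3
    rw [← hc, map_smul, hg.comul_eq_tmul_self, ← TensorProduct.smul_tmul'] at h2
    have h4 := congrArg (fun z => TensorProduct.lid k E ((CoalgebraStruct.counit (R := k) (A := E)).rTensor E z))
      (smul_right_injective _ hc0 h2)
    simpa [hg.counit_eq_one] using h4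
  have htop : Submodule.span k {g : D | IsGroupLikeElem k g} = ⊤ := hD
  have hext : ∀ d : D, qD d = algebraMap k _ (CoalgebraStruct.counit (R := k) d) := fun d => by
    have hd : d ∈ Submodule.span k {g : D | IsGroupLikeElem k g} := by rw [htop]; trivial
    induction hd using Submodule.span_induction with
    | mem g hg => rw [hgl g hg, hg.counit_eq_one, map_one]
    | zero => simp
    | add x y _ _ hx hy => rw [map_add, map_add, map_add, hx, hy]
    | smul c x _ hx => rw [map_smul, map_smul, hx, smul_eq_mul, map_mul, Algebra.smul_def]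
  refine hq.1 ?_
  have h1 := hext (τ a)
  rw [hqD, CoalgHomClass.counit_comp_apply] at h1
  rw [map_sub, h1, sub_eq_zero]
  exact (AlgHomClass.commutes q _).symm

end Groth.Agent.AGF80.Luna
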