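import Groth.Agent.AGF80.Luna.ChamberBase
import Groth.Agent.RedPts82.SubGrp
import Groth.Agent.RedPts82.BorelClosed
import Groth.Agent.FBase64.Geometric

/-!
The solvable subgroup attached to a chamber of a splitting over a field.
-/

set_option autoImplicit false
set_option linter.unusedSectionVars false
set_option backward.isDefEq.respectTransparency.types false

universe u

open CategoryTheory MonoidalCategory CartesianMonoidalCategory MonObj GrpObj AlgebraicGeometry
open Groth.Agent.RedPts82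

namespace Groth.Agent.AGF80.Luna

variable {k : Type u} [Field k] {G : Over (Spec (CommRingCat.of k))} [GrpObj G]
  {D : Red.SplitRed G} {l : D.M →+ ℤ}

theorem geometricallyConnected_grp (H : Over (Spec (CommRingCat.of k))) [GrpObj H] [ConnectedSpace H.left] :
    GeometricallyConnected H.hom := by
  haveI : GeometricallyConnected (η[H].left ≫ H.hom) := by
    rw [Over.w η[H]]
    haveI : IsIso (𝟙_ (Over (Spec (CommRingCat.of k)))).hom := inferInstanceAs (IsIso (𝟙 (Spec (CommRingCat.of k))))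
    exact FBase64.geometricallyConnected_of_geometricallyIrreducible _ (h := ⟨fun K _ y Z p q hp => by
      have : IsIso q := hp.isIso_snd_of_isIso
      exact q.homeomorph.symm.surjective.irreducibleSpace q.homeomorph.symm.continuous⟩)
  haveI : Nonempty (𝟙_ (Over (Spec (CommRingCat.of k)))).left := ⟨IsLocalRing.closedPoint k⟩
  exact FBase64.geometricallyConnected_of_source (k := k) H.hom η[H].left

theorem rp_eq {X : Over (Spec (CommRingCat.of k))} (c : D.idx) (x : X ⟶ Red.Ga (Spec (CommRingCat.of k))) :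
    rp D c (Red.gaFn x) = x ≫ D.u c := by
  simp only [rp, gaPt_gaFn]

theorem inBorel_one (X : Over (Spec (CommRingCat.of k))) : InBorel D l (1 : X ⟶ G) :=
  ⟨1, 1, one_mem _, by rw [tpt_one, _root_.one_mul]⟩

theorem inBorel_mul {X : Over (Spec (CommRingCat.of k))} {g h : X ⟶ G} (hg : InBorel D l g)
    (hh : InBorel D l h) : InBorel D l (g * h) := by
  obtain ⟨t, v, hv, rfl⟩ := hg
  obtain ⟨s, w, hw, rfl⟩ := hh
  have := fixed_conj_up (l := l) (tpt_mem_fixed (D := D) s⁻¹) hv
  rw [tpt_inv, _root_.inv_inv] at this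
  refine ⟨t * s, (tpt D s)⁻¹ * v * tpt D s * w, mul_mem this hw, ?_⟩
  rw [tpt_mul]
  group

theorem inBorel_inv {X : Over (Spec (CommRingCat.of k))} {g : X ⟶ G} (hg : InBorel D l g) :
    InBorel D l g⁻¹ := by
  obtain ⟨t, v, hv, rfl⟩ := hg
  refine ⟨t⁻¹, tpt D t * v⁻¹ * (tpt D t)⁻¹, fixed_conj_up (tpt_mem_fixed t) (inv_mem hv), ?_⟩
  rw [tpt_inv]
  group

theorem inBorel_comp {X X' : Over (Spec (CommRingCat.of k))} (f : X' ⟶ X) {g : X ⟶ G}
    (hg : InBorel D l g) : InBorel D l (f ≫ g) := by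
  obtain ⟨t, v, hv, rfl⟩ := hg
  exact ⟨f ≫ t, f ≫ v, Up.comp hv f, by rw [MonObj.comp_mul, comp_tpt]⟩

/-- The points of the torus times the positive root groups. -/
theorem inBorel_iff {N : ℕ} {e : Fin N → D.idx} (hl : Chamber D l) (he : Function.Injective e)
    (hr : Set.range e = {c | 0 < l (D.P.root c)}) {X : Over (Spec (CommRingCat.of k))} (g : X ⟶ G) :
    InBorel D l g ↔ ∃ w : X ⟶ Red.DS (Spec (CommRingCat.of k)) D.M ⊗ RedSub.pow (Red.Ga _) N,
      w ≫ ((fst _ _ ≫ D.split.inv.hom.hom ≫ D.i) *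
        (snd _ _ ≫ RedSub.prodMap (Red.Ga _) N fun j => D.u (e j))) = g := by
  constructor
  · rintro ⟨t, v, hv, rfl⟩
    obtain ⟨x, rfl⟩ := hl.exists_prod he hr hv
    refine ⟨lift t (powTuple fun j => gaPt (x j)), ?_⟩
    rw [MonObj.comp_mul, lift_fst_assoc, lift_snd_assoc, prodMap_pt]
    simp only [powTuple_proj, rp]
    rfl
  · rintro ⟨w, rfl⟩
    rw [MonObj.comp_mul, ← Category.assoc w (fst _ _), ← Category.assoc w (snd _ _), prodMap_pt]
    refine ⟨w ≫ fst _ _, _, ?_, rfl⟩
    have := prod_mem_up (l := l) e (fun j => (Set.ext_iff.mp hr (e j)).mp ⟨j, rfl⟩)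
      (fun j => Red.gaFn ((w ≫ snd _ _) ≫ powProj (Red.Ga _) N j))
    simpa only [rp_eq] using this

section Tail

variable [LinearOrder D.M] [IsOrderedAddMonoid D.M] {N : ℕ} {e : Fin N → D.idx}

/-- The subgroup of products of the root groups from the `i`-th on. -/
noncomputable def tailSub (H : OrdEnum D e) (i : ℕ) (X : Over (Spec (CommRingCat.of k))) :
    Subgroup (X ⟶ G) where
  carrier := {g | ∃ x, IsTail i x ∧ g = uProd D e x}
  mul_mem' := by
    rintro _ _ ⟨x, hx, rfl⟩ ⟨y, hy, rfl⟩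
    obtain ⟨z, hz, hz'⟩ := H.tail_mul i x y hx hy
    exact ⟨z, hz, hz'.symm⟩
  one_mem' := ⟨fun _ => gaPt 0, fun _ _ => rfl, (uProd_zero e).symm⟩
  inv_mem' := by
    rintro _ ⟨x, hx, rfl⟩
    obtain ⟨z, hz, hz'⟩ := H.tail_inv i x hx
    exact ⟨z, hz, hz'.symm⟩

theorem tailSub_conj (H : OrdEnum D e) (i : ℕ) {X : Over (Spec (CommRingCat.of k))}
    (x : Fin N → (X ⟶ Red.Ga (Spec (CommRingCat.of k)))) {g : X ⟶ G} (hg : g ∈ tailSub H i X) :
    uProd D e x * g * (uProd D e x)⁻¹ ∈ tailSub H i X := by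
  obtain ⟨y, hy, rfl⟩ := hg
  obtain ⟨z, hz, hz', -⟩ := H.tail_conj i x y hy
  exact ⟨z, hz, hz'.symm⟩

theorem tailSub_eq_bot (H : OrdEnum D e) {i : ℕ} (hi : N ≤ i) (X : Over (Spec (CommRingCat.of k))) :
    tailSub H i X = ⊥ := by
  refine eq_bot_iff.mpr ?_
  rintro _ ⟨x, hx, rfl⟩
  have : x = fun _ => gaPt 0 := funext fun j => hx j (lt_of_lt_of_le j.2 hi)
  rw [Subgroup.mem_bot, this, uProd_zero]

/-- A commutator with a tail lies in the next tail. -/
theorem commutator_mem_tail (H : OrdEnum D e) (i : ℕ) {X : Over (Spec (CommRingCat.of k))} {g h : X ⟶ G}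
    (hg : g ∈ tailSub H i X) (hh : h ∈ tailSub H i X) : g * h * g⁻¹ * h⁻¹ ∈ tailSub H (i + 1) X := by
  obtain ⟨x, -, rfl⟩ := hg
  obtain ⟨y, hy, rfl⟩ := hh
  obtain ⟨z, hz, hz', hzi⟩ := H.tail_conj i x y hy
  rw [← hz']
  by_cases hi : i < N
  · have hupd : ∀ w : Fin N → (X ⟶ Red.Ga (Spec (CommRingCat.of k))), IsTail i w →
        IsTail (i + 1) (Function.update w ⟨i, hi⟩ (gaPt 0)) := fun w hw j hj => by
      by_cases e : j = ⟨i, hi⟩
      · rw [e, Function.update_self]
      · rw [Function.update_of_ne e]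
        exact hw j (lt_of_le_of_ne (Nat.lt_succ_iff.mp hj) fun he => e (Fin.ext he))
    rw [uProd_split e ⟨i, hi⟩ z hz, uProd_split e ⟨i, hi⟩ y hy, hzi ⟨i, hi⟩ rfl]
    have hc : y ⟨i, hi⟩ ≫ D.u (e ⟨i, hi⟩) = uProd D e (Function.update (fun _ => gaPt 0) ⟨i, hi⟩ (y ⟨i, hi⟩)) :=
      (uProd_single e _ _).symm
    have := tailSub_conj H (i + 1) (Function.update (fun _ => gaPt 0) ⟨i, hi⟩ (y ⟨i, hi⟩))
      (mul_mem (show uProd D e (Function.update z ⟨i, hi⟩ (gaPt 0)) ∈ tailSub H (i + 1) X from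
          ⟨_, hupd z hz, rfl⟩)
        (inv_mem (show uProd D e (Function.update y ⟨i, hi⟩ (gaPt 0)) ∈ tailSub H (i + 1) X from
          ⟨_, hupd y hy, rfl⟩)))
    rw [← hc] at this
    convert this using 1
    group
  · have h1 : uProd D e z * (uProd D e y)⁻¹ = 1 := by
      have e1 : uProd D e z ∈ tailSub H i X := ⟨z, hz, rfl⟩
      have e2 : uProd D e y ∈ tailSub H i X := ⟨y, hy, rfl⟩
      rw [tailSub_eq_bot H (not_lt.mp hi), Subgroup.mem_bot] at e1 e2
      rw [e1, e2, inv_one, _root_.mul_one]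
    rw [h1]
    exact one_mem _

theorem up_eq_tail (H : OrdEnum D e) (hl : Chamber D l) (hr : Set.range e = {c | 0 < l (D.P.root c)})
    {X : Over (Spec (CommRingCat.of k))} {g : X ⟶ G} : g ∈ Up D l X ↔ g ∈ tailSub H 0 X := by
  constructor
  · intro hg
    obtain ⟨x, rfl⟩ := hl.exists_prod H.inj hr hg
    exact ⟨fun j => gaPt (x j), fun j hj => absurd hj (Nat.not_lt_zero _), rfl⟩
  · rintro ⟨x, -, rfl⟩
    have := prod_mem_up (l := l) e (fun j => (Set.ext_iff.mp hr (e j)).mp ⟨j, rfl⟩)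
      (fun j => Red.gaFn (x j))
    simpa only [rp_eq, uProd] using this

end Tail

/-- The derived series of the points of a chamber subgroup dies. -/
theorem isSolvable_of_inBorel (hl : Chamber D l) {B : Over (Spec (CommRingCat.of k))} [GrpObj B]
    (i : B ⟶ G) [IsMonHom i] [Mono i]
    (hB : ∀ (X : Over (Spec (CommRingCat.of k))) (b : X ⟶ B), InBorel D l (b ≫ i)) :
    Red.IsSolvableGrp B := by
  obtain ⟨_, _, N, e, H, hr⟩ := exists_ordEnum hl
  refine ⟨N + 1, fun X => ?_⟩
  have key : ∀ n, ∀ b ∈ derivedSeries (X ⟶ B) (n + 1), b ≫ i ∈ tailSub H n X := by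
    intro n
    induction n with
    | zero =>
      let K : Subgroup (X ⟶ B) := (tailSub H 0 X).comap
        { toFun := fun b => b ≫ i, map_one' := MonObj.one_comp i, map_mul' := fun a b => MonObj.mul_comp a b i }
      show derivedSeries (X ⟶ B) 1 ≤ K
      rw [derivedSeries_succ, derivedSeries_zero, Subgroup.commutator_le]
      rintro a - b -
      show (a * b * a⁻¹ * b⁻¹ : X ⟶ B) ≫ i ∈ tailSub H 0 X
      rw [MonObj.mul_comp, MonObj.mul_comp, MonObj.mul_comp, GrpObj.inv_comp,
        GrpObj.inv_comp, ← up_eq_tail H hl hr]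
      obtain ⟨t, v, hv, e1⟩ := hB X a
      obtain ⟨s, w, hw, e2⟩ := hB X b
      rw [e1, e2]
      have m1 := fixed_conj_up (l := l) (tpt_mem_fixed (D := D) (t * s)) (mul_mem (mul_mem
        (fixed_conj_up (l := l) (tpt_mem_fixed (D := D) s⁻¹) hv) hw) (inv_mem hv))
      have m2 := fixed_conj_up (l := l) (tpt_mem_fixed (D := D) s) (inv_mem hw)
      rw [tpt_mul, tpt_inv, _root_.inv_inv] at m1
      have c2 : (tpt D t * tpt D s)⁻¹ = (tpt D t)⁻¹ * (tpt D s)⁻¹ := by
        rw [← tpt_inv, ← tpt_inv, tpt_comm, tpt_inv, tpt_inv, _root_.mul_inv_rev]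
      have := mul_mem m1 m2
      rw [c2] at this
      convert this using 1
      group
    | succ n ih =>
      let K : Subgroup (X ⟶ B) := (tailSub H (n + 1) X).comap
        { toFun := fun b => b ≫ i, map_one' := MonObj.one_comp i, map_mul' := fun a b => MonObj.mul_comp a b i }
      show derivedSeries (X ⟶ B) (n + 1 + 1) ≤ K
      rw [derivedSeries_succ, Subgroup.commutator_le]
      intro a ha b hb
      show (a * b * a⁻¹ * b⁻¹ : X ⟶ B) ≫ i ∈ tailSub H (n + 1) X
      rw [MonObj.mul_comp, MonObj.mul_comp, MonObj.mul_comp, GrpObj.inv_comp,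
        GrpObj.inv_comp]
      exact commutator_mem_tail H n (ih a ha) (ih b hb)
  refine eq_bot_iff.mpr fun b hb => ?_
  have := key N b hb
  rw [tailSub_eq_bot H le_rfl, Subgroup.mem_bot] at this
  rw [Subgroup.mem_bot, ← cancel_mono i, this, MonObj.one_comp]

theorem geometricallyConnected_cell (n : ℕ) :
    GeometricallyConnected (RedSub.pow (Red.Ga (Spec (CommRingCat.of k))) n).hom ∧
      Smooth (RedSub.pow (Red.Ga (Spec (CommRingCat.of k))) n).hom := by
  haveI : IsIso (𝟙_ (Over (Spec (CommRingCat.of k)))).hom :=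
    inferInstanceAs (IsIso (𝟙 (Spec (CommRingCat.of k))))
  obtain ⟨hs, hc⟩ := polyGa_base_facts k (Red.Ga (Spec (CommRingCat.of k))) (Iso.refl _)
  have := geometricallyConnected_grp (Red.Ga (Spec (CommRingCat.of k)))
  induction n with
  | zero =>
    exact ⟨@geometricallyConnected_grp k _ (𝟙_ _) _ (by
      show ConnectedSpace ↥(Spec (CommRingCat.of k)); infer_instance),
      show Smooth (𝟙_ (Over (Spec (CommRingCat.of k)))).hom from inferInstance⟩
  | succ n ih =>
    obtain ⟨i1, i2⟩ := ih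
    refine ⟨?_, ?_⟩
    · show GeometricallyConnected ((Red.Ga _) ⊗ RedSub.pow (Red.Ga _) n).hom
      rw [Over.tensorObj_hom]
      exact GeometricallyConnected.comp _ _
    · show Smooth ((Red.Ga _) ⊗ RedSub.pow (Red.Ga _) n).hom
      rw [Over.tensorObj_hom]
      exact inferInstanceAs (Smooth (_ ≫ _))

/-- The subgroup of a chamber. -/
theorem exists_borelChamber (hl : Chamber D l) :
    ∃ (B : Over (Spec (CommRingCat.of k))) (_ : GrpObj B) (i : B ⟶ G) (t : D.T ⟶ B),
      IsMonHom i ∧ IsClosedImmersion i.left ∧ Smooth B.hom ∧ ConnectedSpace B.left ∧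
      Red.IsSolvableGrp B ∧ t ≫ i = D.i ∧
      ∀ (X : Over (Spec (CommRingCat.of k))) (g : X ⟶ G), (∃ b, b ≫ i = g) ↔ InBorel D l g := by
  obtain ⟨_, _, N, e, H, hr⟩ := exists_ordEnum hl
  have := D.maximalTorus.1
  have := D.maximalTorus.2.1
  have : IsMonHom D.split.inv.hom.hom := D.split.inv.hom.isMonHom_hom
  have : IsIso D.split.inv.hom.hom := inferInstanceAs (IsIso ((Grp.forget _).map D.split.inv))
  let jT : Red.DS (Spec (CommRingCat.of k)) D.M ⟶ G := D.split.inv.hom.hom ≫ D.i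
  let β := torusProd jT fun j => D.u (e j)
  have hclosed : IsClosedImmersion β.left := by
    have C := cellData_of_regular D l hl.inj (posEnum D (-l)) e posEnum_injective H.inj (fun j => by
      have := posEnum_pos (D := D) (l := -l) j
      simp only [AddMonoidHom.neg_apply] at this
      omega) fun j => (Set.ext_iff.mp hr (e j)).mp ⟨j, rfl⟩
    exact torusProd_isClosedImmersion jT D.reductive.1 C.pos fun Z t s => by
      have := C.comm Z t (s ≫ D.split.inv.hom.hom)
      simpa only [jT, Category.assoc] using this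
  have : Mono β.left := inferInstance
  have : Mono β := (Over.forget _).mono_of_mono_map this
  have hiff := fun {X : Over (Spec (CommRingCat.of k))} (g : X ⟶ G) => inBorel_iff hl H.inj hr g
  obtain ⟨_, hβ⟩ := exists_grpObj_mono β (fun X => (hiff _).mp (inBorel_one X))
    (fun X a b => (hiff _).mp (inBorel_mul ((hiff _).mpr ⟨a, rfl⟩) ((hiff _).mpr ⟨b, rfl⟩)))
    (fun X a => (hiff _).mp (inBorel_inv ((hiff _).mpr ⟨a, rfl⟩)))
  obtain ⟨hT, hcT⟩ : Smooth (Red.DS (Spec (CommRingCat.of k)) D.M).hom ∧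
      GeometricallyConnected (Red.DS (Spec (CommRingCat.of k)) D.M).hom := by
    refine ⟨(relDim_DS (S := Spec (CommRingCat.of k)) D.M).smooth, ?_⟩
    have hirr := (irreducible_reduced_of_isTorus D.maximalTorus.2.2.1).1
    let e' : D.T ≅ Red.DS (Spec (CommRingCat.of k)) D.M := (Grp.forget _).mapIso D.split
    have : IsIso e'.hom.left := inferInstanceAs (IsIso ((Over.forget _).map e'.hom))
    have := e'.hom.left.homeomorph.surjective.connectedSpace e'.hom.left.continuous
    exact geometricallyConnected_grp _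
  obtain ⟨hcP, hsP⟩ := geometricallyConnected_cell (k := k) N
  refine ⟨_, inferInstance, β, lift (inv D.split.inv.hom.hom) (powTuple fun _ => gaPt 0),
    hβ, hclosed, ?_, ?_, isSolvable_of_inBorel hl β fun X b => (hiff _).mpr ⟨b, rfl⟩, ?_,
    fun X g => (hiff g).symm⟩
  · rw [Over.tensorObj_hom]
    exact inferInstanceAs (Smooth (_ ≫ _))
  · have : GeometricallyConnected (Red.DS (Spec (CommRingCat.of k)) D.M ⊗
        RedSub.pow (Red.Ga (Spec (CommRingCat.of k))) N).hom := by
      rw [Over.tensorObj_hom]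
      exact GeometricallyConnected.comp _ _
    exact GeometricallyConnected.connectedSpace_of_subsingleton (Red.DS (Spec (CommRingCat.of k)) D.M ⊗
        RedSub.pow (Red.Ga (Spec (CommRingCat.of k))) N).hom
  · rw [show β = (fst _ _ ≫ jT) * (snd _ _ ≫ RedSub.prodMap (Red.Ga _) N fun j => D.u (e j)) from rfl,
      MonObj.comp_mul, lift_fst_assoc, lift_snd_assoc, prodMap_pt]
    simp only [powTuple_proj, rootHom_gaPt_zero, jT, IsIso.inv_hom_id_assoc]
    rw [List.prod_eq_one fun g hg => ?_]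
    · exact _root_.mul_one _
    · obtain ⟨j, rfl⟩ := (List.mem_ofFn' _ _).mp hg
      rfl

end Groth.Agent.AGF80.Luna
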