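import Groth.Agent.AGF80.Luna.Invariant

/-!
Semisimple groups have no homomorphisms to commutative groups.
-/

set_option autoImplicit false
set_option linter.unusedSectionVars false
set_option linter.style.haveILetI false
set_option backward.isDefEq.respectTransparency.types false
set_option synthInstance.maxHeartbeats 200000

universe u

open CategoryTheory MonoidalCategory CartesianMonoidalCategory MonObj GrpObj AlgebraicGeometry
open Groth.Agent.GMod80

noncomputable section

namespace Groth.Agent.AGF80.Luna

open Comod33 AlgGrp79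

variable {k : Type u} [Field k]

local notation "pk" => 𝟙_ (Over (Spec (CommRingCat.of k)))

/-- The projection of a base change to a field extension is an epimorphism. -/
theorem epi_fst {L : Type u} [Field L] (f : Spec (CommRingCat.of L) ⟶ Spec (CommRingCat.of k))
    (X : Over (Spec (CommRingCat.of k))) : Epi (Limits.pullback.fst X.hom f) := by
  haveI := GeomSub.flat_spec f
  haveI := GeomSub.surjective_spec f
  haveI : Flat (Limits.pullback.fst X.hom f) := MorphismProperty.pullback_fst _ _ inferInstance
  haveI : Surjective (Limits.pullback.fst X.hom f) := MorphismProperty.pullback_fst _ _ inferInstance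
  exact Flat.epi_of_flat_of_surjective _

/-- Base change to a field extension is faithful. -/
theorem hom_ext_of_bc {L : Type u} [Field L] (f : Spec (CommRingCat.of L) ⟶ Spec (CommRingCat.of k))
    {X Y : Over (Spec (CommRingCat.of k))} (a b : X ⟶ Y) (h : (Over.pullback f).map a = (Over.pullback f).map b) :
    a = b := by
  haveI := epi_fst f X
  refine Over.OverMorphism.ext ((cancel_epi (Limits.pullback.fst X.hom f)).1 ?_)
  have h' := congrArg (fun m => m.left ≫ Limits.pullback.fst Y.hom f) h
  simp only [Over.pullback_map_left] at h'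
  erw [Limits.pullback.lift_fst, Limits.pullback.lift_fst] at h'
  exact h'

/-- A morphism which becomes an isomorphism after a field extension is one. -/
theorem isIso_of_bc {L : Type u} [Field L] (f : Spec (CommRingCat.of L) ⟶ Spec (CommRingCat.of k))
    {X Y : Over (Spec (CommRingCat.of k))} (p : X ⟶ Y) [IsIso ((Over.pullback f).map p)] : IsIso p := by
  haveI := GeomSub.flat_spec f
  haveI := GeomSub.surjective_spec f
  haveI : IsIso ((Over.pullback f).map p).left := ((Over.forget _).mapIso (asIso ((Over.pullback f).map p))).isIso_hom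
  haveI : MorphismProperty.DescendsAlong (MorphismProperty.isomorphisms Scheme.{u}) Unr55.fpqc.{u} := by
    unfold Unr55.fpqc; infer_instance
  haveI : Flat (Limits.pullback.fst Y.hom f) := MorphismProperty.pullback_fst _ _ inferInstance
  haveI : Surjective (Limits.pullback.fst Y.hom f) := MorphismProperty.pullback_fst _ _ inferInstance
  haveI : QuasiCompact f := inferInstance
  haveI : QuasiCompact (Limits.pullback.fst Y.hom f) := MorphismProperty.pullback_fst _ _ inferInstance
  haveI : IsIso p.left := MorphismProperty.of_isPullback_of_descendsAlong (P := MorphismProperty.isomorphisms Scheme.{u})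
    (Q := Unr55.fpqc.{u}) (RedPts82.isPullback_bc_map p f).flip
    (⟨⟨inferInstance, inferInstance⟩, inferInstance⟩ : Unr55.fpqc.{u} (Limits.pullback.fst Y.hom f))
    (‹IsIso ((Over.pullback f).map p).left›)
  haveI : IsIso ((Over.forget _).map p) := ‹IsIso p.left›
  exact isIso_of_reflects_iso p (Over.forget _)

section AlgClosed

variable [IsAlgClosed k] {G : Over (Spec (CommRingCat.of k))} [GrpObj G]

/-- Over an algebraically closed field a reductive group is reductive over the field. -/
theorem isReductiveOver_of (hG : Red.IsReductive G) : Red.IsReductiveOver k G := by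
  let s : Spec (CommRingCat.of k) := IsLocalRing.closedPoint k
  haveI := hG.1
  haveI := hG.2.1
  haveI : IsAffine G.left := isAffine_of_isAffineHom G.hom
  obtain ⟨-, -, hc, hU⟩ := hG.2.2 s
  haveI : ConnectedSpace (Limits.pullback G.hom (Red.geomPt s) :) := hc
  haveI : ConnectedSpace G.left :=
    (show Surjective (Limits.pullback.fst G.hom (Red.geomPt s)) from
      MorphismProperty.pullback_fst _ _ (GeomSub.surjective_spec _)).surj.connectedSpace
      (Limits.pullback.fst G.hom (Red.geomPt s)).continuous
  refine ⟨inferInstance, inferInstance, inferInstance, fun U _ i _ hcl hs hUc hn nU => ?_⟩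
  haveI := hcl
  haveI := hs
  haveI := hUc
  haveI : IsAffine U.left := isAffine_of_isAffineHom i.left
  haveI := GeomSub.smooth_bc (Red.geomPt s) U
  obtain ⟨Q, _, _, _, ψ, _, hQ⟩ := UnipBasic.exists_unip_coord U nU
  exact GeomSub.isTrivialGrp_of_bc (Red.geomPt s) (hU _ ((Over.pullback (Red.geomPt s)).map i)
    (GeomSub.isClosedImmersion_bc _ i) inferInstance (BorelDesc.connectedSpace_bc _)
    (CAlg6.GrpWord.isNormalHom_bcAny _ i hn) (UnipBasic.hasNoSubtorus_bc hQ ψ _))

/-- Over an algebraically closed field a semisimple group is semisimple over the field. -/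
theorem isSemisimpleOver_of (hG : Red.IsSemisimple G) : Red.IsSemisimpleOver k G := by
  let s : Spec (CommRingCat.of k) := IsLocalRing.closedPoint k
  refine ⟨isReductiveOver_of ⟨hG.1, hG.2.1, fun t => (hG.2.2 t).1⟩, fun T _ i _ hcl hn hT => ?_⟩
  haveI := hcl
  exact GeomSub.isTrivialGrp_of_bc (Red.geomPt s) ((hG.2.2 s).2 _ ((Over.pullback (Red.geomPt s)).map i)
    (GeomSub.isClosedImmersion_bc _ i) (CAlg6.GrpWord.isNormalHom_bcAny _ i hn) (AlgGrp79.TorusBC.isTorus_bc _ hT))

/-- Over an algebraically closed field a maximal torus is a maximal subtorus. -/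
theorem isMaxTorus_of {T : Over (Spec (CommRingCat.of k))} [GrpObj T] {iT : T ⟶ G} (hT : Red.IsMaximalTorus iT) :
    AGF.IsMaxTorus iT := by
  obtain ⟨hm, hmono, hTt, hmax⟩ := hT
  let s : Spec (CommRingCat.of k) := IsLocalRing.closedPoint k
  refine ⟨hm, hmono, hTt, fun T' _ j _ _ f hT' hf => ?_⟩
  haveI := hmax s _ ((Over.pullback (Red.geomPt s)).map j) ((Over.pullback (Red.geomPt s)).map f)
    (AlgGrp79.TorusBC.isTorus_bc _ hT') (by rw [← Functor.map_comp, hf])
  exact isIso_of_bc (Red.geomPt s) f

/-- A semisimple group over an algebraically closed field has no homomorphism to a commutative group. -/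
theorem hom_comm_eq_one (hG : Red.IsSemisimpleOver k G) {H : Over (Spec (CommRingCat.of k))} [GrpObj H]
    [IsCommMonObj H] (f : G ⟶ H) [IsMonHom f] : f = 1 := by
  obtain ⟨hred, -⟩ := id hG
  obtain ⟨hGa, hGs, hGc, hU⟩ := id hred
  haveI := hGa
  haveI := hGs
  haveI := hGc
  haveI := isSeparated_grp H
  haveI : IsReduced G.left := isReduced_of_smooth G.hom
  obtain ⟨B, _, iB, hB⟩ := BorelCor.exists_borel G
  obtain ⟨T, _, iT, j, hji, hmax, -, -, -⟩ := BorelTorus.main G iB hB
  obtain ⟨hTm, hTmono, hTt, -⟩ := id hmax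
  haveI := hTm
  haveI := hTmono
  letI : CommGroup (pk ⟶ H) := { (inferInstance : Group (pk ⟶ H)) with mul_comm := fun a b => mul_comm a b }
  let φ : (pk ⟶ T) →* (pk ⟶ H) := MonoidHom.mk' (fun p => p ≫ iT ≫ f) fun a b => MonObj.mul_comp a b (iT ≫ f)
  let Φ : (pk ⟶ G) →* (pk ⟶ H) := MonoidHom.mk' (fun p => p ≫ f) fun a b => MonObj.mul_comp a b f
  have hφ : φ = 1 := invariant_hom_eq_one hG hmax φ fun n σ hσ p => by
    show (p ≫ σ) ≫ iT ≫ f = p ≫ iT ≫ f
    rw [← Category.assoc (p ≫ σ) iT f, Category.assoc p σ iT, hσ, BorelTori.pt_comp_conjBy]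
    show Φ (n * (p ≫ iT) * n⁻¹) = _
    rw [map_mul, map_mul, map_inv, mul_inv_cancel_comm]
    exact Category.assoc p iT f
  have hcl := BorelCor.isClosedImmersion_torus G hTt iT
  obtain ⟨⟨C, _, c, hc, -, -⟩, -⟩ := Groth.Agent.S3006.result _ G T iT hcl hTt
  obtain ⟨U, _, u, _, hucl, hus, huc, hn, nU, hmaxU⟩ := UnipExist.exists_unipRad G
  haveI := hucl
  haveI := hus
  haveI := huc
  have hUR : Par.IsUnipotentRadical u := UnipBasic.isUnipotentRadical_of_largest u hn nU
    fun V _ v _ h1 h2 h3 h4 h5 => hmaxU V v h1 h2 h3 h4 h5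
  obtain ⟨q, hq⟩ := exists_cent_le_torus G hUR (hU U u hucl hus huc hn nU) hmax hc
  obtain ⟨O, hO, hOpts⟩ := CartanDense.exists_open_pts G hmax hc
  haveI : IrreducibleSpace G.left := by
    have hirr := (Grp57.connectedComponent_unit G).1
    rw [PreconnectedSpace.connectedComponent_eq_univ] at hirr
    exact { isPreirreducible_univ := hirr.2, toNonempty := inferInstance }
  let K := Limits.pullback f (η[H] : pk ⟶ H)
  let iK : K ⟶ G := Limits.pullback.fst _ _
  have sq : IsPullback iK (toUnit K) f (η[H] : pk ⟶ H) := by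
    rw [toUnit_unique (toUnit K) (Limits.pullback.snd f (η[H] : pk ⟶ H))]; exact IsPullback.of_hasPullback _ _
  haveI : IsClosedImmersion iK.left :=
    MorphismProperty.of_isPullback (AlgGrp79.isPullback_left sq).flip (BorelFixed.rat_isClosedImmersion η[H])
  haveI : JacobsonSpace G.left := LocallyOfFiniteType.jacobsonSpace G.hom
  have hsub : (O : Set G.left) ⊆ Set.range iK.left := by
    intro z hz
    by_contra hzR
    obtain ⟨z', ⟨hz'O, hz'R⟩, hz'c⟩ := nonempty_inter_closedPoints (Z := (O : Set G.left) ∩ (Set.range iK.left)ᶜ)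
      ⟨z, hz, hzR⟩ (O.2.isLocallyClosed.inter iK.left.isClosedEmbedding.isClosed_range.isOpen_compl.isLocallyClosed)
    obtain ⟨p, hp⟩ := ptVal_eq z' hz'c
    obtain ⟨g, y, hgy⟩ := hOpts p (hp.symm ▸ hz'O)
    have hy : Φ (y ≫ c) = 1 := by
      rw [← hq, ← Category.assoc]
      show ((y ≫ q) ≫ iT) ≫ f = 1
      rw [Category.assoc]
      exact DFunLike.congr_fun hφ (y ≫ q)
    have hpf : Φ p = 1 := by rw [← hgy, map_mul, map_mul, hy, _root_.mul_one, map_inv, mul_inv_cancel]
    let l : pk ⟶ K := sq.lift p (toUnit _) (by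
      show Φ p = _
      rw [hpf]; rfl)
    refine hz'R ⟨l.left (IsLocalRing.closedPoint k), ?_⟩
    rw [← Scheme.Hom.comp_apply, ← Over.comp_left, sq.lift_fst, hp]
  have huniv : Set.range iK.left = Set.univ := Set.eq_univ_of_univ_subset
    ((O.2.dense hO).closure_eq.ge.trans (closure_minimal hsub iK.left.isClosedEmbedding.isClosed_range))
  obtain ⟨e, he⟩ := exists_lift_of_range_subset iK (𝟙 G) (fun z _ => huniv.ge (Set.mem_univ _))
  rw [← Category.id_comp f, ← he, Category.assoc, sq.w, ← Category.assoc, toUnit_unique (e ≫ toUnit K) (toUnit G)]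
  rfl

end AlgClosed

/-- A semisimple group has no homomorphism to a commutative group. -/
theorem hom_comm_trivial {G : Over (Spec (CommRingCat.of k))} [GrpObj G] (hG : Red.IsSemisimple G)
    {H : Over (Spec (CommRingCat.of k))} [GrpObj H] [IsCommMonObj H] (f : G ⟶ H) [IsMonHom f] : f = 1 := by
  let s : Spec (CommRingCat.of k) := IsLocalRing.closedPoint k
  haveI := GeomSub.isCommMonObj_bc (Red.geomPt s) H
  refine hom_ext_of_bc (Red.geomPt s) _ _ ?_
  rw [hom_comm_eq_one (hG.2.2 s) ((Over.pullback (Red.geomPt s)).map f)]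
  exact (Functor.map_one (Over.pullback (Red.geomPt s))).symm

end Groth.Agent.AGF80.Luna
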