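import Groth.Agent.AGF80.Luna.BorelChamber
import Groth.Agent.AGF80.Luna.Perfect
import Groth.Agent.AGF80.BorelCor
import Groth.Agent.RedPts82.BruhatRankOne
import Groth.Agent.RootDat34.RootChar
import Groth.Agent.RootDat34.Main
import Groth.Agent.AlgGrp79.DenseConj
import Groth.Agent.S3911

/-!
Over an algebraically closed field the chamber subgroups are the Borel subgroups containing the torus.
-/

set_option autoImplicit false
set_option linter.unusedSectionVars false
set_option linter.style.haveILetI false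
set_option backward.isDefEq.respectTransparency.types false

universe u

open CategoryTheory MonoidalCategory CartesianMonoidalCategory MonObj GrpObj AlgebraicGeometry
open Groth.Agent.RedPts82 Groth.Agent.RootDat34

namespace Groth.Agent.AGF80.Luna

/-- A functional avoiding finitely many non-zero vectors. -/
theorem exists_functional_avoid {M : Type} [AddCommGroup M] [Module.Free ℤ M] [Module.Finite ℤ M] (F : Finset M)
    (hF : (0 : M) ∉ F) : ∃ l : M →+ ℤ, ∀ v ∈ F, l v ≠ 0 := by
  classical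
  let B := Module.Free.chooseBasis ℤ M
  let β := Module.Free.ChooseBasisIndex ℤ M
  let σ : β ≃ Fin (Fintype.card β) := Fintype.equivFin β
  let f : M → Lex (Fin (Fintype.card β) → ℤ) := fun m => toLex fun i => B.repr m (σ.symm i)
  have hfadd : ∀ x y, f (x + y) = f x + f y := fun x y => by simp only [f, map_add, Finsupp.add_apply]; rfl
  have hfinj : Function.Injective f := fun x y h => B.repr.injective (Finsupp.ext fun j => by
    simpa [f] using congrFun (congrArg ofLex h) (σ j))
  let _ord : LinearOrder M := LinearOrder.lift' f hfinj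
  have : IsOrderedAddMonoid M :=
    { add_le_add_left := fun x y h z => by
        show f (x + z) ≤ f (y + z)
        rw [hfadd, hfadd]
        exact add_le_add_left (show f x ≤ f y from h) (f z) }
  obtain ⟨l, hl⟩ := RedPts82.exists_functional_pos (F.image fun v => max v (-v)) fun v hv => by
    obtain ⟨w, hw, rfl⟩ := Finset.mem_image.mp hv
    rcases lt_trichotomy w 0 with h | h | h
    · exact lt_max_of_lt_right (neg_pos.mpr h)
    · exact absurd (h ▸ hw) hF
    · exact lt_max_of_lt_left h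
  refine ⟨l, fun v hv h0 => ?_⟩
  have := hl _ (Finset.mem_image_of_mem _ hv)
  rcases max_choice v (-v) with e | e <;> rw [e] at this <;> simp [h0] at this

variable {k : Type u} [Field k]

section

variable {G : Over (Spec (CommRingCat.of k))} [GrpObj G] (D : Red.SplitRed G)

/-- A functional vanishing at a root and at no other line of roots. -/
theorem exists_wall [D.P.IsReduced] (a : D.idx) : ∃ l : D.M →+ ℤ, Wall D l a := by
  classical
  obtain ⟨l₁, hl₁, hla⟩ := exists_chamber_pos D (D.P.root a) (D.P.ne_zero a)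
  have htf := Roots36.isAddTorsionFree_M D.P
  let F : Finset D.M := (Finset.univ.filter fun c => c ≠ a ∧ c ≠ negIdx D a).image fun c =>
    l₁ (D.P.root a) • D.P.root c - l₁ (D.P.root c) • D.P.root a
  have hF : (0 : D.M) ∉ F := by
    intro h
    obtain ⟨c, hc, he⟩ := Finset.mem_image.mp h
    simp only [Finset.mem_filter] at hc
    have hdep : ¬ LinearIndependent ℤ ![D.P.root c, D.P.root a] := by
      rw [LinearIndependent.pair_iff]
      intro hh
      exact hla.ne' (hh (l₁ (D.P.root a)) (-l₁ (D.P.root c)) (by rw [neg_smul, ← sub_eq_add_neg, he])).1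
    rcases RootPairing.IsReduced.eq_or_eq_neg (P := D.P) c a hdep with e | e
    · exact hc.2.1 (D.P.root.injective e)
    · exact hc.2.2 (D.P.root.injective (by rw [e, root_negIdx]))
  obtain ⟨l₂, hl₂⟩ := exists_functional_avoid F hF
  let l₀ : D.M →+ ℤ := l₁ (D.P.root a) • l₂ - l₂ (D.P.root a) • l₁
  have h0 : ∀ m, l₀ m = l₁ (D.P.root a) * l₂ m - l₂ (D.P.root a) * l₁ m := fun m => by simp [l₀]
  have h0a : l₀ (D.P.root a) = 0 := by rw [h0]; ring
  have h0c : ∀ c, c ≠ a → c ≠ negIdx D a → l₀ (D.P.root c) ≠ 0 := fun c h1 h2 => by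
    have := hl₂ _ (Finset.mem_image_of_mem _ (Finset.mem_filter.mpr ⟨Finset.mem_univ c, h1, h2⟩))
    rw [map_sub, map_zsmul, map_zsmul, smul_eq_mul, smul_eq_mul] at this
    rw [h0]
    intro h
    apply this
    linarith
  let N : ℤ := 2 * (∑ c, |l₁ (D.P.root c)|) + 1
  have hN : ∀ c, 2 * |l₁ (D.P.root c)| < N := fun c => by
    have := Finset.single_le_sum (f := fun c => |l₁ (D.P.root c)|) (fun c _ => abs_nonneg _)
      (Finset.mem_univ c)
    simp only [N]; linarith
  let l : D.M →+ ℤ := N • l₀ + l₁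
  have hl : ∀ c, l (D.P.root c) = N * l₀ (D.P.root c) + l₁ (D.P.root c) := fun c => by simp [l]
  have hNpos : 0 < N := lt_of_le_of_lt (by positivity) (hN a)
  have hsign : ∀ c, (0 < l₀ (D.P.root c) → 0 < l (D.P.root c)) ∧ (l₀ (D.P.root c) < 0 → l (D.P.root c) < 0) :=
    fun c => by
      have := abs_lt.mp (lt_of_le_of_lt (le_mul_of_one_le_left (abs_nonneg _) one_le_two) (hN c))
      rw [hl]
      constructor <;> intro h <;> nlinarith
  refine ⟨l, ⟨fun c d e => ?_, fun c => ?_⟩, by rw [hl, h0a, mul_zero, zero_add]; exact hla,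
    fun c hca hpos => ?_⟩
  · simp only [hl] at e
    have hc := abs_lt.mp (show |l₁ (D.P.root d) - l₁ (D.P.root c)| < N by
      have := abs_sub (l₁ (D.P.root d)) (l₁ (D.P.root c))
      have := hN c; have := hN d; omega)
    have he : l₀ (D.P.root c) = l₀ (D.P.root d) := by
      rcases lt_trichotomy (l₀ (D.P.root c)) (l₀ (D.P.root d)) with h | h | h
      · nlinarith
      · exact h
      · nlinarith
    exact hl₁.inj (by rw [he] at e; exact add_left_cancel e)
  · rcases lt_trichotomy (l₀ (D.P.root c)) 0 with h | h | h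
    · exact ((hsign c).2 h).ne
    · rw [hl, h, mul_zero, zero_add]; exact hl₁.ne c
    · exact ((hsign c).1 h).ne'
  · have hne : c ≠ negIdx D a := fun e => by
      rw [e, hl, root_negIdx, map_neg, map_neg, h0a] at hpos
      simp only [neg_zero, mul_zero, zero_add] at hpos
      omega
    refine (hsign _).1 ?_
    rw [D.P.root_reflectionPerm, D.P.reflection_apply_root, map_sub, map_zsmul, h0a, smul_zero, sub_zero]
    rcases lt_or_gt_of_ne (h0c c hca hne) with h | h
    · exact absurd ((hsign c).2 h) (not_lt.mpr hpos.le)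
    · exact h

end

section AlgClosed

variable [IsAlgClosed k]

local notation "pk" => 𝟙_ (Over (Spec (CommRingCat.of k)))

theorem gam_pk_ringEquiv : Nonempty (k ≃+* Γ((pk).left, ⊤)) :=
  ⟨(Scheme.ΓSpecIso (CommRingCat.of k)).symm.commRingCatIsoToRingEquiv⟩

variable {G : Over (Spec (CommRingCat.of k))} [GrpObj G] {D : Red.SplitRed G} {l : D.M →+ ℤ}

/-- One non-trivial element of a root group gives the whole root group, in a subgroup stable under the torus. -/
theorem root_mem_of_one {K : Set (pk ⟶ G)} (h1 : (1 : pk ⟶ G) ∈ K)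
    (hT : ∀ (t : pk ⟶ Red.DS (Spec (CommRingCat.of k)) D.M) g, g ∈ K → tpt D t * g * (tpt D t)⁻¹ ∈ K)
    {c : D.idx} {r : Γ((pk).left, ⊤)} (hr : r ≠ 0) (h : rp D c r ∈ K) (s : Γ((pk).left, ⊤)) : rp D c s ∈ K := by
  obtain ⟨e⟩ := gam_pk_ringEquiv (k := k)
  rcases eq_or_ne s 0 with rfl | hs
  · rw [rp_zero]; exact h1
  obtain ⟨lam, hlam⟩ : ∃ lam : D.M →+ ℤ, 0 < lam (D.P.root c) := by
    obtain ⟨lam, -, h⟩ := exists_chamber_pos D (D.P.root c) (D.P.ne_zero c)
    exact ⟨lam, h⟩
  obtain ⟨n, hn⟩ := Int.eq_ofNat_of_zero_le hlam.le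
  have hn0 : 0 < n := by omega
  obtain ⟨y, hy⟩ := IsAlgClosed.exists_pow_nat_eq (e.symm s / e.symm r) hn0
  have hy0 : y ≠ 0 := fun h0 => by
    rw [h0, zero_pow hn0.ne', eq_comm, div_eq_zero_iff] at hy
    rcases hy with h' | h'
    · exact hs (e.symm.injective (h'.trans (map_zero _).symm))
    · exact hr (e.symm.injective (h'.trans (map_zero _).symm))
  let z : Γ((pk).left, ⊤)ˣ := Units.map e.toMonoidHom (Units.mk0 y hy0)
  let t : pk ⟶ Red.DS (Spec (CommRingCat.of k)) D.M := gmPt z ≫ Red.DSmap _ lam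
  have hd : dsFn t (D.P.root c) * r = s := by
    rw [dsFn_DSmap, hn, dsFn_gm_zpow, gmFn_gmPt]
    show e y ^ n * r = s
    conv_lhs => enter [2]; rw [← e.apply_symm_apply r]
    rw [← map_pow, hy, ← map_mul, div_mul_cancel₀ _ (fun h0 => hr ?_), e.apply_symm_apply]
    exact e.symm.injective (h0.trans (map_zero _).symm)
  have := hT t _ h
  rwa [tpt_conj_rp, hd] at this

theorem isReduced_ga : IsReduced (Red.Ga (Spec (CommRingCat.of k))).left := by
  obtain ⟨-, hs, -, -⟩ := ga_facts (k := k)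
  exact SpFP87.isReduced_of_smooth (Red.Ga (Spec (CommRingCat.of k))).hom

/-- A root homomorphism whose rational points lie in a closed subscheme factors through it. -/
theorem exists_root_factor {H : Over (Spec (CommRingCat.of k))} (iH : H ⟶ G) [IsClosedImmersion iH.left]
    (c : D.idx) (h : ∀ r : Γ((pk).left, ⊤), ∃ q : pk ⟶ H, q ≫ iH = rp D c r) :
    ∃ f : Red.Ga (Spec (CommRingCat.of k)) ⟶ H, f ≫ iH = D.u c := by
  haveI := isReduced_ga (k := k)
  haveI : LocallyOfFiniteType (Red.Ga (Spec (CommRingCat.of k))).hom := by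
    obtain ⟨-, hs, -, -⟩ := ga_facts (k := k)
    infer_instance
  refine BorelCor.exists_factor_of_pts (D.u c) iH fun p => ?_
  obtain ⟨q, hq⟩ := h (Red.gaFn p)
  exact ⟨q, by rw [hq, rp_eq]⟩

/-- A contracted non-trivial point of a subgroup stable under the torus gives a root element. -/
theorem exists_root_mem {K : Set (pk ⟶ G)} (hmul : ∀ g h, g ∈ K → h ∈ K → g * h ∈ K)
    (hinv : ∀ g, g ∈ K → g⁻¹ ∈ K)
    (hT : ∀ (t : pk ⟶ Red.DS (Spec (CommRingCat.of k)) D.M) g, g ∈ K → tpt D t * g * (tpt D t)⁻¹ ∈ K)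
    (hl : Chamber D l) {g : pk ⟶ G} (hg : g ∈ Up D l _) (hgK : g ∈ K) (hg1 : g ≠ 1) :
    ∃ c, 0 < l (D.P.root c) ∧ ∃ r, r ≠ 0 ∧ rp D c r ∈ K := by
  classical
  have hred := isReduced_splitRed D
  obtain ⟨_, _, N, e, H, hr⟩ := exists_ordEnum hl
  obtain ⟨eq⟩ := gam_pk_ringEquiv (k := k)
  suffices ∀ n i, N = i + n → ∀ x : Fin N → (pk ⟶ Red.Ga (Spec (CommRingCat.of k))), IsTail i x →
      uProd D e x ∈ K → uProd D e x ≠ 1 → ∃ c, 0 < l (D.P.root c) ∧ ∃ r, r ≠ 0 ∧ rp D c r ∈ K by
    obtain ⟨x, hx, rfl⟩ := (up_eq_tail H hl hr).mp hg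
    exact this N 0 (Nat.zero_add N).symm x hx hgK hg1
  intro n
  induction n with
  | zero =>
    intro i hi x hx _ h1
    exfalso
    apply h1
    have : uProd D e x ∈ tailSub H i pk := ⟨x, hx, rfl⟩
    rwa [tailSub_eq_bot H (by omega), Subgroup.mem_bot] at this
  | succ n ih =>
    intro i hi x hx hxK h1
    let a : Fin N := ⟨i, by omega⟩
    by_cases hxa : x a = gaPt 0
    · refine ih (i + 1) (by omega) x (fun j hj => ?_) hxK h1
      rcases lt_or_eq_of_le (Nat.lt_succ_iff.mp hj) with h | h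
      · exact hx j h
      · rwa [show j = a from Fin.ext h]
    by_cases hsingle : ∀ j, j ≠ a → x j = gaPt 0
    · refine ⟨e a, (Set.ext_iff.mp hr (e a)).mp ⟨a, rfl⟩, Red.gaFn (x a), fun h0 => hxa ?_, ?_⟩
      · rw [← gaPt_gaFn (x a), h0]
      · rw [rp_eq, ← uProd_single e a (x a)]
        convert hxK using 2
        funext j
        rcases eq_or_ne j a with rfl | h
        · rw [Function.update_self]
        · rw [Function.update_of_ne h, hsingle j h]
    push Not at hsingle
    obtain ⟨j, hja, hxj⟩ := hsingle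
    have hF : D.P.root (e j) ∉ ({0} : Finset D.M) := by simpa using D.P.ne_zero _
    obtain ⟨l₂, hl₂⟩ := exists_functional_avoid
      {l (D.P.root (e a)) • D.P.root (e j) - l (D.P.root (e j)) • D.P.root (e a)} (by
        simp only [Finset.mem_singleton]
        intro he
        have hdep : ¬ LinearIndependent ℤ ![D.P.root (e j), D.P.root (e a)] := by
          rw [LinearIndependent.pair_iff]
          intro hh
          exact hl.ne _ (hh (l (D.P.root (e a))) (-l (D.P.root (e j))) (by
            rw [neg_smul, ← sub_eq_add_neg, ← he])).1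
        rcases RootPairing.IsReduced.eq_or_eq_neg (P := D.P) (e j) (e a) hdep with e1 | e1
        · exact hja (H.inj (D.P.root.injective e1))
        · have h1 : 0 < l (D.P.root (e a)) := (Set.ext_iff.mp hr (e a)).mp ⟨a, rfl⟩
          have h2 : 0 < l (D.P.root (e j)) := (Set.ext_iff.mp hr (e j)).mp ⟨j, rfl⟩
          rw [e1, map_neg] at h2
          omega)
    let lam : D.M →+ ℤ := l (D.P.root (e a)) • l₂ - l₂ (D.P.root (e a)) • l
    have hla : lam (D.P.root (e a)) = 0 := by simp [lam]; ring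
    have hlj : lam (D.P.root (e j)) ≠ 0 := by
      have := hl₂ _ (Finset.mem_singleton_self _)
      rw [map_sub, map_zsmul, map_zsmul, smul_eq_mul, smul_eq_mul] at this
      simp only [lam, AddMonoidHom.sub_apply, AddMonoidHom.smul_apply, smul_eq_mul]
      intro h
      apply this
      linarith
    obtain ⟨z, hz⟩ := exists_unit_pow_ne_one eq hlj
    let t : pk ⟶ Red.DS (Spec (CommRingCat.of k)) D.M := gmPt z ≫ Red.DSmap _ lam
    have ht : ∀ m, dsFn t m = ((z ^ lam m : Γ((pk).left, ⊤)ˣ) : Γ((pk).left, ⊤)) := fun m => by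
      rw [dsFn_DSmap, dsFn_int, show gmU (gmPt z) = z from Units.ext (gmFn_gmPt z)]
    let y : Fin N → (pk ⟶ Red.Ga (Spec (CommRingCat.of k))) := fun j =>
      gaPt (dsFn t (D.P.root (e j)) * Red.gaFn (x j))
    have hy : uProd D e y = tpt D t * uProd D e x * (tpt D t)⁻¹ :=
      uProd_scale D e t x y fun j => by simp only [y, gaFn_gaPt]
    have hyt : IsTail i y := fun j hj => by simp only [y, hx j hj, gaFn_gaPt, mul_zero]
    have hya : y a = x a := by
      simp only [y, ht, hla, zpow_zero, Units.val_one, _root_.one_mul, gaPt_gaFn]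
    have hne : uProd D e y * (uProd D e x)⁻¹ ≠ 1 := fun h => hz (by
      have h2 := congrArg Red.gaFn (congrFun (H.uProd_injective (mul_inv_eq_one.mp h)) j)
      simp only [y, gaFn_gaPt] at h2
      have hxj' : Red.gaFn (x j) ≠ 0 := fun h0 => hxj (by rw [← gaPt_gaFn (x j), h0])
      refine Units.ext ?_
      rw [Units.val_one, ← ht]
      have : IsDomain Γ((pk).left, ⊤) := eq.symm.toMulEquiv.isDomain k
      exact mul_right_cancel₀ hxj' (by rw [h2, _root_.one_mul]))
    have hupd : ∀ w : Fin N → (pk ⟶ Red.Ga (Spec (CommRingCat.of k))), IsTail i w →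
        IsTail (i + 1) (Function.update w a (gaPt 0)) := fun w hw j hj => by
      by_cases e : j = a
      · rw [e, Function.update_self]
      · rw [Function.update_of_ne e]
        exact hw j (lt_of_le_of_ne (Nat.lt_succ_iff.mp hj) fun he => e (Fin.ext he))
    have hmem : uProd D e y * (uProd D e x)⁻¹ ∈ tailSub H (i + 1) pk := by
      rw [uProd_split e a y hyt, uProd_split e a x hx, hya]
      have := tailSub_conj H (i + 1) (Function.update (fun _ => gaPt 0) a (x a))
        (mul_mem (show uProd D e (Function.update y a (gaPt 0)) ∈ tailSub H (i + 1) pk from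
            ⟨_, hupd y hyt, rfl⟩)
          (inv_mem (show uProd D e (Function.update x a (gaPt 0)) ∈ tailSub H (i + 1) pk from
            ⟨_, hupd x hx, rfl⟩)))
      rw [uProd_single] at this
      convert this using 1
      group
    obtain ⟨w, hw, hwe⟩ := hmem
    refine ih (i + 1) (by omega) w hw ?_ (hwe ▸ hne)
    rw [← hwe, hy]
    exact hmul _ _ (hT t _ hxK) (hinv _ hxK)

/-- A solvable connected subgroup containing the torus contains at most one of two opposite root groups. -/
theorem no_pair (a : D.idx) {H : Over (Spec (CommRingCat.of k))} [GrpObj H] (iH : H ⟶ G) [IsMonHom iH]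
    [IsClosedImmersion iH.left] [Smooth H.hom] [ConnectedSpace H.left] (hs : Red.IsSolvableGrp H)
    (t : D.T ⟶ H) (ht : t ≫ iH = D.i) (f : Red.Ga (Spec (CommRingCat.of k)) ⟶ H) (hf : f ≫ iH = D.u a)
    (g : Red.Ga (Spec (CommRingCat.of k)) ⟶ H) (hg : g ≫ iH = D.u (negIdx D a)) : False := by
  have hGr : Red.IsReductiveOver k G := isReductiveOver_of D.reductive
  obtain ⟨hGa, hGs, hGc, -⟩ := id hGr
  haveI := hGa
  haveI := hGs
  haveI := hGc
  haveI hred := isReduced_splitRed D
  obtain ⟨B, _, iB, φ, hB, hφ⟩ := BorelCor.exists_borel_ge G iH hs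
  haveI := hB.1
  haveI := hB.2.1
  haveI : Mono iB := Over.mono_of_mono_left iB
  obtain ⟨l, hw⟩ := exists_wall D a
  obtain ⟨b, -⟩ := exists_baseChamber_of_chamber hw.toChamber
  obtain ⟨n, hn⟩ := D.refl a
  have hacts := acts_of_refl hn
  obtain ⟨p, τ, q, -, hpq⟩ := hw.exists_form b hacts
  let InB : (pk ⟶ G) → Prop := fun x => ∃ b : pk ⟶ B, b ≫ iB = x
  have hm : ∀ x y, InB x → InB y → InB (x * y) := fun x y ⟨a, ha⟩ ⟨c, hc⟩ =>
    ⟨a * c, by rw [MonObj.mul_comp, ha, hc]⟩
  have hA : ∀ r, InB (rp D a r) := fun r =>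
    ⟨(gaPt r ≫ f) ≫ φ, by rw [Category.assoc, hφ, Category.assoc, hf]⟩
  have hN : ∀ r, InB (rp D (negIdx D a) r) := fun r =>
    ⟨(gaPt r ≫ g) ≫ φ, by rw [Category.assoc, hφ, Category.assoc, hg]⟩
  have hTb : ∀ s, InB (tpt D s) := fun s =>
    ⟨((s ≫ D.split.inv.hom.hom) ≫ t) ≫ φ, by
      rw [Category.assoc, hφ, Category.assoc, ht, Category.assoc]; rfl⟩
  have hnB : InB n := by
    have e := hpq pk
    have en : np n pk = n := by rw [np, toUnit_unique (toUnit pk) (𝟙 _), Category.id_comp]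
    rw [en] at e
    have : n = rp D (negIdx D a) (cst pk p) * tpt D (toUnit pk ≫ τ) * rp D a (cst pk q) *
        rp D (negIdx D a) (-1) := by
      rw [← e, rp_neg, mul_inv_cancel_right]
    rw [this]
    exact hm _ _ (hm _ _ (hm _ _ (hN _) (hTb _)) (hA _)) (hN _)
  obtain ⟨nb, hnb⟩ := hnB
  let σ : B ≅ B :=
    ⟨(toUnit B ≫ nb) * 𝟙 B * (toUnit B ≫ nb)⁻¹, (toUnit B ≫ nb)⁻¹ * 𝟙 B * (toUnit B ≫ nb), by
      simp only [MonObj.comp_mul, GrpObj.comp_inv, Category.comp_id, ← Category.assoc,
        toUnit_unique (((toUnit B ≫ nb) * 𝟙 B * (toUnit B ≫ nb)⁻¹) ≫ toUnit B) (toUnit B)]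
      group, by
      simp only [MonObj.comp_mul, GrpObj.comp_inv, Category.comp_id, ← Category.assoc,
        toUnit_unique (((toUnit B ≫ nb)⁻¹ * 𝟙 B * (toUnit B ≫ nb)) ≫ toUnit B) (toUnit B)]
      group⟩
  have hσ : σ.hom ≫ iB = AGF.conjBy n iB := by
    simp only [σ, AGF.conjBy, MonObj.mul_comp, GrpObj.inv_comp, Category.assoc, hnb, Category.id_comp]
  -- the reflection on the torus
  have hconj : ∀ (X : Over (Spec (CommRingCat.of k))) (s : X ⟶ D.T), s ≫ AGF.conjBy n D.i =
      np n X * (s ≫ D.i) * (np n X)⁻¹ := fun X s => by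
    simp only [AGF.conjBy, MonObj.comp_mul, GrpObj.comp_inv, ← Category.assoc,
      toUnit_unique (s ≫ toUnit D.T) (toUnit X)]
  let ρ : Red.DS (Spec (CommRingCat.of k)) D.M ⟶ Red.DS (Spec (CommRingCat.of k)) D.M :=
    Red.DSmap _ (D.P.reflection a).toLinearMap.toAddMonoidHom
  have hρρ : ρ ≫ ρ = 𝟙 _ := by
    refine dsFn_injective fun m => ?_
    rw [← Category.id_comp (ρ ≫ ρ), ← Category.assoc, dsFn_DSmap, dsFn_DSmap]
    show dsFn (𝟙 _) (D.P.reflection a (D.P.reflection a m)) = _
    rw [D.P.reflection_same]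
  have hs1 : D.split.hom.hom.hom ≫ D.split.inv.hom.hom = 𝟙 _ := congrArg (fun f => f.hom.hom) D.split.hom_inv_id
  have hs2 : D.split.inv.hom.hom ≫ D.split.hom.hom.hom = 𝟙 _ := congrArg (fun f => f.hom.hom) D.split.inv_hom_id
  let τT : D.T ≅ D.T :=
    ⟨D.split.hom.hom.hom ≫ ρ ≫ D.split.inv.hom.hom, D.split.hom.hom.hom ≫ ρ ≫ D.split.inv.hom.hom,
      by simp only [Category.assoc, reassoc_of% hs2, reassoc_of% hρρ, hs1],
      by simp only [Category.assoc, reassoc_of% hs2, reassoc_of% hρρ, hs1]⟩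
  have hτ : τT.hom ≫ D.i = AGF.conjBy n D.i := by
    have e := hconj _ (𝟙 D.T)
    rw [Category.id_comp, Category.id_comp] at e
    refine Eq.trans ?_ e.symm
    have e2 := hn D.T (𝟙 D.T)
    rw [Category.id_comp, Category.id_comp] at e2
    simpa only [τT, ρ, Category.assoc] using e2.symm
  have hfix := S3911.result k G D.T B D.i iB (isMaxTorus_of D.maximalTorus) hB (t ≫ φ)
    (by rw [Category.assoc, hφ, ht]) n τT hτ σ hσ
  obtain ⟨eK⟩ := gam_pk_ringEquiv (k := k)
  refine reflection_ne_one a (eq_one_of_tw_fixed (D := D) eK fun s => ?_)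
  refine tpt_injective (D := D) ?_
  have e1 := congrArg ((s ≫ D.split.inv.hom.hom) ≫ ·) hfix
  rw [hconj, i_eq_tpt, Category.assoc, hs2] at e1
  rw [show tpt D (tw (RootPairing.Equiv.reflection D.P a) s) = _ from (hacts pk s).symm]
  simpa using e1

/-- The chamber subgroup is a Borel subgroup. -/
theorem isBorelOver_chamber (hl : Chamber D l) {B : Over (Spec (CommRingCat.of k))} [GrpObj B] (i : B ⟶ G)
    [IsMonHom i] [IsClosedImmersion i.left] [Smooth B.hom] [ConnectedSpace B.left]
    (hs : Red.IsSolvableGrp B) (t : D.T ⟶ B) (ht : t ≫ i = D.i)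
    (hpts : ∀ (X : Over (Spec (CommRingCat.of k))) (g : X ⟶ G), (∃ b, b ≫ i = g) ↔ InBorel D l g) :
    Red.IsBorelOver k i := by
  classical
  refine ⟨inferInstance, inferInstance, inferInstance, inferInstance, hs,
    fun B' _ i' _ f hcl hsm hconn hsol hfi => ?_⟩
  haveI := hcl
  haveI := hsm
  haveI := hconn
  haveI : IsReduced B'.left := SpFP87.isReduced_of_smooth B'.hom
  haveI : Mono i := Over.mono_of_mono_left i
  haveI : Mono i' := Over.mono_of_mono_left i'
  have C := cellData_of_regular D l hl.inj (posEnum D (-l)) (posEnum D l) posEnum_injective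
    posEnum_injective (fun j => by
      have := posEnum_pos (D := D) (l := -l) j
      simp only [AddMonoidHom.neg_apply] at this
      omega) posEnum_pos
  haveI : Mono (RedSub.cellMap D (posEnum D (-l)) (posEnum D l)) := C.mono_cell
  haveI hopen : IsOpenImmersion (cellS D.i (fun j => D.u (posEnum D (-l) j)) fun j => D.u (posEnum D l j)).left :=
    cellMap_open_of_mono D _ _ (by
      rw [Fintype.card_congr (Equiv.subtypeEquivRight
        (p := fun c => 0 < (-l) (D.P.root c)) (q := fun c => ¬ 0 < l (D.P.root c))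
        fun c => by have := hl.ne c; simp only [AddMonoidHom.neg_apply]; omega),
        Fintype.card_subtype_compl, Nat.sub_add_cancel (Fintype.card_subtype_le _)])
  let cell := cellS D.i (fun j => D.u (posEnum D (-l) j)) fun j => D.u (posEnum D l j)
  let R : Set G.left := Set.range cell.left.base
  let V : Set B'.left := i'.left.base ⁻¹' R
  let Z : Set B'.left := i'.left.base ⁻¹' Set.range i.left.base
  have hRo : IsOpen R := cell.left.isOpenEmbedding.isOpen_range
  have hZc : IsClosed Z := i.left.isClosedEmbedding.isClosed_range.preimage i'.left.continuous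
  have hone := one_range_cell (i := D.i) (un := fun j => D.u (posEnum D (-l) j))
    (up := fun j => D.u (posEnum D l j)) (X := pk) (fun j => rootHom_gaPt_zero D _)
    (fun j => rootHom_gaPt_zero D _) D.maximalTorus.1
  have hVne : ((1 : pk ⟶ B').left (IsLocalRing.closedPoint k)) ∈ V := by
    refine hone ⟨IsLocalRing.closedPoint k, ?_⟩
    rw [← Scheme.Hom.comp_apply, ← Over.comp_left, MonObj.one_comp]
  have hirr : IrreducibleSpace B'.left := by
    have hirr := (Grp57.connectedComponent_unit B').1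
    rw [PreconnectedSpace.connectedComponent_eq_univ] at hirr
    exact { isPreirreducible_univ := hirr.2, toNonempty := ⟨(1 : pk ⟶ B').left (IsLocalRing.closedPoint k)⟩ }
  have hVZ : V ⊆ Z := by
    intro x hx
    by_contra hxZ
    haveI : JacobsonSpace B'.left := LocallyOfFiniteType.jacobsonSpace B'.hom
    obtain ⟨w, ⟨hwV, hwZ⟩, hwc⟩ := nonempty_inter_closedPoints (Z := V ∩ Zᶜ) ⟨x, hx, hxZ⟩
      ((hRo.preimage i'.left.continuous).inter hZc.isOpen_compl).isLocallyClosed
    obtain ⟨p, hp⟩ := AlgGrp79.ptVal_eq w hwc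
    obtain ⟨q, hq⟩ := RedPts82.exists_factor_of_range cell (p ≫ i') (by
      rintro _ ⟨y, rfl⟩
      have : y = IsLocalRing.closedPoint k := @Subsingleton.elim _ (inferInstanceAs (Subsingleton (PrimeSpectrum k))) _ _
      rw [this, Over.comp_left, Scheme.Hom.comp_apply, hp]
      exact hwV)
    -- the decomposition of the point
    have hq' : q = lift (q ≫ fst _ _) (lift (q ≫ snd _ _ ≫ fst _ _) (q ≫ snd _ _ ≫ snd _ _)) := by
      ext <;> simp
    rw [hq', cellS_lift] at hq
    rw [i_eq_tpt, prodMap_pt, prodMap_pt] at hq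
    have hy : (List.ofFn fun j => ((q ≫ fst _ _) ≫ powProj (Red.Ga (Spec (CommRingCat.of k))) _ j) ≫
        D.u (posEnum D (-l) j)).prod ∈ Up D (-l) pk := by
      have := prod_mem_up (l := -l) (posEnum D (-l)) posEnum_pos
        (fun j => Red.gaFn ((q ≫ fst _ _) ≫ powProj (Red.Ga (Spec (CommRingCat.of k))) _ j))
      simpa only [rp_eq] using this
    have hv : (List.ofFn fun j => ((q ≫ snd _ _ ≫ snd _ _) ≫ powProj (Red.Ga (Spec (CommRingCat.of k))) _ j) ≫
        D.u (posEnum D l j)).prod ∈ Up D l pk := by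
      have := prod_mem_up (l := l) (posEnum D l) posEnum_pos
        (fun j => Red.gaFn ((q ≫ snd _ _ ≫ snd _ _) ≫ powProj (Red.Ga (Spec (CommRingCat.of k))) _ j))
      simpa only [rp_eq] using this
    revert hq
    generalize (List.ofFn fun j => ((q ≫ fst _ _) ≫ powProj (Red.Ga (Spec (CommRingCat.of k))) _ j) ≫
        D.u (posEnum D (-l) j)).prod = y at hy ⊢
    intro hq
    let K : Set (pk ⟶ G) := {g | ∃ b : pk ⟶ B', b ≫ i' = g}
    obtain ⟨b₀, hb₀⟩ := (hpts pk _).mpr ⟨(q ≫ snd _ _ ≫ fst _ _) ≫ D.split.hom.hom.hom, _, hv, rfl⟩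
    have hK1 : (1 : pk ⟶ G) ∈ K := ⟨1, MonObj.one_comp _⟩
    have hKm : ∀ g h, g ∈ K → h ∈ K → g * h ∈ K := fun g h ⟨a, ha⟩ ⟨c, hc⟩ =>
      ⟨a * c, by rw [MonObj.mul_comp, ha, hc]⟩
    have hKi : ∀ g, g ∈ K → g⁻¹ ∈ K := fun g ⟨a, ha⟩ => ⟨a⁻¹, by rw [GrpObj.inv_comp, ha]⟩
    have hKB : ∀ g, InBorel D l g → g ∈ K := fun g hg => by
      obtain ⟨b, hb⟩ := (hpts pk g).mpr hg
      exact ⟨b ≫ f, by rw [Category.assoc, hfi, hb]⟩
    have hKT : ∀ (s : pk ⟶ Red.DS (Spec (CommRingCat.of k)) D.M) g, g ∈ K →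
        tpt D s * g * (tpt D s)⁻¹ ∈ K := fun s g hg => by
      have hs' : tpt D s ∈ K := hKB _ ⟨s, 1, one_mem _, (_root_.mul_one _).symm⟩
      exact hKm _ _ (hKm _ _ hs' hg) (hKi _ hs')
    have hyK : y ∈ K := by
      have hbK : b₀ ≫ i ∈ K := hKB _ ((hpts pk _).mp ⟨b₀, rfl⟩)
      have := hKm _ _ (show p ≫ i' ∈ K from ⟨p, rfl⟩) (hKi _ hbK)
      rw [hb₀, ← hq] at this
      convert this using 1
      group
    have hy1 : y = 1 := by
      by_contra hne
      obtain ⟨c, hc, r, hr, hrK⟩ := exists_root_mem hKm hKi hKT hl.neg hy hyK hne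
      obtain ⟨g', hg'⟩ := exists_root_factor i' c fun s => root_mem_of_one hK1 hKT hr hrK s
      have hc' : 0 < l (D.P.root (negIdx D c)) := by
        rw [root_negIdx, map_neg]; simpa using hc
      obtain ⟨f', hf'⟩ := exists_root_factor i' (negIdx D c) fun s =>
        hKB _ ⟨1, _, rp_mem_up hc' s, by rw [tpt_one, _root_.one_mul]⟩
      exact no_pair (negIdx D c) i' hsol (t ≫ f) (by rw [Category.assoc, hfi, ht]) f' hf' g'
        (by rw [negIdx_negIdx]; exact hg')
    apply hwZ
    rw [← hp]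
    refine ⟨b₀.left (IsLocalRing.closedPoint k), ?_⟩
    rw [← Scheme.Hom.comp_apply, ← Over.comp_left, hb₀, ← Scheme.Hom.comp_apply, ← Over.comp_left]
    rw [hy1, _root_.one_mul] at hq
    rw [hq]
  have hZ : Z = Set.univ := by
    have hd : Dense V := (hRo.preimage i'.left.continuous).dense ⟨_, hVne⟩
    exact Set.eq_univ_of_univ_subset ((hd.mono hVZ).closure_eq ▸ (hZc.closure_eq).subset)
  obtain ⟨g, hg⟩ := AlgGrp79.exists_lift_of_range_subset i i' (by
    rintro _ ⟨x, rfl⟩
    exact (Set.eq_univ_iff_forall.mp hZ x))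
  exact ⟨g, by rw [← cancel_mono i, Category.assoc, hg, hfi, Category.id_comp],
    by rw [← cancel_mono i', Category.assoc, hfi, hg, Category.id_comp]⟩

end AlgClosed

end Groth.Agent.AGF80.Luna
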