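import Groth.Agent.AGF80.Luna.Main
import Groth.Agent.AGF80.CartanDense
import Groth.Agent.AGF80.Descend
import Groth.Agent.AlgGrp79.CentTorus

/-!
Cartan subgroups: a maximal torus times a subgroup of the unipotent radical.
-/

set_option autoImplicit false
set_option linter.unusedSectionVars false
set_option linter.style.haveILetI false
set_option backward.isDefEq.respectTransparency.types false
set_option synthInstance.maxHeartbeats 200000

universe u

open CategoryTheory MonoidalCategory CartesianMonoidalCategory MonObj GrpObj AlgebraicGeometry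
open Groth.Agent.GMod80

noncomputable section

namespace Groth.Agent.AGF80.Luna

open Comod33 AlgGrp79

variable {k : Type u} [Field k] [IsAlgClosed k]

local notation "pk" => 𝟙_ (Over (Spec (CommRingCat.of k)))

/-- A closed subgroup whose rational points have finitely many cosets in a connected group has all rational points. -/
theorem mem_of_cover {C D : Over (Spec (CommRingCat.of k))} [GrpObj C] [GrpObj D] [IsAffine C.left] [Smooth C.hom]
    [ConnectedSpace C.left] (iD : D ⟶ C) [IsMonHom iD] [IsClosedImmersion iD.left] (F : Finset (pk ⟶ C))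
    (h : ∀ x : pk ⟶ C, ∃ f ∈ F, ∃ d : pk ⟶ D, x = f * (d ≫ iD)) (x : pk ⟶ C) : ∃ d : pk ⟶ D, d ≫ iD = x := by
  classical
  haveI : IrreducibleSpace C.left := by
    have hirr := (Grp57.connectedComponent_unit C).1
    rw [PreconnectedSpace.connectedComponent_eq_univ] at hirr
    exact { isPreirreducible_univ := hirr.2, toNonempty := inferInstance }
  haveI : Mono iD := Over.mono_of_mono_left iD
  let L : (pk ⟶ C) → (C ≅ C) := fun f =>
    { hom := (toUnit C ≫ f) * 𝟙 C
      inv := (toUnit C ≫ f)⁻¹ * 𝟙 C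
      hom_inv_id := by simp [MonObj.comp_mul, GrpObj.comp_inv, toUnit_unique (_ ≫ toUnit C) (toUnit C)]
      inv_hom_id := by simp [MonObj.comp_mul, GrpObj.comp_inv, toUnit_unique (_ ≫ toUnit C) (toUnit C)] }
  have hL : ∀ f (p : pk ⟶ C), p ≫ (L f).hom = f * p := fun f p => by
    simp [L, MonObj.comp_mul, toUnit_unique (p ≫ toUnit C) (𝟙 _)]
  have hcl : ∀ f, IsClosed (Set.range (iD ≫ (L f).hom).left) := fun f => by
    haveI : IsIso (L f).hom.left := ((Over.forget _).mapIso (L f)).isIso_hom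
    haveI : IsClosedImmersion (iD ≫ (L f).hom).left :=
      inferInstanceAs (IsClosedImmersion (iD.left ≫ (L f).hom.left))
    exact (iD ≫ (L f).hom).left.isClosedEmbedding.isClosed_range
  let Rs : Finset (Set C.left) := F.image fun f => Set.range (iD ≫ (L f).hom).left
  have hsub : (Set.univ : Set C.left) ⊆ ⋃₀ (Rs : Set (Set C.left)) :=
    DenseConj.subset_of_pts (Z := C) isClosed_univ (by
      rw [Set.sUnion_eq_biUnion]
      refine Set.Finite.isClosed_biUnion (Finset.finite_toSet Rs) fun Z hZ => ?_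
      obtain ⟨f, -, rfl⟩ := Finset.mem_image.1 hZ
      exact hcl f) fun p _ => by
      obtain ⟨f, hf, d, hd⟩ := h p
      refine ⟨_, Finset.mem_coe.2 (Finset.mem_image_of_mem _ hf), d.left (IsLocalRing.closedPoint k), ?_⟩
      have e : d ≫ iD ≫ (L f).hom = p := by rw [← Category.assoc, hL, hd]
      exact congrArg (fun q : pk ⟶ C => q.left (IsLocalRing.closedPoint k)) e
  obtain ⟨Z, hZ, hZu⟩ := isIrreducible_iff_sUnion_isClosed.1 (IrreducibleSpace.isIrreducible_univ C.left) Rs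
    (fun Z hZ => by
      obtain ⟨f, -, rfl⟩ := Finset.mem_image.1 hZ
      exact hcl f) hsub
  obtain ⟨f, -, rfl⟩ := Finset.mem_image.1 hZ
  haveI : IsReduced (pk).left := inferInstanceAs (IsReduced (Spec (CommRingCat.of k)))
  haveI : IsClosedImmersion (iD ≫ (L f).hom).left := by
    haveI : IsIso (L f).hom.left := ((Over.forget _).mapIso (L f)).isIso_hom
    exact inferInstanceAs (IsClosedImmersion (iD.left ≫ (L f).hom.left))
  have hall : ∀ p : pk ⟶ C, ∃ d : pk ⟶ D, f * (d ≫ iD) = p := fun p => by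
    obtain ⟨d, hd⟩ := exists_lift_of_range_subset (iD ≫ (L f).hom) p fun z hz => hZu trivial
    exact ⟨d, by rw [← hL, Category.assoc, hd]⟩
  obtain ⟨d₁, hd₁⟩ := hall 1
  obtain ⟨d₂, hd₂⟩ := hall x
  refine ⟨d₁⁻¹ * d₂, ?_⟩
  rw [MonObj.mul_comp _ _ iD, GrpObj.inv_comp, eq_inv_of_mul_eq_one_right hd₁, _root_.inv_inv, hd₂]

set_option maxHeartbeats 800000 in
/-- A rational point centralising a maximal torus is a product of a point of the torus and one of the unipotent radical. -/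
theorem cent_pts (G : Over (Spec (CommRingCat.of k))) [GrpObj G] [IsAffine G.left] [Smooth G.hom] [ConnectedSpace G.left]
    {U : Over (Spec (CommRingCat.of k))} [GrpObj U] {u : U ⟶ G} (hU : Par.IsUnipotentRadical u)
    {T : Over (Spec (CommRingCat.of k))} [GrpObj T] {iT : T ⟶ G} (hT : AGF.IsMaxTorus iT)
    {C : Over (Spec (CommRingCat.of k))} [GrpObj C] {c : C ⟶ G} (hc : Red.IsCentralizerOf iT c) (p : pk ⟶ C) :
    ∃ (s : pk ⟶ T) (y : pk ⟶ U), p ≫ c = (s ≫ iT) * (y ≫ u) := by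
  classical
  obtain ⟨hTm, hTmono, hTt, -⟩ := id hT
  haveI := hTm
  haveI := hTmono
  obtain ⟨hTs, _, hTa, _, hTc⟩ := AlgGrp33.IsogSub.torus_props hTt
  haveI := hTs
  haveI := hTa
  haveI : IsReduced T.left := isReduced_of_smooth T.hom
  obtain ⟨hCs, hCcl, hCc⟩ := CentTorus.centralizer_props G iT hTt c hc
  haveI := hCs
  haveI := hCcl
  haveI := hCc
  obtain ⟨hcm, hcmono, hciff⟩ := id hc
  haveI := hcm
  haveI := hcmono
  obtain ⟨hum, hucl, -⟩ := id hU
  haveI := hum
  haveI := hucl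
  haveI : IsAffine C.left := isAffine_of_isAffineHom c.left
  haveI : IsReduced C.left := isReduced_of_smooth C.hom
  have hcen : ∀ (X : Over (Spec (CommRingCat.of k))) (z : X ⟶ C) (s : X ⟶ T),
      (z ≫ c) * (s ≫ iT) = (s ≫ iT) * (z ≫ c) := fun X z s => by
    simpa using (hciff X (z ≫ c)).1 ⟨z, rfl⟩ X (𝟙 X) s
  obtain ⟨tC, htC⟩ := (hciff T iT).2 fun X' x h => by
    rw [← MonObj.mul_comp _ _ iT, ← MonObj.mul_comp _ _ iT, mul_comm x h]
  haveI := BorelCor.isMonHom_factor tC c iT htC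
  haveI : Mono (tC ≫ c) := by rw [htC]; infer_instance
  haveI : Mono tC := mono_of_mono tC c
  have hTC := BorelCor.isMaxTorus_of_factor hT c tC htC
  have hcen' : ∀ (X : Over (Spec (CommRingCat.of k))) (z : X ⟶ C) (s : X ⟶ T), z * (s ≫ tC) = (s ≫ tC) * z :=
    fun X z s => by
      rw [← cancel_mono c, MonObj.mul_comp _ _ c, MonObj.mul_comp _ _ c, Category.assoc, htC]
      exact hcen X z s
  obtain ⟨-, hsC⟩ := CartanNilp.pts_of_central C tC hTC hcen'
  obtain ⟨W, _, iW, _, _, _, _, nW, hnW, hmW, T₁, _, j₁, _, _, hT₁, F, hdec⟩ := UnipPart.exists_unipPart C hsC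
  haveI : Mono j₁ := Over.mono_of_mono_left j₁
  haveI : Mono iW := Over.mono_of_mono_left iW
  haveI : IsAffine W.left := isAffine_of_isAffineHom iW.left
  obtain ⟨hT₁s, _, _, _, _⟩ := AlgGrp33.IsogSub.torus_props hT₁
  haveI := hT₁s
  -- the torus of the decomposition lies in `T`
  have hT₁T : ∀ t₁ : pk ⟶ T₁, ∃ s : pk ⟶ T, s ≫ tC = t₁ ≫ j₁ := by
    obtain ⟨AC, _, _, ψC, _⟩ := exists_coord C
    obtain ⟨T₂, _, j₂, _, _, hT₂, -, hconj⟩ := ToriConj.exists_maxTorus_coord C hsC ψC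
    obtain ⟨b, φ, hφ⟩ := hconj T hTt tC
    haveI : Mono (AGF.conjBy b j₂) := by
      haveI := BorelConj.isClosedImmersion_conjBy b j₂
      exact Over.mono_of_mono_left _
    haveI := BorelConj.isMonHom_conjBy b j₂
    haveI : IsIso φ := hTC.2.2.2 T₂ (AGF.conjBy b j₂) φ hT₂ hφ
    intro t₁
    obtain ⟨b', φ', hφ'⟩ := hconj T₁ hT₁ j₁
    refine ⟨t₁ ≫ φ' ≫ inv φ, ?_⟩
    have e1 : (t₁ ≫ φ' ≫ inv φ) ≫ tC = b * ((t₁ ≫ φ') ≫ j₂) * b⁻¹ := by
      rw [← hφ, Category.assoc, Category.assoc, IsIso.inv_hom_id_assoc, ← Category.assoc, BorelTori.pt_comp_conjBy]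
    have e2 : t₁ ≫ j₁ = b' * ((t₁ ≫ φ') ≫ j₂) * b'⁻¹ := by
      rw [← hφ', ← Category.assoc, BorelTori.pt_comp_conjBy]
    have h3 := hcen' pk (b' * b⁻¹) (t₁ ≫ φ' ≫ inv φ)
    calc (t₁ ≫ φ' ≫ inv φ) ≫ tC = ((t₁ ≫ φ' ≫ inv φ) ≫ tC) * (b' * b⁻¹) * (b' * b⁻¹)⁻¹ := by group
      _ = (b' * b⁻¹) * ((t₁ ≫ φ' ≫ inv φ) ≫ tC) * (b' * b⁻¹)⁻¹ := by rw [← h3]
      _ = t₁ ≫ j₁ := by rw [e1, e2]; group
  -- the torus and the unipotent part generate a closed subgroup of finite index
  haveI := AlgGrp79.lft_prod T W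
  haveI : IsReduced W.left := isReduced_of_smooth W.hom
  haveI := AlgGrp79.reduced_prod T W
  let Fm : AlgGrp79.Fam C :=
    { X := T ⊗ W
      f := (fst T W ≫ tC) * (snd T W ≫ iW)
      x := lift 1 1
      hx := by simp [MonObj.comp_mul, MonObj.one_comp]
      red := inferInstance
      irr := by
        haveI : IrreducibleSpace T.left := by
          haveI := hTc
          have hirr := (Grp57.connectedComponent_unit T).1
          rw [PreconnectedSpace.connectedComponent_eq_univ] at hirr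
          exact { isPreirreducible_univ := hirr.2, toNonempty := inferInstance }
        haveI : IrreducibleSpace W.left := by
          have hirr := (Grp57.connectedComponent_unit W).1
          rw [PreconnectedSpace.connectedComponent_eq_univ] at hirr
          exact { isPreirreducible_univ := hirr.2, toNonempty := inferInstance }
        exact AlgGrp79.irreducible_prod T W
      lft := inferInstance
      qc := AlgGrp79.qc_prod T W }
  let P : Subgroup (pk ⟶ C) :=
    { carrier := {x | ∃ (s : pk ⟶ T) (w : pk ⟶ W), x = (s ≫ tC) * (w ≫ iW)}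
      one_mem' := ⟨1, 1, by rw [MonObj.one_comp, MonObj.one_comp, _root_.one_mul]⟩
      mul_mem' := by
        rintro _ _ ⟨s, w, rfl⟩ ⟨s', w', rfl⟩
        refine ⟨s * s', w * w', ?_⟩
        rw [MonObj.mul_comp _ _ tC, MonObj.mul_comp _ _ iW]
        calc (s ≫ tC) * (w ≫ iW) * ((s' ≫ tC) * (w' ≫ iW))
            = (s ≫ tC) * ((w ≫ iW) * (s' ≫ tC)) * (w' ≫ iW) := by group
          _ = (s ≫ tC) * ((s' ≫ tC) * (w ≫ iW)) * (w' ≫ iW) := by rw [hcen' pk (w ≫ iW) s']
          _ = _ := by group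
      inv_mem' := by
        rintro _ ⟨s, w, rfl⟩
        refine ⟨s⁻¹, w⁻¹, ?_⟩
        rw [GrpObj.inv_comp, GrpObj.inv_comp, _root_.mul_inv_rev, ← GrpObj.inv_comp w iW, ← GrpObj.inv_comp s tC,
          hcen' pk (w⁻¹ ≫ iW) s⁻¹] }
  obtain ⟨D, _, iD, _, _, _, _, hDpts⟩ := AlgGrp79.exists_generated Fm
  have hDP : ∀ d : pk ⟶ D, d ≫ iD ∈ P := fun d =>
    (Subgroup.closure_le P).2 (by
      rintro _ ⟨q, rfl⟩
      exact ⟨q ≫ fst T W, q ≫ snd T W, by simp [Fm, MonObj.comp_mul]⟩) (hDpts.le ⟨d, rfl⟩)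
  obtain ⟨d, hd⟩ := mem_of_cover iD F (fun x => by
    obtain ⟨t₁, f, hf, y, hy⟩ := hdec x
    obtain ⟨s, hs⟩ := hT₁T t₁
    obtain ⟨d, hd⟩ := hDpts.ge (Subgroup.subset_closure (k := Fm.pts)
      ⟨lift s y, show lift s y ≫ Fm.f = (s ≫ tC) * (y ≫ iW) by simp [Fm, MonObj.comp_mul]⟩)
    refine ⟨f, hf, d, ?_⟩
    rw [hy, show d ≫ iD = (s ≫ tC) * (y ≫ iW) from hd, ← hs, ← hcen' pk f s, _root_.mul_assoc]) p
  obtain ⟨s, w, hsw⟩ := hDP d
  rw [hd] at hsw
  -- the unipotent part lies in the unipotent radical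
  haveI : IsClosedImmersion (iW ≫ c).left := inferInstanceAs (IsClosedImmersion (iW.left ≫ c.left))
  obtain ⟨g, hg⟩ := le_unipRad G hU hT (iW ≫ c) fun B _ iB t hB ht V _ v hV => by
    obtain ⟨_, _, _, _, hsB, -⟩ := id hB
    haveI : IsAffine B.left := isAffine_of_isAffineHom iB.left
    haveI : Mono iB := Over.mono_of_mono_left iB
    obtain ⟨fC, hfC⟩ := Descend.centralizer_le_borel hT hc hB t ht
    haveI := BorelCor.isMonHom_factor (iW ≫ fC) iB (iW ≫ c) (by rw [Category.assoc, hfC])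
    haveI : IsClosedImmersion (iW ≫ fC).left := by
      have : IsClosedImmersion ((iW ≫ fC).left ≫ iB.left) := by
        rw [← Over.comp_left, Category.assoc, hfC]; infer_instance
      exact IsClosedImmersion.of_comp (iW ≫ fC).left iB.left
    obtain ⟨V', _, v', _, _, _, _, nV', hnV', hmV', -⟩ := UnipPart.exists_unipPart B hsB
    have hV' : Par.IsUnipotentRadical v' := UnipBasic.isUnipotentRadical_of_largest v' hnV' nV'
      fun V'' _ v'' _ h1 h2 h3 _ h5 => hmV' V'' v'' h1 h2 h3 h5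
    obtain ⟨a, ha⟩ := hmV' W (iW ≫ fC) inferInstance inferInstance inferInstance nW
    obtain ⟨b, hb⟩ := hV.2.2.2.2.2.2 V' v' inferInstance hnV' inferInstance hV'.2.2.2.2.1 hV'.2.2.2.2.2.1
    exact ⟨a ≫ b, by rw [Category.assoc, reassoc_of% hb, reassoc_of% ha, hfC]⟩
  refine ⟨s, w ≫ g, ?_⟩
  rw [hsw, MonObj.mul_comp _ _ c, Category.assoc s tC c, htC, Category.assoc w iW c, Category.assoc w g u, hg]

/-- Without unipotent radical, the Cartan subgroup is the maximal torus. -/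
theorem exists_cent_le_torus (G : Over (Spec (CommRingCat.of k))) [GrpObj G] [IsAffine G.left] [Smooth G.hom]
    [ConnectedSpace G.left] {U : Over (Spec (CommRingCat.of k))} [GrpObj U] {u : U ⟶ G} (hU : Par.IsUnipotentRadical u)
    (hU1 : Red.IsTrivialGrp U) {T : Over (Spec (CommRingCat.of k))} [GrpObj T] {iT : T ⟶ G} (hT : AGF.IsMaxTorus iT)
    {C : Over (Spec (CommRingCat.of k))} [GrpObj C] {c : C ⟶ G} (hc : Red.IsCentralizerOf iT c) :
    ∃ f : C ⟶ T, f ≫ iT = c := by
  obtain ⟨hTm, hTmono, hTt, -⟩ := id hT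
  haveI := hTm
  haveI := hTmono
  obtain ⟨hTs, _, hTa, _, _⟩ := AlgGrp33.IsogSub.torus_props hTt
  haveI := hTa
  haveI : IsClosedImmersion iT.left := BorelCor.isClosedImmersion_torus G hTt iT
  obtain ⟨hCs, hCcl, -⟩ := CentTorus.centralizer_props G iT hTt c hc
  haveI := hCs
  haveI := hCcl
  haveI : IsReduced C.left := isReduced_of_smooth C.hom
  haveI := hU.1
  haveI : IsIso U.hom := hU1
  have huniq : ∀ y : pk ⟶ U, y = 1 := fun y => by
    ext : 1
    rw [← cancel_mono U.hom, Over.w, Over.w]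
  exact BorelCor.exists_factor_of_pts c iT fun p => by
    obtain ⟨s, y, h⟩ := cent_pts G hU hT hc p
    exact ⟨s, by rw [h, huniq y, MonObj.one_comp, _root_.mul_one]⟩

end Groth.Agent.AGF80.Luna
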