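import Groth.Agent.AGF80.Luna.Main
import Groth.Agent.AGF80.CentBorelInter
import Groth.Agent.AGF80.CentInter

/-!
The unipotent radical of the centralizer of a torus.
-/

set_option autoImplicit false
set_option linter.unusedSectionVars false
set_option linter.style.haveILetI false
set_option backward.isDefEq.respectTransparency.types false
set_option synthInstance.maxHeartbeats 200000

universe u

open CategoryTheory MonoidalCategory CartesianMonoidalCategory MonObj GrpObj AlgebraicGeometry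
open Groth.Agent.GMod80

noncomputable section

namespace Groth.Agent.AGF80.Luna

open Comod33 AlgGrp79

variable {k : Type u} [Field k] [IsAlgClosed k]

local notation "pk" => 𝟙_ (Over (Spec (CommRingCat.of k)))

/-- The intersection of two subgroups. -/
theorem exists_inter {G B C : Over (Spec (CommRingCat.of k))} [GrpObj G] [GrpObj B] [GrpObj C] (c : C ⟶ G) [IsMonHom c]
    [Mono c] (iB : B ⟶ G) [IsMonHom iB] [Mono iB] :
    ∃ (D : Over (Spec (CommRingCat.of k))) (_ : GrpObj D) (dC : D ⟶ C) (dB : D ⟶ B),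
      IsMonHom dC ∧ IsPullback dC dB c iB := by
  let D := Limits.pullback c iB
  let dC : D ⟶ C := Limits.pullback.fst _ _
  let dB : D ⟶ B := Limits.pullback.snd _ _
  have sq : IsPullback dC dB c iB := IsPullback.of_hasPullback _ _
  haveI : Mono dC := inferInstanceAs (Mono (Limits.pullback.fst c iB))
  have hfac : ∀ {T : Over (Spec (CommRingCat.of k))} (x : T ⟶ C) (y : T ⟶ B), x ≫ c = y ≫ iB → ∃ z, z ≫ dC = x :=
    fun x y h => ⟨sq.lift x y h, sq.lift_fst _ _ _⟩
  have h1 : ∃ z, z ≫ dC = (1 : 𝟙_ _ ⟶ C) := hfac 1 1 (by rw [MonObj.one_comp, MonObj.one_comp])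
  have hmul : ∃ z, z ≫ dC = (fst D D ≫ dC) * (snd D D ≫ dC) :=
    hfac _ ((fst D D ≫ dB) * (snd D D ≫ dB)) (by
      rw [MonObj.mul_comp _ _ c, MonObj.mul_comp _ _ iB, Category.assoc, Category.assoc, Category.assoc, Category.assoc, sq.w])
  have hinv : ∃ z, z ≫ dC = dC⁻¹ := hfac _ dB⁻¹ (by rw [GrpObj.inv_comp, GrpObj.inv_comp, sq.w])
  letI := SGA3a.grpObjOfMono dC h1 hmul hinv
  exact ⟨D, inferInstance, dC, dB, SGA3a.isMonHom_grpObjOfMono dC h1 hmul hinv, sq⟩

/-- Every subtorus lies in a maximal torus. -/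
theorem exists_maxTorus_ge (G : Over (Spec (CommRingCat.of k))) [GrpObj G] [IsAffine G.left] [Smooth G.hom]
    [ConnectedSpace G.left] {S : Over (Spec (CommRingCat.of k))} [GrpObj S] (iS : S ⟶ G) [IsMonHom iS] [Mono iS]
    (hS : Red.IsTorus S) :
    ∃ (T : Over (Spec (CommRingCat.of k))) (_ : GrpObj T) (iT : T ⟶ G) (f : S ⟶ T), AGF.IsMaxTorus iT ∧ f ≫ iT = iS := by
  obtain ⟨hSs, _, hSa, _, hSc⟩ := AlgGrp33.IsogSub.torus_props hS
  haveI := hSs; haveI := hSa; haveI := hSc
  haveI := BorelCor.isClosedImmersion_torus G hS iS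
  obtain ⟨B, _, iB, fS, hB, hfS⟩ := BorelCor.exists_borel_ge G iS (BorelCor.isSolvableGrp_torus hS)
  obtain ⟨hBm, hBcl, hBs, hBc, hBsolv, -⟩ := id hB
  haveI := hBm; haveI := hBcl; haveI := hBs; haveI := hBc
  haveI : IsAffine B.left := isAffine_of_isAffineHom iB.left
  haveI : Mono iB := Over.mono_of_mono_left iB
  haveI := BorelCor.isMonHom_factor fS iB iS hfS
  obtain ⟨T₀, _, i, j, hji, hmax, -⟩ := BorelTorus.main G iB hB
  obtain ⟨hTm, hTmono, hTt, -⟩ := id hmax
  haveI := hTm; haveI := hTmono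
  haveI := BorelCor.isMonHom_factor j iB i hji
  have hjmax : AGF.IsMaxTorus j := BorelTori.isMaxTorus_lift' hmax j hji
  obtain ⟨T₁, _, j₁, _, _, hT₁, hconj⟩ := ToriConj.exists_maxTorus B hBsolv
  obtain ⟨b, φ, hφ⟩ := hconj S hS fS
  obtain ⟨b', χ, hχ⟩ := hconj T₀ hTt j
  haveI := BorelConj.isMonHom_conjBy b' j₁
  haveI := BorelConj.isClosedImmersion_conjBy b' j₁
  haveI : Mono (AGF.conjBy b' j₁) := Over.mono_of_mono_left _
  haveI := hjmax.2.2.2 T₁ (AGF.conjBy b' j₁) χ hT₁ hχ
  refine ⟨T₀, inferInstance, AGF.conjBy ((b * b'⁻¹) ≫ iB) i, φ ≫ inv χ, BorelCor.isMaxTorus_conjBy hmax _, ?_⟩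
  have e : fS = (φ ≫ inv χ) ≫ AGF.conjBy (b * b'⁻¹) j := by
    rw [← hφ, ← hχ, Category.assoc, BorelConj.comp_conjBy (inv χ), BorelConj.comp_conjBy φ, BorelConj.comp_conjBy φ,
      BorelConj.comp_conjBy χ, BorelConj.comp_conjBy (inv χ), IsIso.inv_hom_id_assoc, BorelConj.comp_conjBy φ,
      BorelConj.conjBy_conjBy, inv_mul_cancel_right]
  have hcj : AGF.conjBy (b * b'⁻¹) j ≫ iB = AGF.conjBy ((b * b'⁻¹) ≫ iB) i := by
    rw [← hji, AGF.conjBy, MonObj.mul_comp _ _ iB, MonObj.mul_comp _ _ iB, GrpObj.inv_comp, Category.assoc]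
  rw [← hfS, e, Category.assoc (φ ≫ inv χ), hcj]

/-- The unipotent radical of a Borel subgroup contains its smooth connected unipotent subgroups. -/
theorem le_radical_solvable {B : Over (Spec (CommRingCat.of k))} [GrpObj B] [IsAffine B.left] [Smooth B.hom]
    [ConnectedSpace B.left] (hs : Red.IsSolvableGrp B) {V : Over (Spec (CommRingCat.of k))} [GrpObj V] {v : V ⟶ B}
    (hv : Par.IsUnipotentRadical v) {W : Over (Spec (CommRingCat.of k))} [GrpObj W] (w : W ⟶ B) [IsMonHom w]
    [IsClosedImmersion w.left] [Smooth W.hom] [ConnectedSpace W.left] (nW : Red.HasNoSubtorus k W) :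
    ∃ f : W ⟶ V, f ≫ v = w := by
  obtain ⟨U, _, iU, _, hUcl, hUs, hUc, nU, hnU, hle, -⟩ := UnipPart.exists_unipPart B hs
  haveI := hUcl; haveI := hUs; haveI := hUc
  haveI : IsAffine U.left := isAffine_of_isAffineHom iU.left
  obtain ⟨f, hf⟩ := hle W w inferInstance inferInstance inferInstance nW
  obtain ⟨-, -, -, -, -, -, hmax⟩ := id hv
  obtain ⟨QU, _, _, _, ψU, _, hQU⟩ := UnipBasic.exists_unip_coord U nU
  obtain ⟨g, hg⟩ := hmax U iU inferInstance hnU inferInstance inferInstance fun s => by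
    refine ⟨?_, UnipBasic.hasNoSubtorus_bc hQU ψU _⟩
    haveI := GMod80.isIso_geomPt (k := k) s
    haveI : IsIso (Limits.pullback.fst U.hom (Red.geomPt s)) := inferInstance
    exact (Limits.pullback.fst U.hom (Red.geomPt s)).homeomorph.symm.surjective.connectedSpace
      (Scheme.Hom.homeomorph _).symm.continuous
  exact ⟨f ≫ g, by rw [Category.assoc, hg, hf]⟩

/-- The unipotent radical of the centralizer of a torus is its intersection with the unipotent radical. -/
theorem isUnipotentRadical_cent {G S C U V : Over (Spec (CommRingCat.of k))} [GrpObj G] [GrpObj S] [GrpObj C] [GrpObj U]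
    [GrpObj V] [IsAffine G.left] [Smooth G.hom] [ConnectedSpace G.left] (iS : S ⟶ G) [IsMonHom iS] [Mono iS]
    (hS : Red.IsTorus S) (c : C ⟶ G) (hc : Red.IsCentralizerOf iS c) (u : U ⟶ G) (hU : Par.IsUnipotentRadical u)
    (v : V ⟶ C) [IsMonHom v] (w : V ⟶ U) (hV : IsPullback w v u c) : Par.IsUnipotentRadical v := by
  obtain ⟨hum, hucl, hun, hus, -, -, humax⟩ := id hU
  haveI := hum; haveI := hucl; haveI := hus
  haveI : IsAffine U.left := isAffine_of_isAffineHom u.left
  haveI : Mono u := Over.mono_of_mono_left u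
  obtain ⟨hUc, nU⟩ := UnipBasic.connected_noSubtorus_of_isUnipotentRadical hU
  haveI := hUc
  obtain ⟨hCm, hCmono, hciff⟩ := id hc
  haveI := hCm; haveI := hCmono
  obtain ⟨hCs, hCcl, hCc⟩ := CentTorus.centralizer_props G iS hS c hc
  haveI := hCs; haveI := hCcl; haveI := hCc
  haveI : IsAffine C.left := isAffine_of_isAffineHom c.left
  have hnorm : ∀ (X : Over (Spec (CommRingCat.of k))) (s : X ⟶ S) (h : X ⟶ U), ∃ h' : X ⟶ U,
      (s ≫ iS) * (h ≫ u) * (s ≫ iS)⁻¹ = h' ≫ u := fun X s h => hun X (s ≫ iS) h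
  obtain ⟨hVs, hVc⟩ := CentInter.smooth_connected iS hS hc u hnorm v w hV.flip
  haveI := hVs; haveI := hVc
  have hsq : IsPullback w.left v.left u.left c.left := isPullback_left hV
  haveI : IsClosedImmersion v.left := MorphismProperty.of_isPullback hsq hucl
  haveI : Mono w := MorphismProperty.of_isPullback (P := MorphismProperty.monomorphisms _) hV.flip hCmono
  haveI : IsMonHom w := BorelCor.isMonHom_factor w u (v ≫ c) hV.w
  obtain ⟨QU, _, _, _, ψU, _, hQU⟩ := UnipBasic.exists_unip_coord U nU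
  have nV : Red.HasNoSubtorus k V := UnipBasic.hasNoSubtorus_of_unipotent hQU ψU w
  refine UnipBasic.isUnipotentRadical_of_largest v ?_ nV fun W _ y _ hycl hys hyc hyn nW => ?_
  · intro X g n
    obtain ⟨n', hn'⟩ := hun X (g ≫ c) (n ≫ w)
    have e : n' ≫ u = (g * (n ≫ v) * g⁻¹) ≫ c := by
      rw [← hn', MonObj.mul_comp _ _ c, MonObj.mul_comp _ _ c, GrpObj.inv_comp, Category.assoc, Category.assoc, hV.w]
    exact ⟨hV.lift n' _ e, (hV.lift_snd _ _ _).symm⟩
  haveI := hycl; haveI := hys; haveI := hyc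
  haveI : IsAffine W.left := isAffine_of_isAffineHom y.left
  haveI : IsClosedImmersion (y ≫ c).left := inferInstanceAs (IsClosedImmersion (y.left ≫ c.left))
  obtain ⟨T, _, iT, f, hT, hf⟩ := exists_maxTorus_ge G iS hS
  obtain ⟨g, hg⟩ := le_unipRad G hU hT (y ≫ c) fun B _ iB t hB ht VB _ vB hvB => by
    obtain ⟨hBm, hBcl, hBs, hBc, hBsolv, -⟩ := id hB
    haveI := hBm; haveI := hBcl; haveI := hBs; haveI := hBc
    haveI : IsAffine B.left := isAffine_of_isAffineHom iB.left
    haveI : Mono iB := Over.mono_of_mono_left iB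
    obtain ⟨D, _, dC, dB, _, hD⟩ := exists_inter c iB
    have hDB := CentBorelInter.isBorelOver_inter iS hS iB hB (f ≫ t) (by rw [Category.assoc, ht, hf]) c hc dC dB hD
    obtain ⟨z, hz⟩ := UnipExist.normal_le_borel y hyn (UnipBasic.isSolvableGrp_unip W nW) hDB
    have hzw : (z ≫ dB) ≫ iB = y ≫ c := by rw [Category.assoc, ← hD.w, ← Category.assoc, hz]
    haveI := BorelCor.isMonHom_factor (z ≫ dB) iB _ hzw
    haveI : IsClosedImmersion (z ≫ dB).left := by
      haveI : IsClosedImmersion ((z ≫ dB).left ≫ iB.left) := by rw [← Over.comp_left, hzw]; infer_instance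
      exact IsClosedImmersion.of_comp _ iB.left
    obtain ⟨f', hf'⟩ := le_radical_solvable hBsolv hvB (z ≫ dB) nW
    exact ⟨f', by rw [← Category.assoc, hf', hzw]⟩
  exact ⟨hV.lift g y hg, hV.lift_snd _ _ _⟩

end Groth.Agent.AGF80.Luna
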