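import Groth.Agent.AGF80.Luna.Image
import Groth.Agent.AlgGrp79.TorusImage
import Groth.Agent.CAlg6.GrpWordSub
import Groth.Agent.CAlg6.GenDerived

/-!
Maximal tori and central isogenies.
-/

set_option autoImplicit false
set_option linter.unusedSectionVars false
set_option linter.style.haveILetI false
set_option backward.isDefEq.respectTransparency.types false
set_option synthInstance.maxHeartbeats 200000

universe u

open CategoryTheory MonoidalCategory CartesianMonoidalCategory MonObj GrpObj AlgebraicGeometry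
open Groth.Agent.GMod80

noncomputable section

namespace Groth.Agent.AGF80.Luna

open AlgGrp79

/-- A group isomorphic to a torus is a torus. -/
theorem isTorus_of_iso {S : Scheme.{u}} {T T' : Over S} [GrpObj T] [GrpObj T'] (e : T ≅ T') [IsMonHom e.hom]
    (hT : Red.IsTorus T) : Red.IsTorus T' := by
  obtain ⟨S', f, h1, h2, h3, h4⟩ := hT
  refine ⟨S', f, h1, h2, h3, fun s => ?_⟩
  obtain ⟨U, hU, r, ⟨i⟩⟩ := h4 s
  let g : Grp.mk T ≅ Grp.mk T' := Grp.mkIso' e
  exact ⟨U, hU, r, ⟨(Functor.mapGrp (Over.pullback (U.ι ≫ f))).mapIso g.symm ≪≫ i⟩⟩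

variable {k : Type u} [Field k]

local notation "pk" => 𝟙_ (Over (Spec (CommRingCat.of k)))

set_option maxHeartbeats 800000 in
/-- The preimage of a maximal torus by a surjection with central kernel, over an algebraically closed field. -/
theorem preimage_maxTorus [IsAlgClosed k] {H' H T T' : Over (Spec (CommRingCat.of k))} [GrpObj H'] [GrpObj H]
    [GrpObj T] [GrpObj T'] (hH' : Red.IsReductiveOver k H') [IsAffine H.left] [Smooth H.hom] [ConnectedSpace H.left]
    (f : H' ⟶ H) [IsMonHom f] [Surjective f.left]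
    (hc : ∀ (X : Over (Spec (CommRingCat.of k))) (w g : X ⟶ H'), w ≫ f = 1 → w * g = g * w)
    {i : T ⟶ H} (hi : AGF.IsMaxTorus i) (i' : T' ⟶ H') [IsMonHom i'] (p : T' ⟶ T) (hsq : IsPullback i' p f i) :
    Red.IsTorus T' ∧ AGF.IsMaxTorus i' := by
  obtain ⟨hGa, hGs, hGc, -⟩ := id hH'
  haveI := hGa
  haveI := hGs
  haveI := hGc
  obtain ⟨him, himono, hTt, -⟩ := id hi
  haveI := him
  haveI := himono
  haveI : IsClosedImmersion i.left := BorelCor.isClosedImmersion_torus H hTt i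
  obtain ⟨B, _, iB, hB⟩ := BorelCor.exists_borel H'
  obtain ⟨T₀, _, i₀, j, -, hmax₀, -, -, -⟩ := BorelTorus.main H' iB hB
  obtain ⟨hm₀, hmono₀, ht₀, -⟩ := id hmax₀
  haveI := hm₀
  obtain ⟨hs₀, hq₀, ha₀, _, hcm₀⟩ := AlgGrp33.IsogSub.torus_props ht₀
  haveI := hs₀
  haveI := hq₀
  haveI := ha₀
  haveI := hcm₀
  haveI : IsReduced T₀.left := AlgGrp79.isReduced_of_smooth T₀.hom
  obtain ⟨V, _, iV, p₀, hVm, hp₀m, hVcl, hVr, hp₀s, hp₀⟩ := BorelCor.exists_image (i₀ ≫ f)
  haveI := hVm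
  haveI := hVcl
  haveI := hVr
  haveI := hp₀s
  have hV := TorusImage.isMaxTorus_image f hmax₀ iV p₀ hp₀
  obtain ⟨g, e, he⟩ := ToriConj.maxTorus_conj H V T iV i hV hi
  obtain ⟨g', rfl⟩ := BorelImage.exists_pt_lift f g
  let i₁ : T₀ ⟶ H' := AGF.conjBy g' i₀
  haveI : IsMonHom i₁ := BorelConj.isMonHom_conjBy g' i₀
  have hmax₁ : AGF.IsMaxTorus i₁ := BorelCor.isMaxTorus_conjBy hmax₀ g'
  haveI : Mono i₁ := hmax₁.2.1
  let p₁ : T₀ ⟶ T := p₀ ≫ e.hom
  have hp₁ : i₁ ≫ f = p₁ ≫ i := by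
    rw [Category.assoc, he, BorelConj.comp_conjBy, hp₀]
    show ((toUnit T₀ ≫ g') * i₀ * (toUnit T₀ ≫ g')⁻¹) ≫ f = _
    rw [MonObj.mul_comp _ _ f, MonObj.mul_comp _ _ f, GrpObj.inv_comp, Category.assoc]
  haveI : Surjective e.hom.left := by
    haveI : IsIso e.hom.left := ((Over.forget _).mapIso e).isIso_hom
    infer_instance
  haveI : Surjective p₁.left := inferInstanceAs (Surjective (p₀.left ≫ e.hom.left))
  haveI : IsMonHom p₁ := BorelCor.isMonHom_factor p₁ i (i₁ ≫ f) hp₁.symm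
  obtain ⟨hTs, _, _, _, _⟩ := AlgGrp33.IsogSub.torus_props hTt
  haveI := hTs
  haveI : IsReduced T.left := AlgGrp79.isReduced_of_smooth T.hom
  haveI := FibCrit57.flat_of_surjective_of_reduced p₁
  have hcov := AlgGrp79.isCov_of_flat_surjective p₁
  let φ : T₀ ⟶ T' := hsq.lift i₁ p₁ hp₁
  obtain ⟨ψ, hψ⟩ := exists_factor_of_comm hH' hmax₁ i' fun X x s => by
    obtain ⟨X', c, a, hcc, ha⟩ := hcov.exists_lift (x ≫ p)
    haveI := hcc.epi
    rw [← cancel_epi c, MonObj.comp_mul c (x ≫ i') (s ≫ i₁), MonObj.comp_mul c (s ≫ i₁) (x ≫ i')]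
    have hk : ((c ≫ x ≫ i') * (a ≫ i₁)⁻¹) ≫ f = 1 := by
      rw [MonObj.mul_comp _ _ f, GrpObj.inv_comp, Category.assoc, Category.assoc, hsq.w, Category.assoc a i₁ f,
        hp₁, ← Category.assoc a p₁ i, ha, Category.assoc, Category.assoc, mul_inv_cancel]
    have hcom := hc X' _ (c ≫ s ≫ i₁) hk
    have htt : (a ≫ i₁) * (c ≫ s ≫ i₁) = (c ≫ s ≫ i₁) * (a ≫ i₁) := by
      rw [← Category.assoc c s i₁, ← MonObj.mul_comp _ _ i₁, ← MonObj.mul_comp _ _ i₁, mul_comm a (c ≫ s)]
    calc (c ≫ x ≫ i') * (c ≫ s ≫ i₁)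
        = ((c ≫ x ≫ i') * (a ≫ i₁)⁻¹) * ((a ≫ i₁) * (c ≫ s ≫ i₁)) := by group
      _ = (((c ≫ x ≫ i') * (a ≫ i₁)⁻¹) * (c ≫ s ≫ i₁)) * (a ≫ i₁) := by rw [htt]; group
      _ = (c ≫ s ≫ i₁) * (c ≫ x ≫ i') := by rw [hcom]; group
  haveI : Mono i' := MorphismProperty.of_isPullback (P := MorphismProperty.monomorphisms _) hsq.flip himono
  have hφ : φ ≫ i' = i₁ := hsq.lift_fst _ _ _
  haveI : IsMonHom φ := BorelCor.isMonHom_factor φ i' i₁ hφ
  let E : T₀ ≅ T' := ⟨φ, ψ, by rw [← cancel_mono i₁, Category.assoc, hψ, hφ, Category.id_comp],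
    by rw [← cancel_mono i', Category.assoc, hφ, hψ, Category.id_comp]⟩
  haveI : IsMonHom E.hom := ‹IsMonHom φ›
  have hT' := isTorus_of_iso E ht₀
  refine ⟨hT', inferInstance, inferInstance, hT', fun T'' _ j _ _ q hq hqj => ?_⟩
  haveI := hmax₁.2.2.2 T'' j (φ ≫ q) hq (by rw [Category.assoc, hqj, hφ])
  haveI : IsIso φ := ⟨ψ, E.hom_inv_id, E.inv_hom_id⟩
  exact IsIso.of_isIso_comp_left φ q

/-- Central kernels stay central after base change. -/
theorem central_bc {L : Type u} [Field L] (σ : Spec (CommRingCat.of L) ⟶ Spec (CommRingCat.of k))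
    {H' H K : Over (Spec (CommRingCat.of k))} [GrpObj H'] [GrpObj H] [GrpObj K] (f : H' ⟶ H) [IsMonHom f]
    {iK : K ⟶ H'} (hK : AlgGrp.IsKernel iK f)
    (hKc : ∀ (X : Over (Spec (CommRingCat.of k))) (x : X ⟶ K) (X' : Over (Spec (CommRingCat.of k))) (y : X' ⟶ X)
      (h : X' ⟶ H'), (y ≫ x ≫ iK) * h = h * (y ≫ x ≫ iK))
    (X : Over (Spec (CommRingCat.of L))) (w g : X ⟶ Red.bc σ H') (hw : w ≫ (Over.pullback σ).map f = 1) :
    w * g = g * w := by
  refine RedPts82.toBase_injective σ ?_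
  rw [RedPts82.toBase_mul, RedPts82.toBase_mul]
  have h1 : RedPts82.toBase σ w ≫ f = 1 := by
    rw [← RedPts82.toBase_comp_map, hw, RedPts82.toBase_one]
  let x := hK.lift (RedPts82.toBase σ w) (toUnit _) (by rw [h1]; rfl)
  have h := hKc _ x _ (𝟙 _) (RedPts82.toBase σ g)
  rwa [Category.id_comp, hK.lift_fst] at h

set_option maxHeartbeats 800000 in
/-- The preimage of a maximal torus by a central isogeny is a maximal torus. -/
theorem isMaximalTorus_preimage {H' H K T T' : Over (Spec (CommRingCat.of k))} [GrpObj H'] [GrpObj H] [GrpObj K]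
    [GrpObj T] [GrpObj T'] (hH' : Red.IsReductive H') (hH : Red.IsReductive H) (f : H' ⟶ H) [IsMonHom f]
    [Surjective f.left] {iK : K ⟶ H'} (hK : AlgGrp.IsKernel iK f)
    (hKc : ∀ (X : Over (Spec (CommRingCat.of k))) (x : X ⟶ K) (X' : Over (Spec (CommRingCat.of k))) (y : X' ⟶ X)
      (h : X' ⟶ H'), (y ≫ x ≫ iK) * h = h * (y ≫ x ≫ iK))
    {i : T ⟶ H} (hT : Red.IsMaximalTorus i) (i' : T' ⟶ H') [IsMonHom i'] (p : T' ⟶ T) (hsq : IsPullback i' p f i) :
    Red.IsMaximalTorus i' := by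
  haveI := hH.1
  haveI := hH.2.1
  haveI : Mono i' := MorphismProperty.of_isPullback (P := MorphismProperty.monomorphisms _) hsq.flip hT.2.1
  have main : ∀ s : Spec (CommRingCat.of k), Red.IsTorus (Red.geomFibre s T') ∧
      AGF.IsMaxTorus ((Over.pullback (Red.geomPt s)).map i') := by
    intro s
    obtain ⟨hHa, hHs, hHc, -⟩ := hH.2.2 s
    haveI := hHa
    haveI := hHs
    haveI := hHc
    haveI : Surjective ((Over.pullback (Red.geomPt s)).map f).left :=
      MorphismProperty.of_isPullback (RedPts82.isPullback_bc_map f _) ‹Surjective f.left›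
    exact preimage_maxTorus (hH'.2.2 s) ((Over.pullback (Red.geomPt s)).map f) (central_bc _ f hK hKc)
      (isMaxTorus_geom hT s).2 _ _ (hsq.map (Over.pullback (Red.geomPt s)))
  exact ⟨inferInstance, inferInstance, GeomSub.isTorus_of_bc _ (main (IsLocalRing.closedPoint k)).1,
    fun s T'' _ j _ _ q hq hqj => (main s).2.2.2.2 T'' j q hq hqj⟩

/-- The preimage of a subgroup. -/
theorem exists_preimage {G B C : Over (Spec (CommRingCat.of k))} [GrpObj G] [GrpObj B] [GrpObj C] (c : C ⟶ G) [IsMonHom c] (iB : B ⟶ G) [IsMonHom iB] [Mono iB] :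
    ∃ (D : Over (Spec (CommRingCat.of k))) (_ : GrpObj D) (dC : D ⟶ C) (dB : D ⟶ B),
      IsMonHom dC ∧ IsPullback dC dB c iB := by
  let D := Limits.pullback c iB
  let dC : D ⟶ C := Limits.pullback.fst _ _
  let dB : D ⟶ B := Limits.pullback.snd _ _
  have sq : IsPullback dC dB c iB := IsPullback.of_hasPullback _ _
  haveI : Mono dC := inferInstanceAs (Mono (Limits.pullback.fst c iB))
  have hfac : ∀ {T : Over (Spec (CommRingCat.of k))} (x : T ⟶ C) (y : T ⟶ B), x ≫ c = y ≫ iB → ∃ z, z ≫ dC = x :=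
    fun x y h => ⟨sq.lift x y h, sq.lift_fst _ _ _⟩
  have h1 : ∃ z, z ≫ dC = (1 : 𝟙_ _ ⟶ C) := hfac 1 1 (by rw [MonObj.one_comp, MonObj.one_comp])
  have hmul : ∃ z, z ≫ dC = (fst D D ≫ dC) * (snd D D ≫ dC) :=
    hfac _ ((fst D D ≫ dB) * (snd D D ≫ dB)) (by
      rw [MonObj.mul_comp _ _ c, MonObj.mul_comp _ _ iB, Category.assoc, Category.assoc, Category.assoc, Category.assoc, sq.w])
  have hinv : ∃ z, z ≫ dC = dC⁻¹ := hfac _ dB⁻¹ (by rw [GrpObj.inv_comp, GrpObj.inv_comp, sq.w])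
  letI := SGA3a.grpObjOfMono dC h1 hmul hinv
  exact ⟨D, inferInstance, dC, dB, SGA3a.isMonHom_grpObjOfMono dC h1 hmul hinv, sq⟩

set_option maxHeartbeats 800000 in
/-- A maximal torus is the preimage of its image by a central isogeny. -/
theorem exists_image_isPullback {H' H K S' : Over (Spec (CommRingCat.of k))} [GrpObj H'] [GrpObj H] [GrpObj K]
    [GrpObj S'] (hH' : Red.IsReductive H') (hH : Red.IsReductive H) (f : H' ⟶ H) [IsMonHom f] [Surjective f.left]
    {iK : K ⟶ H'} (hK : AlgGrp.IsKernel iK f)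
    (hKc : ∀ (X : Over (Spec (CommRingCat.of k))) (x : X ⟶ K) (X' : Over (Spec (CommRingCat.of k))) (y : X' ⟶ X)
      (h : X' ⟶ H'), (y ≫ x ≫ iK) * h = h * (y ≫ x ≫ iK))
    {j : S' ⟶ H'} (hS' : Red.IsMaximalTorus j) :
    ∃ (T : Over (Spec (CommRingCat.of k))) (_ : GrpObj T) (i : T ⟶ H) (p : S' ⟶ T),
      Red.IsMaximalTorus i ∧ IsPullback j p f i := by
  haveI := hH'.1
  haveI := hH'.2.1
  haveI := hH.1
  haveI := hH.2.1
  haveI : IsAffine H'.left := isAffine_of_isAffineHom H'.hom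
  haveI : IsAffine H.left := isAffine_of_isAffineHom H.hom
  obtain ⟨hjm, hjmono, hjt, -⟩ := id hS'
  haveI := hjm
  haveI := hjmono
  let s₀ : Spec (CommRingCat.of k) := IsLocalRing.closedPoint k
  let σ := Red.geomPt s₀
  haveI : Surjective σ := GeomSub.surjective_spec σ
  obtain ⟨hjcl, hjmax⟩ := isMaxTorus_geom hS' s₀
  haveI := hjcl
  haveI : IsAffine S'.left := isAffine_of_isAffineHom j.left
  haveI : Smooth S'.hom := by
    obtain ⟨hs, _, _, _, _⟩ := AlgGrp33.IsogSub.torus_props (AlgGrp79.TorusBC.isTorus_bc σ hjt)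
    haveI := hs
    exact Descend.smooth_of_bc σ ‹_›
  haveI := CAlg6.GenDerived.geometricallyReduced_of_smooth S'
  haveI : IsReduced S'.left := AlgGrp79.isReduced_of_smooth S'.hom
  haveI : LocallyOfFiniteType (S' ⊗ S').hom := CAlg6.GrpWord.lft_tensor S' S'
  haveI : GeometricallyReduced (S' ⊗ S').hom := CAlg6.GrpWord.geomRed_tensor S' S'
  haveI : IsReduced (S' ⊗ S').left := CAlg6.GrpWord.isReduced_of_geomRed (S' ⊗ S')
  let w : S' ⟶ H := j ≫ f
  haveI : QuasiCompact w.left := CAlg6.GrpWord.qc_left w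
  have hone : Set.range (1 : pk ⟶ H).left ⊆ closure (Set.range w.left) := by
    rw [show (1 : pk ⟶ H) = 1 ≫ w from (MonObj.one_comp w).symm]
    rintro _ ⟨x, rfl⟩
    exact subset_closure ⟨_, rfl⟩
  have hdiv : Set.range ((fst S' S' ≫ w)⁻¹ * (snd S' S' ≫ w)).left ⊆ closure (Set.range w.left) := by
    rw [← GrpObj.inv_comp, ← MonObj.mul_comp _ _ w]
    rintro _ ⟨x, rfl⟩
    exact subset_closure ⟨_, rfl⟩
  obtain ⟨T, _, i, him, hicl, -, hirange, hTgr⟩ := CAlg6.GrpWord.exists_subgroup_closure' w hone hdiv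
  haveI := him
  haveI := hicl
  haveI := hTgr ‹_›
  haveI : LocallyOfFiniteType T.hom := by rw [← Over.w i]; infer_instance
  haveI : IsReduced T.left := CAlg6.GrpWord.isReduced_of_geomRed T
  haveI : Mono i := Over.mono_of_mono_left i
  obtain ⟨p, hp⟩ : ∃ p : S' ⟶ T, p ≫ i = w :=
    AlgGrp79.exists_lift_of_range_subset i w (hirange ▸ subset_closure)
  haveI : IsMonHom p := RedPts82.isMonHom_of_points p fun X a b => by
    rw [← cancel_mono i, MonObj.mul_comp _ _ i, Category.assoc, Category.assoc, Category.assoc, hp, MonObj.mul_comp _ _ w]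
  -- the range is closed
  obtain ⟨hHa, hHs, hHc, -⟩ := hH.2.2 s₀
  haveI := hHa
  haveI := hHs
  haveI := hHc
  obtain ⟨hH'a, hH's, hH'c, -⟩ := hH'.2.2 s₀
  haveI := hH'a
  haveI := hH's
  haveI := hH'c
  let w' := (Over.pullback σ).map w
  haveI : IsReduced (Red.bc σ S').left := by
    haveI := GeomSub.smooth_bc σ S'
    exact AlgGrp79.isReduced_of_smooth (Red.bc σ S').hom
  haveI := GeomSub.smooth_bc σ S'
  haveI : QuasiCompact (Red.bc σ S').hom := MorphismProperty.pullback_snd (P := @QuasiCompact) _ _ inferInstance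
  obtain ⟨V, _, iV, pV, _, _, hVcl, _, hpVs, hpV⟩ := BorelCor.exists_image w'
  haveI := hVcl
  haveI := hpVs
  have hrw' : IsClosed (Set.range w'.left) := by
    rw [← hpV, Over.comp_left, Scheme.Hom.comp_base, TopCat.coe_comp, Set.range_comp, pV.left.surjective.range_eq,
      Set.image_univ]
    exact iV.left.isClosedEmbedding.isClosed_range
  haveI : IsIntegralHom σ := by
    haveI : IsClosedImmersion ((Spec (CommRingCat.of k)).fromSpecResidueField s₀) := by
      refine .of_isPreimmersion _ ?_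
      rw [Scheme.range_fromSpecResidueField]
      exact isClosed_discrete _
    haveI : IsIntegralHom (Spec.map (CommRingCat.ofHom (algebraMap ((Spec (CommRingCat.of k)).residueField s₀)
        (AlgebraicClosure ((Spec (CommRingCat.of k)).residueField s₀))))) := by
      rw [IsIntegralHom.SpecMap_iff]
      exact algebraMap_isIntegral_iff.2 inferInstance
    exact inferInstanceAs (IsIntegralHom (_ ≫ _))
  haveI : IsIntegralHom (Limits.pullback.fst H.hom σ) := MorphismProperty.pullback_fst _ _ inferInstance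
  haveI : Surjective (Limits.pullback.fst S'.hom σ) := MorphismProperty.pullback_fst _ _ inferInstance
  have hw : Limits.pullback.fst H.hom σ '' Set.range w'.left = Set.range w.left := by
    have e : w'.left ≫ Limits.pullback.fst H.hom σ = Limits.pullback.fst S'.hom σ ≫ w.left :=
      Limits.pullback.lift_fst _ _ _
    rw [← Set.range_comp, ← TopCat.coe_comp, ← Scheme.Hom.comp_base, e, Scheme.Hom.comp_base, TopCat.coe_comp,
      Set.range_comp, (Limits.pullback.fst S'.hom σ).surjective.range_eq, Set.image_univ]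
  have hwcl : IsClosed (Set.range w.left) := hw ▸ (Limits.pullback.fst H.hom σ).isClosedMap _ hrw'
  haveI : Surjective p.left := ⟨fun t => by
    have ht : i.left t ∈ Set.range w.left := by
      rw [← hwcl.closure_eq, ← hirange]; exact ⟨t, rfl⟩
    obtain ⟨x, hx⟩ := ht
    exact ⟨x, i.left.isClosedEmbedding.injective (by rw [← hx, ← hp]; rfl)⟩⟩
  -- the image is a maximal torus
  have main : ∀ s : Spec (CommRingCat.of k), AGF.IsMaxTorus ((Over.pullback (Red.geomPt s)).map i) := by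
    intro s
    obtain ⟨hHa, hHs, hHc, -⟩ := hH.2.2 s
    haveI := hHa
    haveI := hHs
    haveI := hHc
    obtain ⟨hH'a, hH's, hH'c, -⟩ := hH'.2.2 s
    haveI := hH'a
    haveI := hH's
    haveI := hH'c
    let F := Over.pullback (Red.geomPt s)
    haveI : Surjective (F.map f).left :=
      MorphismProperty.of_isPullback (RedPts82.isPullback_bc_map f _) ‹Surjective f.left›
    haveI : Surjective (F.map p).left :=
      MorphismProperty.of_isPullback (RedPts82.isPullback_bc_map p _) ‹Surjective p.left›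
    haveI : IsClosedImmersion (F.map i).left := GeomSub.isClosedImmersion_bc _ i
    haveI : IsReduced (Red.bc (Red.geomPt s) T).left := by
      obtain ⟨φ, hφ⟩ := Spec.map_surjective (Red.geomPt s)
      letI := φ.hom.toAlgebra
      exact pullback_of_geometrically GeometricallyReduced.geometrically_isReduced _ _
    exact TorusImage.isMaxTorus_image (F.map f) (isMaxTorus_geom hS' s).2 (F.map i) (F.map p)
      (by rw [← Functor.map_comp, ← Functor.map_comp, hp])
  have hTmax : Red.IsMaximalTorus i :=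
    ⟨him, inferInstance, GeomSub.isTorus_of_bc σ (main s₀).2.2.1, fun s T'' _ jj _ _ q hq hqj =>
      (main s).2.2.2 T'' jj q hq hqj⟩
  refine ⟨T, inferInstance, i, p, hTmax, ?_⟩
  obtain ⟨P, _, a, b, _, hP⟩ := exists_preimage f i
  have hPmax := isMaximalTorus_preimage hH' hH f hK hKc hTmax a b hP
  let l : S' ⟶ P := hP.lift j p hp.symm
  have hl : l ≫ a = j := hP.lift_fst _ _ _
  haveI := hPmax.2.1
  haveI := hjmax.2.2.2 (Red.bc σ P) ((Over.pullback σ).map a) ((Over.pullback σ).map l)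
    (AlgGrp79.TorusBC.isTorus_bc σ hPmax.2.2.1) (by rw [← Functor.map_comp, hl])
  haveI := isIso_of_bc σ l
  exact hP.of_iso (asIso l).symm (Iso.refl _) (Iso.refl _) (Iso.refl _) (by simp [← hl]) (by simp [l]) (by simp) (by simp)

end Groth.Agent.AGF80.Luna
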