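import Groth.Agent.AGF80.Luna.Perfect

/-!
Characters separate a central torus up to a finite group.
-/

set_option autoImplicit false
set_option linter.unusedSectionVars false
set_option linter.style.haveILetI false
set_option backward.isDefEq.respectTransparency.types false
set_option synthInstance.maxHeartbeats 200000

universe u

open CategoryTheory MonoidalCategory CartesianMonoidalCategory MonObj GrpObj AlgebraicGeometry
open scoped TensorProduct
open LaurentPolynomial WithConv Matrix Groth.Agent.GMod80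

noncomputable section

namespace Groth.Agent.AGF80.Luna

open Comod33 Comod33.Mat AlgGrp79

variable {k : Type u} [Field k]

local notation "pk" => 𝟙_ (Over (Spec (CommRingCat.of k)))

/-- The bialgebra map given by a group-like element. -/
theorem exists_groupLike_hom {A : Type u} [CommRing A] [HopfAlgebra k A] {δ : A} (hδ : IsGroupLikeElem k δ) :
    ∃ χ : LaurentPolynomial k →ₐc[k] A, χ (AddMonoidAlgebra.single 1 1) = δ := by
  let u : Aˣ := Units.mkOfMulEqOne δ (HopfAlgebraStruct.antipode (R := k) δ) (hδ.mul_antipode_cancel)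
  let F : LaurentPolynomial k →ₐ[k] A := AddMonoidAlgebra.lift k A ℤ
    ((Units.coeHom A).comp (zpowersHom Aˣ u))
  have hF : ∀ n : ℤ, F (AddMonoidAlgebra.single n 1) = ((u ^ n : Aˣ) : A) := fun n => by
    show AddMonoidAlgebra.lift k A ℤ _ (AddMonoidAlgebra.single n 1) = _
    rw [AddMonoidAlgebra.lift_single, one_smul]
    rfl
  have hgl : ∀ n : ℤ, IsGroupLikeElem k ((u ^ n : Aˣ) : A) := by
    intro n
    have hinv : IsGroupLikeElem k ((u⁻¹ : Aˣ) : A) := hδ.antipode
    induction n using Int.induction_on with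
    | zero => simpa using IsGroupLikeElem.one
    | succ n ih => rw [_root_.zpow_add_one, Units.val_mul]; exact ih.mul hδ
    | pred n ih => rw [_root_.zpow_sub_one, Units.val_mul]; exact ih.mul hinv
  refine ⟨.ofAlgHom F (AddMonoidAlgebra.algHom_ext (fun n => ?_) (Subsingleton.elim _ _))
    (AddMonoidAlgebra.algHom_ext (fun n => ?_) (Subsingleton.elim _ _)), ?_⟩
  · simp only [AlgHom.comp_apply, Bialgebra.counitAlgHom_apply]
    rw [hF, (hgl n).counit_eq_one, (AddMonoidAlgebra.isGroupLikeElem_single_one (R := k) n).counit_eq_one]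
  · simp only [AlgHom.comp_apply, Bialgebra.comulAlgHom_apply]
    rw [hF, (hgl n).comul_eq_tmul_self, (AddMonoidAlgebra.isGroupLikeElem_single_one (R := k) n).comul_eq_tmul_self,
      Algebra.TensorProduct.map_tmul, hF]
  · show F _ = δ
    rw [hF, zpow_one]
    rfl

variable [IsAlgClosed k]

set_option maxHeartbeats 800000 in
/-- The points of a central torus killed by all characters of the group form a finite set. -/
theorem finite_central_kill {G T : Over (Spec (CommRingCat.of k))} [GrpObj G] [GrpObj T] [IsAffine G.left]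
    [Smooth G.hom] [ConnectedSpace G.left] (iT : T ⟶ G) [IsMonHom iT] [IsClosedImmersion iT.left]
    (hTt : Red.IsTorus T) (hcen : ∀ (s : pk ⟶ T) (g : pk ⟶ G), g * (s ≫ iT) = (s ≫ iT) * g) :
    Set.Finite {s : pk ⟶ T | ∀ χ : G ⟶ sp k (LaurentPolynomial k), IsMonHom χ → s ≫ iT ≫ χ = 1} := by
  classical
  obtain ⟨hTs, _, hTa, _, _⟩ := AlgGrp33.IsogSub.torus_props hTt
  haveI := hTs
  haveI := hTa
  haveI : Mono iT := Over.mono_of_mono_left iT
  obtain ⟨A, _, _, ψ, _⟩ := exists_coord G
  obtain ⟨D, _, _, ψT, _⟩ := exists_coord T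
  haveI : Algebra.FiniteType k A := GMod80.finiteType ψ
  haveI : Algebra.FiniteType k D := GMod80.finiteType ψT
  haveI : IsDomain D := by
    haveI := Hopf35.TorDom.isDomain_tensor ψT hTt k
    exact (Algebra.TensorProduct.lid k D).symm.toMulEquiv.isDomain _
  have hD : HopfRep.IsDiagonalizable k D := by
    obtain ⟨hco, hprim⟩ := (Groth.Agent.S7979.result k D).1 (AlgGrp33.isDiagonalizable_of_isTorus ψT hTt)
    haveI := hco
    exact Comod33.Diag.isDiagonalizable_of_no_prim fun x hx => hprim x hx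
  haveI : IsReduced G.left := isReduced_of_smooth G.hom
  haveI : IrreducibleSpace G.left := by
    have hirr := (Grp57.connectedComponent_unit G).1
    rw [PreconnectedSpace.connectedComponent_eq_univ] at hirr
    exact { isPreirreducible_univ := hirr.2, toNonempty := inferInstance }
  haveI : IsIntegral G.left := isIntegral_of_irreducibleSpace_of_isReduced _
  haveI : IsDomain A := (fn ψ).toMulEquiv.isDomain _
  let τ := pullBialg ψ ψT iT
  have hφ : Function.Surjective (Bialgebra.counitBialgHom k A) := fun x =>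
    ⟨algebraMap k A x, AlgHom.commutes (Bialgebra.counitAlgHom k A) x⟩
  obtain ⟨N, c, v, ℓ, hc, hv, -, hdiag, hstab⟩ := exists_rep hD (Bialgebra.counitBialgHom k A) hφ τ
  have hone : ∀ g : Conn.Pt k A, mat c g = 1 → g = 1 := fun g hg => by
    obtain ⟨h, rfl⟩ := (hstab g).2 ⟨1, by rw [hg, Matrix.one_mulVec, one_smul]⟩
    rw [show h = 1 from WithConv.ofConv_injective (Subsingleton.elim _ _), map_one]
  have hinj : ∀ g g' : Conn.Pt k A, mat c g = mat c g' → g = g' := fun g g' h => by
    refine inv_mul_eq_one.1 (hone (g⁻¹ * g') ?_)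
    rw [mat_mul hc, ← h, ← mat_mul hc, inv_mul_cancel, mat_one hc]
  let S : Set (Conn.Pt k A) := Set.range (HopfFlat.restrPts τ)
  have hS : ∀ p ∈ S, ∀ g : Conn.Pt k A, mat c g * mat c p = mat c p * mat c g := by
    rintro _ ⟨q, rfl⟩ g
    rw [← mat_mul hc, ← mat_mul hc]
    congr 1
    exact ToriConj.ev_injective ψ (by
      rw [map_mul, map_mul, ← CentTorus.ev_comp ψ ψT iT]
      exact hcen _ _)
  have hblock : ∀ i l, ℓ i ≠ ℓ l → c i l = 0 := fun i l hil => by
    refine Conn.eq_zero_of_forall_point (k := k) (A := A) fun g => ?_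
    by_contra hne
    refine hil (eq_of_zpow_eq (k := k) fun s hs => ?_)
    obtain ⟨p, hp, hpd⟩ := hdiag.curve s hs
    have h := congrFun (congrFun (hS p hp g) i) l
    rw [hpd, Matrix.mul_diagonal, Matrix.diagonal_mul, _root_.mul_comm (s ^ ℓ i)] at h
    exact (mul_left_cancel₀ hne h).symm
  -- the determinant of a weight block is a character
  have hchar : ∀ l, ∃ χ : G ⟶ sp k (LaurentPolynomial k), IsMonHom χ ∧ ∀ g : Conn.Pt k A,
      (ToriConj.ev ψ g ≫ χ = 1 → Matrix.det (Matrix.of fun (i j : {i // ℓ i = ℓ l}) => g.ofConv (c i j)) = 1) := by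
    intro l
    let M : Matrix {i // ℓ i = ℓ l} {i // ℓ i = ℓ l} A := Matrix.of fun i j => c i j
    have hcomul : (Bialgebra.comulAlgHom k A).mapMatrix M =
        (Algebra.TensorProduct.includeLeft : A →ₐ[k] A ⊗[k] A).mapMatrix M *
          (Algebra.TensorProduct.includeRight : A →ₐ[k] A ⊗[k] A).mapMatrix M := by
      ext i j
      rw [Matrix.mul_apply]
      simp only [AlgHom.mapMatrix_apply, Matrix.map_apply, M, Matrix.of_apply, Algebra.TensorProduct.includeLeft_apply,
        Algebra.TensorProduct.includeRight_apply, Algebra.TensorProduct.tmul_mul_tmul, _root_.one_mul, _root_.mul_one]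
      show CoalgebraStruct.comul (R := k) (c i j) = _
      rw [hc.comul, ← Fintype.sum_subtype_add_sum_subtype (fun m => ℓ m = ℓ l) (fun m => c i m ⊗ₜ[k] c m j),
        Finset.sum_eq_zero (s := (Finset.univ : Finset {m // ¬ ℓ m = ℓ l})) fun m _ => by
          rw [hblock i m fun h => m.2 (h.symm.trans i.2), TensorProduct.zero_tmul], add_zero]
    have hδ : IsGroupLikeElem k M.det := by
      constructor
      · show Bialgebra.counitAlgHom k A M.det = 1
        rw [AlgHom.map_det, show (Bialgebra.counitAlgHom k A).mapMatrix M = 1 from ?_, Matrix.det_one]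
        ext i j
        show CoalgebraStruct.counit (R := k) (c i j) = _
        rw [hc.counit, Matrix.one_apply]
        exact if_congr Subtype.ext_iff.symm rfl rfl
      · show Bialgebra.comulAlgHom k A M.det = _
        rw [AlgHom.map_det, hcomul, Matrix.det_mul, ← AlgHom.map_det, ← AlgHom.map_det,
          Algebra.TensorProduct.includeLeft_apply, Algebra.TensorProduct.includeRight_apply,
          Algebra.TensorProduct.tmul_mul_tmul, _root_.one_mul, _root_.mul_one]
    obtain ⟨χ, hχ⟩ := exists_groupLike_hom hδ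
    refine ⟨ψ.inv ≫ spHom χ, inferInstance, fun g hg => ?_⟩
    let ψ0 : sp k (LaurentPolynomial k) ≅ sp k (LaurentPolynomial k) := Iso.refl _
    haveI : IsMonHom ψ0.hom := inferInstanceAs (IsMonHom (𝟙 _))
    have hev : ToriConj.ev ψ g ≫ ψ.inv ≫ spHom χ = ToriConj.ev ψ0 (toConv (g.ofConv.comp (χ : LaurentPolynomial k →ₐ[k] A))) := by
      show (ToriConj.pt0 ≫ Spec.mapMulEquiv g ≫ ψ.hom) ≫ ψ.inv ≫ spHom χ = ToriConj.pt0 ≫ Spec.mapMulEquiv _ ≫ 𝟙 _
      simp only [Category.assoc, Iso.hom_inv_id_assoc, Category.comp_id]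
      exact congrArg (ToriConj.pt0 ≫ ·) (comp_spHom χ g)
    rw [hev, ← map_one (ToriConj.ev ψ0)] at hg
    have h := DFunLike.congr_fun (congrArg WithConv.ofConv (ToriConj.ev_injective ψ0 hg))
      (AddMonoidAlgebra.single (1 : ℤ) (1 : k))
    simp only [WithConv.ofConv_toConv, AlgHom.comp_apply, AlgHom.convOne_apply] at h
    rw [show (χ : LaurentPolynomial k →ₐ[k] A) (AddMonoidAlgebra.single 1 1) = M.det from hχ, (AddMonoidAlgebra.isGroupLikeElem_single_one (R := k) (1 : ℤ)).counit_eq_one, map_one, AlgHom.map_det] at h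
    exact h
  choose χ hχm hχ using hchar
  -- injection into finitely many diagonal matrices
  let Rt : Fin (N + 1) → Set k := fun l => {x | x ^ Fintype.card {i // ℓ i = ℓ l} = 1}
  have hRt : ∀ l, (Rt l).Finite := fun l => by
    have hpos : 0 < Fintype.card {i // ℓ i = ℓ l} := Fintype.card_pos_iff.2 ⟨⟨l, rfl⟩⟩
    exact (Polynomial.nthRootsFinset _ (1 : k)).finite_toSet.subset fun x hx =>
      (Polynomial.mem_nthRootsFinset hpos (1 : k)).2 hx
  have hfin : Set.Finite {g : Conn.Pt k A | g ∈ S ∧ ∀ l, ToriConj.ev ψ g ≫ χ l = 1} := by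
    refine Set.Finite.of_finite_image (f := fun g => fun l => mat c g l l) ((Set.Finite.pi hRt).subset ?_) ?_
    · rintro _ ⟨g, ⟨hgS, hg⟩, rfl⟩ l -
      obtain ⟨d, hd, hdl⟩ := hdiag.diag g hgS
      have h := hχ l g (hg l)
      have e : (Matrix.of fun (i j : {i // ℓ i = ℓ l}) => g.ofConv (c i j)) = diagonal fun _ => d l := by
        ext i j
        show mat c g i j = _
        rw [hd]
        simp only [Matrix.diagonal_apply, Subtype.ext_iff]
        split_ifs with h'
        · exact hdl _ _ i.2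
        · rfl
      rw [e, Matrix.det_diagonal, Finset.prod_const, Finset.card_univ] at h
      show mat c g l l ^ _ = 1
      rw [hd, Matrix.diagonal_apply_eq]
      exact h
    · rintro g ⟨hgS, -⟩ g' ⟨hgS', -⟩ h
      obtain ⟨d, hd, -⟩ := hdiag.diag g hgS
      obtain ⟨d', hd', -⟩ := hdiag.diag g' hgS'
      refine hinj g g' ?_
      rw [hd, hd']
      congr 1
      funext l
      simpa [hd, hd'] using congrFun h l
  refine Set.Finite.of_finite_image (f := fun s => s ≫ iT) ((hfin.image (ToriConj.ev ψ)).subset ?_) ?_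
  · rintro _ ⟨s, hs, rfl⟩
    obtain ⟨q, rfl⟩ := ToriConj.ev_surjective ψT s
    refine ⟨HopfFlat.restrPts τ q, ⟨⟨q, rfl⟩, fun l => ?_⟩, (CentTorus.ev_comp ψ ψT iT q).symm⟩
    rw [← CentTorus.ev_comp ψ ψT iT, Category.assoc]
    exact hs (χ l) (hχm l)
  · intro a _ b _ h
    exact (cancel_mono iT).1 h

/-- A central torus of a group without characters is trivial. -/
theorem central_torus_trivial {G T : Over (Spec (CommRingCat.of k))} [GrpObj G] [GrpObj T] [IsAffine G.left]
    [Smooth G.hom] [ConnectedSpace G.left] (iT : T ⟶ G) [IsMonHom iT] [IsClosedImmersion iT.left]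
    (hTt : Red.IsTorus T) (hcen : ∀ (s : pk ⟶ T) (g : pk ⟶ G), g * (s ≫ iT) = (s ≫ iT) * g)
    (hperf : ∀ (s : pk ⟶ T) (χ : G ⟶ sp k (LaurentPolynomial k)), IsMonHom χ → s ≫ iT ≫ χ = 1) (s : pk ⟶ T) :
    s = 1 := by
  classical
  obtain ⟨hTs, _, hTa, hTc, _⟩ := AlgGrp33.IsogSub.torus_props hTt
  haveI := hTs
  haveI := hTa
  haveI := hTc
  haveI := isSeparated_grp T
  have hfin : (Set.univ : Set (pk ⟶ T)).Finite :=
    (finite_central_kill iT hTt hcen).subset fun s _ χ hχ => hperf s χ hχ
  haveI : IsClosedImmersion (η[T] : pk ⟶ T).left := BorelFixed.rat_isClosedImmersion η[T]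
  obtain ⟨d, hd⟩ := mem_of_cover (η[T] : pk ⟶ T) hfin.toFinset
    (fun x => ⟨x, hfin.mem_toFinset.2 (Set.mem_univ _), 1, by rw [MonObj.one_comp, _root_.mul_one]⟩) s
  rw [← hd, show d = 1 from toUnit_unique _ _, MonObj.one_comp]

end Groth.Agent.AGF80.Luna
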