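import Groth.Agent.AGF80.Luna.Red
import Groth.Agent.AlgGrp79.BorelTorus

/-!
The centre of a reductive group meets no smooth connected unipotent subgroup.
-/

set_option autoImplicit false
set_option linter.unusedSectionVars false
set_option linter.style.haveILetI false
set_option backward.isDefEq.respectTransparency.types false
set_option synthInstance.maxHeartbeats 200000

universe u

open CategoryTheory MonoidalCategory CartesianMonoidalCategory MonObj GrpObj AlgebraicGeometry
open scoped TensorProduct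
open WithConv Groth.Agent.GMod80

noncomputable section

namespace Groth.Agent.AGF80.Luna

open Comod33 AlgGrp79

variable {k : Type u} [Field k]

/-- A torus and a unipotent subgroup meet trivially, with nilpotents. -/
theorem torus_inter_unip [IsAlgClosed k] {G T U : Over (Spec (CommRingCat.of k))} [GrpObj G] [GrpObj T] [GrpObj U]
    [IsAffine G.left] [LocallyOfFiniteType G.hom] (iT : T ⟶ G) [IsMonHom iT] [IsClosedImmersion iT.left]
    (hT : Red.IsTorus T) (u : U ⟶ G) [IsMonHom u] [IsClosedImmersion u.left] [Smooth U.hom] [ConnectedSpace U.left]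
    (nU : Red.HasNoSubtorus k U) {X : Over (Spec (CommRingCat.of k))} (t : X ⟶ T) (y : X ⟶ U) (h : t ≫ iT = y ≫ u) :
    y ≫ u = 1 := by
  haveI : IsAffine U.left := isAffine_of_isAffineHom u.left
  haveI : IsAffine T.left := isAffine_of_isAffineHom iT.left
  obtain ⟨A, _, _, ψ, _⟩ := exists_coord G
  obtain ⟨D, _, _, ψT, _⟩ := exists_coord T
  obtain ⟨Q, _, _, _, ψU, _, hQ⟩ := UnipBasic.exists_unip_coord U nU
  haveI : Algebra.FiniteType k A := GMod80.finiteType ψ
  haveI : Algebra.FiniteType k D := by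
    haveI : LocallyOfFiniteType T.hom := by rw [← Over.w iT]; infer_instance
    exact GMod80.finiteType ψT
  haveI : IsDomain D := by
    haveI := Hopf35.TorDom.isDomain_tensor ψT hT k
    exact (Algebra.TensorProduct.lid k D).symm.toMulEquiv.isDomain _
  have hD : HopfRep.IsDiagonalizable k D := by
    obtain ⟨hco, hprim⟩ := (Groth.Agent.S7979.result k D).1 (AlgGrp33.isDiagonalizable_of_isTorus ψT hT)
    haveI := hco
    exact Comod33.Diag.isDiagonalizable_of_no_prim fun x hx => hprim x hx
  refine GModRep.hom_ext_affine fun X' _ x => ?_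
  letI := GLnDiag.gAlg X'
  suffices ∀ (R : Type u) [CommRing R] [Algebra k R] (a : VecGrp.pt k R ⟶ X), a ≫ y ≫ u = a ≫ (1 : X ⟶ G) by
    have h1 := GModRep.affP X' ≫= this _ (GModRep.affInv X' ≫ x)
    simpa only [← Category.assoc, GModRep.affP_affInv, Category.id_comp] using h1
  intro R _ _ a
  obtain ⟨fD, hfD⟩ := (e ψT R).surjective (a ≫ t)
  obtain ⟨fQ, hfQ⟩ := (e ψU R).surjective (a ≫ y)
  obtain ⟨f, hf⟩ := (e ψ R).surjective (a ≫ y ≫ u)
  have h1 : f = toConv (fD.ofConv.comp (pull ψ ψT iT)) := (e ψ R).injective (by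
    rw [hf, ← e_comp, hfD, Category.assoc, h])
  have h2 : f = toConv (fQ.ofConv.comp (pull ψ ψU u)) := (e ψ R).injective (by
    rw [hf, ← e_comp, hfQ, Category.assoc])
  rw [MonObj.comp_one, ← hf, ← map_one (e ψ R)]
  congr 1
  refine WithConv.ofConv_injective (AlgHom.ext fun b => ?_)
  have hk : RingHom.ker (pullBialg ψ ψT iT : A →ₐ[k] D) ⊔ RingHom.ker (pullBialg ψ ψU u : A →ₐ[k] Q) ≤
      RingHom.ker (f.ofConv : A →+* R) := sup_le
    (fun z hz => by
      show f.ofConv z = 0
      rw [h1, ofConv_toConv, AlgHom.comp_apply, show pull ψ ψT iT z = 0 from hz, map_zero])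
    (fun z hz => by
      show f.ofConv z = 0
      rw [h2, ofConv_toConv, AlgHom.comp_apply, show pull ψ ψU u z = 0 from hz, map_zero])
  have h3 : f.ofConv (b - algebraMap k A (CoalgebraStruct.counit (R := k) b)) = 0 :=
    hk (sup_ker_eq hD hQ _ (pull_surjective ψ ψT iT) _ (pull_surjective ψ ψU u) b)
  rw [map_sub, AlgHom.commutes, sub_eq_zero] at h3
  exact h3

/-- The centre of a reductive group and a smooth connected unipotent subgroup meet trivially. -/
theorem centre_inter_unip {G : Over (Spec (CommRingCat.of k))} [GrpObj G] (hG : Red.IsReductive G)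
    {Z : Over (Spec (CommRingCat.of k))} [GrpObj Z] {z : Z ⟶ G} (hz : Red.IsCentre z)
    {U : Over (Spec (CommRingCat.of k))} [GrpObj U] [Smooth U.hom]
    (hU : ∀ s : ↥(Spec (CommRingCat.of k)), ConnectedSpace (Red.geomFibre s U).left ∧
      Red.HasNoSubtorus (AlgebraicClosure ((Spec (CommRingCat.of k)).residueField s)) (Red.geomFibre s U))
    (u : U ⟶ G) [IsMonHom u] [IsClosedImmersion u.left]
    {X : Over (Spec (CommRingCat.of k))} (a : X ⟶ Z) (b : X ⟶ U) (hab : a ≫ z = b ≫ u) : b ≫ u = 1 := by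
  let s : ↥(Spec (CommRingCat.of k)) := IsLocalRing.closedPoint k
  let f := Red.geomPt s
  haveI := GeomSub.flat_spec f
  haveI := GeomSub.surjective_spec f
  obtain ⟨hGa, hGs, hGc, hGu⟩ := hG.2.2 s
  haveI := hGa
  haveI := hGs
  haveI := hGc
  obtain ⟨hUc, nU⟩ := hU s
  haveI : Smooth (Red.bc f U).hom := GeomSub.smooth_bc f U
  haveI : ConnectedSpace (Red.bc f U).left := hUc
  haveI := GeomSub.isClosedImmersion_bc f u
  obtain ⟨B, _, iB, hB⟩ := BorelCor.exists_borel (Red.bc f G)
  obtain ⟨T, _, iT, j, hji, hmax, -, -, -⟩ := BorelTorus.main (Red.bc f G) iB hB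
  obtain ⟨hTm, hTmono, hTt, -⟩ := id hmax
  haveI := hTm
  haveI := hTmono
  haveI := BorelCor.isClosedImmersion_torus (Red.bc f G) hTt iT
  obtain ⟨t, ht⟩ := exists_factor_of_comm (hG.2.2 s) hmax ((Over.pullback f).map (a ≫ z)) fun X' x t => by
    refine RedPts82.toBase_injective f ?_
    simp only [RedPts82.toBase_mul, RedPts82.toBase_comp_map]
    have h := (hz.2.2 _ (RedPts82.toBase f x ≫ a ≫ z)).1 ⟨RedPts82.toBase f x ≫ a, Category.assoc _ _ _⟩ _ (𝟙 _)
      (RedPts82.toBase f (t ≫ iT))
    simpa using h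
  have h1 := torus_inter_unip iT hTt ((Over.pullback f).map u) nU t ((Over.pullback f).map b) (by
    rw [ht, hab, Functor.map_comp])
  rw [← Functor.map_comp] at h1
  let π : (Over.map f).obj (Red.bc f X) ⟶ X := RedPts82.toBase f (𝟙 _)
  have hπ : π.left = Limits.pullback.fst X.hom f := by
    show (RedPts82.toBase f (𝟙 (Red.bc f X))).left = _
    rw [RedPts82.toBase_left, Over.id_left, Category.id_comp]
  haveI : Flat (Limits.pullback.fst X.hom f) := MorphismProperty.pullback_fst _ _ inferInstance
  haveI : Surjective (Limits.pullback.fst X.hom f) := MorphismProperty.pullback_fst _ _ inferInstance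
  haveI : Epi π.left := by rw [hπ]; exact Flat.epi_of_flat_of_surjective _
  haveI : Epi π := Over.epi_of_epi_left π
  have h2 := congrArg (RedPts82.toBase f) h1
  rw [← Category.id_comp ((Over.pullback f).map (b ≫ u)), RedPts82.toBase_comp_map] at h2
  refine (cancel_epi π).1 (h2.trans ?_)
  rw [MonObj.comp_one]
  have e : RedPts82.toBase f (1 : Red.bc f X ⟶ Red.bc f G) * RedPts82.toBase f (1 : Red.bc f X ⟶ Red.bc f G) =
      RedPts82.toBase f (1 : Red.bc f X ⟶ Red.bc f G) := by rw [← RedPts82.toBase_mul, _root_.one_mul]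
  exact mul_eq_left.1 e

end Groth.Agent.AGF80.Luna
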