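import Groth.Agent.AGF80.Luna.SplitTori
import Groth.Agent.AGF80.Luna.CentreInter
import Groth.Prelude.Def_AlphaP
import Groth.Prelude.Def_ConstGrp
import Mathlib.Algebra.DualNumber

/-!
The centre of a reductive group has no subgroup α_p or ℤ/p: homomorphisms to it are detected by characters.
-/

set_option autoImplicit false
set_option linter.unusedSectionVars false
set_option linter.style.haveILetI false
set_option backward.isDefEq.respectTransparency.types false
set_option synthInstance.maxHeartbeats 200000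

universe u

open CategoryTheory MonoidalCategory CartesianMonoidalCategory MonObj GrpObj AlgebraicGeometry
open scoped TensorProduct
open WithConv Groth.Agent.GMod80

noncomputable section

namespace Groth.Agent.AGF80.Luna

open Comod33 AlgGrp79

variable {k : Type u} [Field k] (L : Type u) [Field L] [Algebra k L]

/-- A natural multiplicative family of functions on the points of `Spec A` with values in `L`-algebras. -/
structure CharFam (A : Type u) [CommRing A] [HopfAlgebra k A] where
  val : ∀ (R : Type u) [CommRing R] [Algebra k R] [Algebra L R] [IsScalarTower k L R],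
    WithConv (A →ₐ[k] R) →* R
  natural : ∀ (R R' : Type u) [CommRing R] [Algebra k R] [Algebra L R] [IsScalarTower k L R]
    [CommRing R'] [Algebra k R'] [Algebra L R'] [IsScalarTower k L R'] (h : R →ₐ[L] R') (f : WithConv (A →ₐ[k] R)),
    val R' (toConv ((h.restrictScalars k).comp f.ofConv)) = h (val R f)

variable {L}

instance isMonHom_refl_sp (A : Type u) [CommRing A] [HopfAlgebra k A] : IsMonHom (Iso.refl (sp k A)).hom :=
  inferInstanceAs (IsMonHom (𝟙 (sp k A)))

/-- A homomorphism to the centre of a reductive group is killed on a point as soon as all families are. -/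
theorem eq_one_of_charFam [IsAlgClosed L] {G Z : Over (Spec (CommRingCat.of k))} [GrpObj G] [GrpObj Z]
    (hG : Red.IsReductive G) {z : Z ⟶ G} (hz : Red.IsCentre z) {A : Type u} [CommRing A] [HopfAlgebra k A]
    (φ : sp k A ⟶ Z) [IsMonHom φ] (R₀ : Type u) [CommRing R₀] [Algebra k R₀] [Algebra L R₀] [IsScalarTower k L R₀]
    (f₀ : WithConv (A →ₐ[k] R₀)) (hθ : ∀ θ : CharFam (k := k) L A, θ.val R₀ f₀ = 1) :
    e (Iso.refl (sp k A)) R₀ f₀ ≫ φ ≫ z = 1 := by
  haveI : IsMonHom z := hz.1
  let σ : Spec (CommRingCat.of L) ⟶ Spec (CommRingCat.of k) := Spec.map (CommRingCat.ofHom (algebraMap k L))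
  have hGL := isReductiveOver_ext hG σ
  obtain ⟨hGa, hGs, hGc, -⟩ := id hGL
  haveI := hGa
  haveI := hGs
  haveI := hGc
  obtain ⟨B, _, iB, hB⟩ := BorelCor.exists_borel (Red.bc σ G)
  obtain ⟨T, _, iT, j, hji, hmax, -, -, -⟩ := BorelTorus.main (Red.bc σ G) iB hB
  obtain ⟨hTm, hTmono, hTt, -⟩ := id hmax
  haveI := hTm
  haveI := hTmono
  haveI := BorelCor.isClosedImmersion_torus (Red.bc σ G) hTt iT
  haveI : IsAffine T.left := isAffine_of_isAffineHom iT.left
  obtain ⟨D, _, _, ψT, _⟩ := exists_coord T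
  haveI : Algebra.FiniteType L D := by
    haveI : LocallyOfFiniteType T.hom := by rw [← Over.w iT]; infer_instance
    exact GMod80.finiteType ψT
  haveI : IsDomain D := by
    haveI := Hopf35.TorDom.isDomain_tensor ψT hTt L
    exact (Algebra.TensorProduct.lid L D).symm.toMulEquiv.isDomain _
  have hD : HopfRep.IsDiagonalizable L D := by
    obtain ⟨hco, hprim⟩ := (Groth.Agent.S7979.result L D).1 (AlgGrp33.isDiagonalizable_of_isTorus ψT hTt)
    haveI := hco
    exact Comod33.Diag.isDiagonalizable_of_no_prim fun x hx => hprim x hx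
  -- the comparison of base points
  have hι : ∀ (R : Type u) [CommRing R] [Algebra k R] [Algebra L R] [IsScalarTower k L R],
      𝟙 _ ≫ (VecGrp.pt k R).hom = ((Over.map σ).obj (VecGrp.pt L R)).hom := fun R _ _ _ _ => by
    rw [Category.id_comp]
    show Spec.map _ = Spec.map _ ≫ Spec.map _
    rw [← Spec.map_comp, ← CommRingCat.ofHom_comp, ← IsScalarTower.algebraMap_eq]
  let ι' : ∀ (R : Type u) [CommRing R] [Algebra k R] [Algebra L R] [IsScalarTower k L R],
      (Over.map σ).obj (VecGrp.pt L R) ⟶ VecGrp.pt k R := fun R _ _ _ _ => Over.homMk (𝟙 _) (hι R)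
  let a : ∀ (R : Type u) [CommRing R] [Algebra k R] [Algebra L R] [IsScalarTower k L R],
      WithConv (A →ₐ[k] R) → (VecGrp.pt L R ⟶ Red.bc σ G) := fun R _ _ _ _ f =>
    RedPts82.ofBase σ (ι' R ≫ e (Iso.refl (sp k A)) R f ≫ φ ≫ z)
  have ha : ∀ (R : Type u) [CommRing R] [Algebra k R] [Algebra L R] [IsScalarTower k L R]
      (f : WithConv (A →ₐ[k] R)), RedPts82.toBase σ (a R f) = ι' R ≫ e (Iso.refl (sp k A)) R f ≫ φ ≫ z :=
    fun R _ _ _ _ f => RedPts82.toBase_ofBase σ _
  have hfac : ∀ (R : Type u) [CommRing R] [Algebra k R] [Algebra L R] [IsScalarTower k L R]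
      (f : WithConv (A →ₐ[k] R)), ∃ t : VecGrp.pt L R ⟶ T, t ≫ iT = a R f := fun R _ _ _ _ f =>
    exists_factor_of_comm hGL hmax (a R f) fun X' x s => by
      refine RedPts82.toBase_injective σ ?_
      rw [RedPts82.toBase_mul, RedPts82.toBase_mul, RedPts82.toBase_comp, ha]
      have h := (hz.2.2 _ (((Over.map σ).map x) ≫ ι' R ≫ e (Iso.refl (sp k A)) R f ≫ φ ≫ z)).1
        ⟨((Over.map σ).map x) ≫ ι' R ≫ e (Iso.refl (sp k A)) R f ≫ φ, by simp only [Category.assoc]⟩ _ (𝟙 _)
        (RedPts82.toBase σ (s ≫ iT))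
      simpa using h
  choose t ht using hfac
  have hamul : ∀ (R : Type u) [CommRing R] [Algebra k R] [Algebra L R] [IsScalarTower k L R]
      (f g : WithConv (A →ₐ[k] R)), a R (f * g) = a R f * a R g := fun R _ _ _ _ f g => by
    refine RedPts82.toBase_injective σ ?_
    rw [RedPts82.toBase_mul, ha, ha, ha, ← MonObj.comp_mul (ι' R), map_mul, ← MonObj.mul_comp]
  have htmul : ∀ (R : Type u) [CommRing R] [Algebra k R] [Algebra L R] [IsScalarTower k L R]
      (f g : WithConv (A →ₐ[k] R)), t R (f * g) = t R f * t R g := fun R _ _ _ _ f g => by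
    rw [← cancel_mono iT, MonObj.mul_comp, ht, ht, ht, hamul]
  have htnat : ∀ (R R' : Type u) [CommRing R] [Algebra k R] [Algebra L R] [IsScalarTower k L R]
      [CommRing R'] [Algebra k R'] [Algebra L R'] [IsScalarTower k L R'] (h : R →ₐ[L] R')
      (f : WithConv (A →ₐ[k] R)),
      t R' (toConv ((h.restrictScalars k).comp f.ofConv)) = VecGrp.ptMap h ≫ t R f := by
    intro R R' _ _ _ _ _ _ _ _ h f
    rw [← cancel_mono iT, Category.assoc, ht, ht]
    refine RedPts82.toBase_injective σ ?_
    rw [RedPts82.toBase_comp, ha, ha, ← e_natural (Iso.refl (sp k A)), ← Category.assoc ((Over.map σ).map _)]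
    simp only [← Category.assoc]
    congr 3
  -- the family of a character
  let θ : ∀ χ : D, IsGroupLikeElem L χ → CharFam (k := k) L A := fun χ hχ =>
    { val := fun R _ _ _ _ =>
        { toFun := fun f => ((e ψT R).symm (t R f)).ofConv χ
          map_one' := by
            have h := htmul R 1 1
            rw [_root_.one_mul] at h
            rw [mul_eq_left.1 h.symm, map_one, AlgHom.convOne_apply, hχ.counit_eq_one, map_one]
          map_mul' := fun f g => by
            show ((e ψT R).symm (t R (f * g))).ofConv χ = _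
            rw [htmul, map_mul, AlgHom.convMul_apply]
            simp only [hχ.comul_eq_tmul_self, Algebra.TensorProduct.lift_tmul] }
      natural := fun R R' _ _ _ _ _ _ _ _ h f => by
        show ((e ψT R').symm (t R' _)).ofConv χ = h (((e ψT R).symm (t R f)).ofConv χ)
        rw [htnat]
        have h1 : VecGrp.ptMap h ≫ t R f = e ψT R' (toConv (h.comp ((e ψT R).symm (t R f)).ofConv)) := by
          rw [← e_natural ψT, MulEquiv.apply_symm_apply]
        rw [h1, MulEquiv.symm_apply_apply]
        rfl }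
  have hT1 : (e ψT R₀).symm (t R₀ f₀) = 1 := by
    refine WithConv.ofConv_injective (AlgHom.toLinearMap_injective (LinearMap.ext_on hD ?_))
    intro χ hχ
    have h1 := hθ (θ χ hχ)
    show ((e ψT R₀).symm (t R₀ f₀)).ofConv χ = (1 : WithConv (D →ₐ[L] R₀)).ofConv χ
    rw [AlgHom.convOne_apply, hχ.counit_eq_one, map_one]
    exact h1
  have ht1 : t R₀ f₀ = 1 := by
    rw [← MulEquiv.apply_symm_apply (e ψT R₀) (t R₀ f₀), hT1, map_one]
  have ha1 : a R₀ f₀ = 1 := by rw [← ht, ht1, MonObj.one_comp]
  have h1 : RedPts82.toBase σ (1 : VecGrp.pt L R₀ ⟶ Red.bc σ G) = 1 := by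
    have e : RedPts82.toBase σ (1 : VecGrp.pt L R₀ ⟶ Red.bc σ G) * RedPts82.toBase σ 1 =
        RedPts82.toBase σ (1 : VecGrp.pt L R₀ ⟶ Red.bc σ G) := by rw [← RedPts82.toBase_mul, _root_.one_mul]
    exact mul_eq_left.1 e
  haveI : Epi (ι' R₀).left := inferInstanceAs (Epi (𝟙 (Spec (CommRingCat.of R₀))))
  haveI : Epi (ι' R₀) := Over.epi_of_epi_left _
  rw [← cancel_epi (ι' R₀), ← ha, ha1, h1, MonObj.comp_one]

/-- A homomorphism to a reductive group's centre whose composite with jointly injective points is trivial is trivial. -/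
theorem eq_one_of_points {G Z : Over (Spec (CommRingCat.of k))} [GrpObj G] [GrpObj Z]
    (hG : Red.IsReductive G) {z : Z ⟶ G} (hz : Red.IsCentre z) {A : Type u} [CommRing A] [HopfAlgebra k A]
    (φ : sp k A ⟶ Z) [IsMonHom φ] [Mono φ] {I : Type*} (R : I → Type u) [∀ i, CommRing (R i)] [∀ i, Algebra k (R i)]
    (f : ∀ i, WithConv (A →ₐ[k] R i)) (hinj : ∀ a b : A, (∀ i, (f i).ofConv a = (f i).ofConv b) → a = b)
    (h : ∀ i, e (Iso.refl (sp k A)) (R i) (f i) ≫ φ ≫ z = 1) (a : A) :
    a = algebraMap k A (CoalgebraStruct.counit (R := k) a) := by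
  haveI : IsMonHom z := hz.1
  haveI : Mono z := hz.2.1
  haveI := hG.1
  haveI : IsAffine G.left := isAffine_of_isAffineHom G.hom
  obtain ⟨C, _, _, ψ, _⟩ := exists_coord G
  have hπ : pull ψ (Iso.refl (sp k A)) (φ ≫ z) = (1 : WithConv (C →ₐ[k] A)).ofConv := by
    refine AlgHom.ext fun c => hinj _ _ fun i => ?_
    have h1 := h i
    rw [e_comp ψ (Iso.refl (sp k A)) (φ ≫ z) (f i), ← map_one (e ψ (R i))] at h1
    have h2 := congrArg (fun q : WithConv (C →ₐ[k] R i) => q.ofConv c) ((e ψ (R i)).injective h1)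
    simp only [ofConv_toConv, AlgHom.comp_apply, AlgHom.convOne_apply] at h2
    rw [AlgHom.convOne_apply, AlgHom.commutes]
    exact h2
  have h0 : e (Iso.refl (sp k A)) A (toConv (AlgHom.id k A)) ≫ (φ ≫ z) = 1 := by
    rw [e_comp ψ (Iso.refl (sp k A)) (φ ≫ z), hπ]
    simp only [ofConv_toConv]
    rw [show (AlgHom.id k A).comp (1 : WithConv (C →ₐ[k] A)).ofConv = (1 : WithConv (C →ₐ[k] A)).ofConv from
      AlgHom.id_comp _, toConv_ofConv, map_one]
  have hψ : (Iso.refl (sp k A)).hom ≫ φ ≫ z = 1 :=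
    (congrArg (fun q : sp k A ⟶ sp k A => q ≫ φ ≫ z) (e_id (Iso.refl (sp k A)))).symm.trans h0
  rw [Iso.refl_hom, Category.id_comp] at hψ
  have hφ : φ = 1 := by rw [← cancel_mono z, hψ, MonObj.one_comp]
  have hid : (𝟙 (sp k A)) = 1 := by rw [← cancel_mono φ, Category.id_comp, MonObj.one_comp, hφ]
  have hc : e (Iso.refl (sp k A)) A (toConv (AlgHom.id k A)) = e (Iso.refl (sp k A)) A 1 :=
    (e_id (Iso.refl (sp k A))).trans (hid.trans (map_one (e (Iso.refl (sp k A)) A)).symm)
  have h3 := congrArg (fun q : WithConv (A →ₐ[k] A) => q.ofConv a) ((e (Iso.refl (sp k A)) A).injective hc)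
  simpa [AlgHom.convOne_apply] using h3

open Polynomial in
/-- No monomorphism from α_p to the centre of a reductive group. -/
theorem not_mono_alphaP (p : ℕ) [Fact p.Prime] [CharP k p] {G Z : Over (Spec (CommRingCat.of k))} [GrpObj G] [GrpObj Z]
    (hG : Red.IsReductive G) {z : Z ⟶ G} (hz : Red.IsCentre z) (φ : sp k (AlphaP.A p k) ⟶ Z) [IsMonHom φ] :
    ¬ Mono φ.left := by
  intro hm
  haveI : Mono φ := Over.mono_of_mono_left φ
  let L := AlgebraicClosure k
  haveI : CharP L p := charP_of_injective_algebraMap (algebraMap k L).injective p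
  letI : Algebra k (AlphaP.A p L) := ((algebraMap L (AlphaP.A p L)).comp (algebraMap k L)).toAlgebra
  haveI : IsScalarTower k L (AlphaP.A p L) := IsScalarTower.of_algebraMap_eq' rfl
  let f₀ : AlphaP.A p k →ₐ[k] AlphaP.A p L := AlphaP.lift p k (AlphaP.x p L) (AlphaP.x_pow p L)
  have hp1 : 1 < p := Fact.out (p := p.Prime) |>.one_lt
  have hinj : Function.Injective f₀ := by
    intro a b hab
    obtain ⟨P, rfl⟩ := AlphaP.mk_surjective p k a
    obtain ⟨Q, rfl⟩ := AlphaP.mk_surjective p k b
    have hf : ∀ P : k[X], f₀ (AlphaP.mk p k P) = AlphaP.mk p L (P.map (algebraMap k L)) := fun P => by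
      rw [← AlphaP.aeval_x, ← aeval_algHom_apply, AlphaP.lift_x, ← AlphaP.aeval_x, aeval_map_algebraMap]
    rw [hf, hf] at hab
    refine AdjoinRoot.mk_eq_mk.2 ?_
    rw [← map_dvd_map' (algebraMap k L), Polynomial.map_sub, Polynomial.map_pow, map_X]
    exact AdjoinRoot.mk_eq_mk.1 hab
  have h := eq_one_of_points hG hz φ (fun _ : Unit => AlphaP.A p L) (fun _ => toConv f₀)
    (fun a b hab => hinj (hab ())) (fun _ => eq_one_of_charFam (L := L) hG hz φ (AlphaP.A p L) (toConv f₀) fun θ => ?_) (AlphaP.x p k)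
  · rw [show CoalgebraStruct.counit (R := k) (AlphaP.x p k) = 0 from AlphaP.counit_x p k, map_zero] at h
    have h1 := (AdjoinRoot.mk_eq_zero.1 (show AdjoinRoot.mk ((X : k[X]) ^ p) X = 0 from h))
    have h2 := natDegree_le_of_dvd h1 X_ne_zero
    rw [natDegree_X_pow, natDegree_X] at h2
    omega
  · let R := AlphaP.A p L
    let R' := DualNumber R
    have hε : (DualNumber.eps : R') ^ p = 0 :=
      pow_eq_zero_of_le hp1 (by rw [pow_two, DualNumber.eps_mul_eps])
    have hpR : (p : R') = 0 := AlphaP.natCast_eq_zero p L R'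
    have hxε : (TrivSqZeroExt.inl (AlphaP.x p L) + DualNumber.eps : R') ^ p = 0 :=
      AlphaP.add_pow_eq_zero p L (Commute.all _ _)
        (by show TrivSqZeroExt.inlHom R R (AlphaP.x p L) ^ p = 0; rw [← map_pow, AlphaP.x_pow, map_zero]) hε
    let h₁ : R →ₐ[L] R' := TrivSqZeroExt.inlAlgHom L R R
    let h₂ : R →ₐ[L] R' := AlphaP.lift p L DualNumber.eps hε
    let h₃ : R →ₐ[L] R' := AlphaP.lift p L _ hxε
    let f : (R →ₐ[L] R') → WithConv (AlphaP.A p k →ₐ[k] R') := fun h => toConv ((h.restrictScalars k).comp f₀)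
    have hmul : f h₁ * f h₂ = f h₃ := by
      refine WithConv.ofConv_injective (AlphaP.algHom_ext ?_)
      rw [AlgHom.convMul_apply, AlphaP.comul_x]
      simp [f, f₀, h₁, h₂, h₃]
      erw [AlphaP.lift_x, AlphaP.lift_x]
      rfl
    set δ : R := θ.val R (toConv f₀) with hδ
    have key : h₁ δ * h₂ δ = h₃ δ := by
      rw [hδ, ← θ.natural R R' h₁, ← θ.natural R R' h₂, ← θ.natural R R' h₃, ← map_mul]
      exact congrArg (θ.val R') hmul
    have hunit : IsUnit δ := (IsUnit.map (θ.val R) (Group.isUnit (toConv f₀)))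
    obtain ⟨P₀, hP₀⟩ := AlphaP.mk_surjective p L δ
    have hmonic : ((X : L[X]) ^ p).Monic := monic_X_pow p
    have hmk : AlphaP.mk p L (P₀ %ₘ X ^ p) = δ := by
      rw [← hP₀, modByMonic_eq_sub_mul_div P₀ (X ^ p), map_sub, map_mul, map_pow, AlphaP.mk_X,
        AlphaP.x_pow, zero_mul, sub_zero]
    set P := P₀ %ₘ X ^ p with hP
    have hdeg : P.natDegree < p := by
      have hne : (X : L[X]) ^ p ≠ 1 := fun e => by
        have h1 := congrArg natDegree e
        rw [natDegree_X_pow, natDegree_one] at h1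
        omega
      have := natDegree_modByMonic_lt P₀ hmonic hne
      rwa [natDegree_X_pow] at this
    have hh₃ : h₃ δ = TrivSqZeroExt.inl δ + TrivSqZeroExt.inr (AlphaP.mk p L (derivative P)) := by
      rw [← hmk, ← AlphaP.aeval_x, ← aeval_algHom_apply, AlphaP.lift_x,
        aeval_add_of_sq_eq_zero _ _ _ (by rw [pow_two, DualNumber.eps_mul_eps]),
        ← TrivSqZeroExt.inlAlgHom_apply (S := L), aeval_algHom_apply, aeval_algHom_apply, AlphaP.aeval_x,
        DualNumber.eps, TrivSqZeroExt.inlAlgHom_apply, TrivSqZeroExt.inlAlgHom_apply, TrivSqZeroExt.inl_mul_inr,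
        smul_eq_mul, _root_.mul_one, AlphaP.aeval_x]
    have hh₂ : h₂ δ = TrivSqZeroExt.inl (algebraMap L R (P.coeff 0)) +
        TrivSqZeroExt.inr (algebraMap L R (P.coeff 1)) := by
      rw [← hmk, ← AlphaP.aeval_x, ← aeval_algHom_apply, AlphaP.lift_x]
      have := aeval_add_of_sq_eq_zero P (0 : R') DualNumber.eps (by rw [pow_two, DualNumber.eps_mul_eps])
      rw [zero_add] at this
      rw [this, ← coeff_zero_eq_aeval_zero', ← coeff_zero_eq_aeval_zero', coeff_derivative, DualNumber.eps]
      simp [show ∀ c : L, algebraMap L R' c = TrivSqZeroExt.inl (algebraMap L R c) from fun c => rfl,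
        TrivSqZeroExt.inl_mul_inr]
      exact (TrivSqZeroExt.inl_mul_inr _ _).trans (by rw [smul_eq_mul, _root_.mul_one])
    rw [hh₃, hh₂, TrivSqZeroExt.inlAlgHom_apply] at key
    have key' : (TrivSqZeroExt.inl (δ * algebraMap L R (P.coeff 0)) + TrivSqZeroExt.inr (δ * algebraMap L R (P.coeff 1)) :
        TrivSqZeroExt R R) = TrivSqZeroExt.inl δ + TrivSqZeroExt.inr (AlphaP.mk p L (derivative P)) := by
      rw [TrivSqZeroExt.inl_mul, show (δ * algebraMap L R (P.coeff 1)) = δ • algebraMap L R (P.coeff 1) from rfl,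
        ← TrivSqZeroExt.inl_mul_inr, ← mul_add]
      exact key
    have k1 : δ * algebraMap L R (P.coeff 0) = δ := by simpa using congrArg TrivSqZeroExt.fst key'
    have k2 : δ * algebraMap L R (P.coeff 1) = AlphaP.mk p L (derivative P) := by
      simpa using congrArg TrivSqZeroExt.snd key'
    have hc0 : P.coeff 0 = 1 := by
      have h1 : algebraMap L R (P.coeff 0) = algebraMap L R 1 := by
        rw [map_one]
        exact hunit.mul_left_cancel (k1.trans (_root_.mul_one δ).symm)
      haveI : Nontrivial R := Module.nontrivial_of_finrank_pos (R := L) (by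
        rw [show Module.finrank L R = p from AlphaP.finrank_eq p L]; omega)
      exact (algebraMap L R).injective h1
    have hder : derivative P = C (P.coeff 1) * P := by
      have h1 : (X : L[X]) ^ p ∣ derivative P - C (P.coeff 1) * P := by
        refine AdjoinRoot.mk_eq_mk.1 ?_
        show AlphaP.mk p L (derivative P) = AlphaP.mk p L (C (P.coeff 1) * P)
        rw [map_mul, hmk, show AlphaP.mk p L (C (P.coeff 1)) = algebraMap L R (P.coeff 1) from
          (AlphaP.mk p L).commutes _, ← k2, mul_comm]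
      refine sub_eq_zero.1 (eq_zero_of_dvd_of_natDegree_lt h1 ?_)
      rw [natDegree_X_pow]
      exact lt_of_le_of_lt (natDegree_sub_le _ _) (max_lt (lt_of_le_of_lt
        ((natDegree_derivative_le P).trans (Nat.sub_le _ _)) hdeg) (lt_of_le_of_lt (natDegree_C_mul_le _ _) hdeg))
    have hP0 : P.natDegree = 0 := by
      by_contra hne
      have h1 := natDegree_derivative_lt hne
      rw [hder] at h1
      by_cases hc : P.coeff 1 = 0
      · rw [hc, map_zero, zero_mul] at hder
        have h2 := congrArg (fun q => coeff q (P.natDegree - 1)) hder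
        simp only [coeff_derivative, coeff_zero, Nat.sub_add_cancel (Nat.pos_of_ne_zero hne)] at h2
        rcases mul_eq_zero.1 h2 with h3 | h3
        · exact hne (by rw [leadingCoeff_eq_zero.1 h3, natDegree_zero])
        · rw [← Nat.cast_succ, CharP.cast_eq_zero_iff L p] at h3
          have h4 := Nat.le_of_dvd (Nat.succ_pos _) h3
          omega
      · rw [natDegree_C_mul hc] at h1
        exact lt_irrefl _ h1
    show δ = 1
    rw [← hmk, eq_C_of_natDegree_eq_zero hP0, hc0, map_one, map_one]

/-- No monomorphism from ℤ/p to the centre of a reductive group in characteristic `p`. -/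
theorem not_mono_constZMod (p : ℕ) [Fact p.Prime] [CharP k p] {G Z : Over (Spec (CommRingCat.of k))} [GrpObj G]
    [GrpObj Z] (hG : Red.IsReductive G) {z : Z ⟶ G} (hz : Red.IsCentre z)
    (φ : sp k (ConstGrp.F k (Multiplicative (ZMod p))) ⟶ Z) [IsMonHom φ] : ¬ Mono φ.left := by
  classical
  intro hm
  haveI : Mono φ := Over.mono_of_mono_left φ
  let M := Multiplicative (ZMod p)
  let L := AlgebraicClosure k
  haveI : CharP L p := charP_of_injective_algebraMap (algebraMap k L).injective p
  let pt : M → WithConv (ConstGrp.F k M →ₐ[k] L) := fun g => toConv ((Algebra.ofId k L).comp (ConstGrp.ev k g))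
  have hpt : ∀ g h : M, pt g * pt h = pt (g * h) := fun g h => by
    refine WithConv.ofConv_injective (ConstGrp.algHom_ext fun m => ?_)
    rw [AlgHom.convMul_apply, ConstGrp.comul_e]
    simp only [pt, ofConv_toConv, map_sum, Algebra.TensorProduct.lift_tmul, AlgHom.comp_apply, ConstGrp.ev_apply,
      Algebra.ofId_apply, ← map_mul, ConstGrp.e_apply]
    rw [Finset.sum_eq_single g (fun b _ hb => by simp [Ne.symm hb]) (fun hg => absurd (Finset.mem_univ g) hg)]
    by_cases hgh : g * h = m
    · subst hgh; simp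
    · split_ifs <;> simp_all
  have hpt1 : pt 1 = 1 := by
    refine WithConv.ofConv_injective (ConstGrp.algHom_ext fun m => ?_)
    rw [AlgHom.convOne_apply, ConstGrp.counit_e]
    simp [pt, ConstGrp.e_apply, eq_comm]
  let F : M →* WithConv (ConstGrp.F k M →ₐ[k] L) := MonoidHom.mk' pt fun g h => (hpt g h).symm
  have hpow : ∀ g : M, pt g ^ p = 1 := fun g => by
    rw [show pt g = F g from rfl, ← map_pow, ← map_one F]
    exact congrArg F (by simpa [M] using pow_card_eq_one (x := g))
  let g₁ : M := Multiplicative.ofAdd (1 : ZMod p)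
  have h := eq_one_of_points hG hz φ (fun _ : M => L) pt
    (fun a b hab => ConstGrp.ext fun g => (algebraMap k L).injective (hab g))
    (fun g => eq_one_of_charFam (L := L) hG hz φ L (pt g) fun θ => by
      have h1 : θ.val L (pt g) ^ p = 1 := by rw [← map_pow, hpow, map_one]
      exact frobenius_inj L p (by simpa [frobenius_def] using h1)) (ConstGrp.e k g₁)
  have h2 := congrArg (fun q : ConstGrp.F k M => q g₁) h
  have hne : g₁ ≠ 1 := fun e => by
    have : (1 : ZMod p) = 0 := Multiplicative.ofAdd.injective e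
    exact one_ne_zero this
  simp [ConstGrp.counit_e, ConstGrp.e_apply, hne, Ne.symm hne] at h2

end Groth.Agent.AGF80.Luna
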