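import Groth.Agent.AGF80.Luna.SemiCrit

/-!
The centre of a reductive group and its finiteness.
-/

set_option autoImplicit false
set_option linter.unusedSectionVars false
set_option linter.style.haveILetI false
set_option backward.isDefEq.respectTransparency.types false
set_option synthInstance.maxHeartbeats 200000

universe u

open CategoryTheory MonoidalCategory CartesianMonoidalCategory MonObj GrpObj AlgebraicGeometry
open Groth.Agent.GMod80

noncomputable section

namespace Groth.Agent.AGF80.Luna

open AlgGrp79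

variable {k : Type u} [Field k]

local notation "pk" => 𝟙_ (Over (Spec (CommRingCat.of k)))

/-- Central points commute with all points. -/
theorem centre_comm {G Z : Over (Spec (CommRingCat.of k))} [GrpObj G] [GrpObj Z] {z : Z ⟶ G} (hz : Red.IsCentre z)
    (X : Over (Spec (CommRingCat.of k))) (g : X ⟶ G) (w : X ⟶ Z) : g * (w ≫ z) = (w ≫ z) * g := by
  have h := (hz.2.2 X (w ≫ z)).1 ⟨w, rfl⟩ X (𝟙 X) g
  simpa using h.symm

/-- The points of the centre of a reductive group killed by all characters form a finite set. -/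
theorem finite_centre_kill [IsAlgClosed k] {G Z : Over (Spec (CommRingCat.of k))} [GrpObj G] [GrpObj Z]
    (hG : Red.IsReductiveOver k G) {z : Z ⟶ G} (hz : Red.IsCentre z) [IsClosedImmersion z.left] :
    Set.Finite {p : pk ⟶ Z | ∀ χ : G ⟶ sp k (LaurentPolynomial k), IsMonHom χ → p ≫ z ≫ χ = 1} := by
  classical
  obtain ⟨hGa, hGs, hGc, -⟩ := id hG
  haveI := hGa
  haveI := hGs
  haveI := hGc
  haveI := hz.1
  haveI : Mono z := hz.2.1
  haveI : LocallyOfFiniteType Z.hom := by rw [← Over.w z]; infer_instance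
  haveI : QuasiCompact Z.hom := by rw [← Over.w z]; infer_instance
  obtain ⟨K, _, r, _, _, _, _, hr⟩ := UnipPart.exists_smooth_component Z
  obtain ⟨F, hF⟩ := UnipPart.exists_finite_reps r hr
  haveI : IsClosedImmersion (r ≫ z).left := inferInstanceAs (IsClosedImmersion (r.left ≫ z.left))
  haveI : IsMonHom (r ≫ z) := inferInstanceAs (IsMonHom (r ≫ z))
  haveI : Mono (r ≫ z) := Over.mono_of_mono_left _
  haveI : IsAffine K.left := isAffine_of_isAffineHom (r ≫ z).left
  have hcomm : ∀ (X : Over (Spec (CommRingCat.of k))) (g : X ⟶ G) (y : X ⟶ K),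
      g * (y ≫ r ≫ z) = (y ≫ r ≫ z) * g := fun X g y => by
    rw [← Category.assoc y r z]; exact centre_comm hz X g (y ≫ r)
  have hsolv : Red.IsSolvableGrp K := ⟨1, fun X => by
    rw [derivedSeries_one, commutator_eq_bot_iff_center_eq_top, eq_top_iff]
    intro x _
    rw [Subgroup.mem_center_iff]
    intro y
    rw [← cancel_mono (r ≫ z), MonObj.mul_comp _ _ (r ≫ z), MonObj.mul_comp _ _ (r ≫ z)]
    exact hcomm X _ x⟩
  have hn : AlgGrp.IsNormalHom (r ≫ z) := fun X g y => ⟨y, by rw [hcomm X g y, mul_inv_cancel_right]⟩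
  have hfin := finite_central_kill (r ≫ z) (Reductive.normal_solvable_isTorus hG _ hsolv hn)
    fun s g => hcomm _ g s
  let Φ : (pk ⟶ Z) →* (pk ⟶ G) := MonoidHom.mk' (fun p => p ≫ z) fun a b => MonObj.mul_comp a b z
  let B : Set (pk ⟶ Z) := {p | ∀ χ : G ⟶ sp k (LaurentPolynomial k), IsMonHom χ → p ≫ z ≫ χ = 1}
  let rep : (pk ⟶ Z) → (pk ⟶ Z) := fun f =>
    if h : ∃ p, p ∈ B ∧ ∃ y : pk ⟶ K, p = f * (y ≫ r) then h.choose else 1
  refine ((((F : Set (pk ⟶ Z)).toFinite.image rep).prod hfin).image
    (fun q : (pk ⟶ Z) × (pk ⟶ K) => q.1 * (q.2 ≫ r))).subset ?_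
  intro p hp
  obtain ⟨f, hf, y, rfl⟩ := hF p
  have h : ∃ p, p ∈ B ∧ ∃ y' : pk ⟶ K, p = f * (y' ≫ r) := ⟨_, hp, y, rfl⟩
  obtain ⟨hp₀, y₀, hy₀⟩ := h.choose_spec
  have hrep : rep f = f * (y₀ ≫ r) := (dif_pos h).trans hy₀
  refine ⟨(rep f, y₀⁻¹ * y), ⟨⟨f, hf, rfl⟩, fun χ hχ => ?_⟩, ?_⟩
  · haveI := hχ
    let R : (pk ⟶ Z) →* (pk ⟶ sp k (LaurentPolynomial k)) :=
      MonoidHom.mk' (fun w => w ≫ z ≫ χ) fun a b => MonObj.mul_comp a b (z ≫ χ)
    have e : R ((y₀⁻¹ * y) ≫ r) = 1 := by
      rw [MonObj.mul_comp _ _ r, GrpObj.inv_comp,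
        show (y₀ ≫ r)⁻¹ * (y ≫ r) = (f * (y₀ ≫ r))⁻¹ * (f * (y ≫ r)) by group, map_mul, map_inv,
        show R (f * (y ≫ r)) = 1 from hp χ hχ, ← hy₀, show R h.choose = 1 from hp₀ χ hχ, inv_one, _root_.one_mul]
    simpa [R, Category.assoc] using e
  · show rep f * ((y₀⁻¹ * y) ≫ r) = _
    rw [hrep, MonObj.mul_comp _ _ r, GrpObj.inv_comp, _root_.mul_assoc, mul_inv_cancel_left]

/-- The base change of the centre. -/
theorem isCentre_bc {G Z : Over (Spec (CommRingCat.of k))} [GrpObj G] [GrpObj Z] {z : Z ⟶ G} (hz : Red.IsCentre z)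
    {L : Type u} [Field L] (σ : Spec (CommRingCat.of L) ⟶ Spec (CommRingCat.of k)) :
    Red.IsCentre ((Over.pullback σ).map z) := by
  have h := AlgGrp79.TorusBC.isCentralizerOf_bc σ (𝟙 G) hz
  rwa [CategoryTheory.Functor.map_id] at h

/-- A reductive group is semisimple iff its centre is finite. -/
theorem isSemisimple_iff_finite_centre {G Z : Over (Spec (CommRingCat.of k))} [GrpObj G] [GrpObj Z]
    (hG : Red.IsReductive G) {z : Z ⟶ G} (hz : Red.IsCentre z) [IsClosedImmersion z.left] :
    Red.IsSemisimple G ↔ Finite ↥Z.left := by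
  obtain ⟨hGa, hGs, hGf⟩ := id hG
  haveI : LocallyOfFiniteType Z.hom := by rw [← Over.w z]; infer_instance
  constructor
  · intro hS
    let s : Spec (CommRingCat.of k) := IsLocalRing.closedPoint k
    let σ := Red.geomPt s
    haveI := GeomSub.isClosedImmersion_bc σ z
    have hfin : (Set.univ : Set (𝟙_ (Over (Spec (CommRingCat.of (AlgebraicClosure
        ((Spec (CommRingCat.of k)).residueField s))))) ⟶ Red.bc σ Z)).Finite :=
      (finite_centre_kill (hS.2.2 s).1 (isCentre_bc hz σ)).subset fun p _ χ hχ => by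
        haveI := hχ
        rw [hom_comm_eq_one (hS.2.2 s) χ, MonObj.comp_one, MonObj.comp_one]
    haveI : LocallyOfFiniteType (Red.bc σ Z).hom := MorphismProperty.pullback_snd (P := @LocallyOfFiniteType) _ _ ‹_›
    haveI := finite_of_finite_pts _ hfin
    haveI : Surjective σ := GeomSub.surjective_spec σ
    haveI : Surjective (Limits.pullback.fst Z.hom σ) := MorphismProperty.pullback_fst _ _ inferInstance
    haveI : Finite (Limits.pullback Z.hom σ :) := ‹Finite (Red.bc σ Z).left›
    exact Finite.of_surjective _ (Limits.pullback.fst Z.hom σ).surjective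
  · intro hf
    refine ⟨hGa, hGs, fun s => ⟨hGf s, fun T _ i _ hcl hn hT => ?_⟩⟩
    haveI := hcl
    obtain ⟨hGb, hGbs, hGbc, -⟩ := hGf s
    haveI := hGb
    haveI := hGbs
    haveI := hGbc
    haveI := GeomSub.isClosedImmersion_bc (Red.geomPt s) z
    obtain ⟨hTs, _, hTa, hTc, _⟩ := AlgGrp33.IsogSub.torus_props hT
    haveI := hTs
    haveI := hTc
    haveI : IsReduced T.left := AlgGrp79.isReduced_of_smooth T.hom
    haveI : Mono i := Over.mono_of_mono_left i
    have hzb := isCentre_bc hz (Red.geomPt s)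
    obtain ⟨f, hfz⟩ := (hzb.2.2 T i).2 fun X' x h => by
      rw [Category.comp_id]
      exact (Reductive.normal_torus_central hT i hn X' h x).symm
    haveI : IsClosedImmersion f.left := by
      have : IsClosedImmersion (f.left ≫ ((Over.pullback (Red.geomPt s)).map z).left) := by
        rw [← Over.comp_left, hfz]; infer_instance
      exact IsClosedImmersion.of_comp f.left ((Over.pullback (Red.geomPt s)).map z).left
    -- the base change of a finite scheme is finite
    haveI : IsAffine G.left := isAffine_of_isAffineHom G.hom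
    haveI : QuasiCompact Z.hom := by rw [← Over.w z]; infer_instance
    haveI : LocallyQuasiFinite Z.hom :=
      locallyQuasiFinite_iff_finite_preimage_singleton.2 fun _ => Set.toFinite _
    haveI : LocallyQuasiFinite (Red.bc (Red.geomPt s) Z).hom :=
      MorphismProperty.pullback_snd (P := @LocallyQuasiFinite) _ _ ‹_›
    haveI : LocallyQuasiFinite T.hom := by rw [← Over.w f]; infer_instance
    haveI : QuasiCompact T.hom := by rw [← Over.w i]; infer_instance
    haveI : Finite T.left := by
      refine Set.finite_univ_iff.1 ((T.hom.finite_preimage_singleton (IsLocalRing.closedPoint _)).subset fun z _ => ?_)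
      exact Subsingleton.elim (α := PrimeSpectrum _) _ _
    haveI := isSeparated_grp T
    have hpts : Finite (𝟙_ _ ⟶ T) := Finite.of_injective (fun p => p.left (IsLocalRing.closedPoint _))
      fun p p' h => CAlg6.GrpWord.kpt_ext p p' _ _ h
    haveI : IsClosedImmersion (η[T] : 𝟙_ _ ⟶ T).left := BorelFixed.rat_isClosedImmersion η[T]
    refine isTrivialGrp_of_pts fun p => ?_
    obtain ⟨d, hd⟩ := mem_of_cover (η[T] : 𝟙_ _ ⟶ T) (Set.toFinite Set.univ).toFinset
      (fun x => ⟨x, by simp, 1, by rw [MonObj.one_comp, _root_.mul_one]⟩) p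
    rw [← hd, show d = 1 from toUnit_unique _ _, MonObj.one_comp]

/-- The centre of a reductive group meets the derived group in a finite scheme. -/
theorem finite_centre_derived {G T D : Over (Spec (CommRingCat.of k))} [GrpObj G] [GrpObj T] [GrpObj D]
    (hG : Red.IsReductive G) (t : T ⟶ G) [IsClosedImmersion t.left] (hz : Red.IsCentre t)
    (d : D ⟶ G) [IsClosedImmersion d.left]
    (hmin : ∀ (H : Over (Spec (CommRingCat.of k))) [GrpObj H] [IsCommMonObj H] [LocallyOfFiniteType H.hom]
      [QuasiCompact H.hom] (f : G ⟶ H) [IsMonHom f], d ≫ f = toUnit D ≫ η[H]) :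
    Finite ↥(Limits.pullback t.left d.left) := by
  obtain ⟨hGa, hGs, hGf⟩ := id hG
  haveI := hGa
  haveI := hGs
  haveI := hz.1
  haveI : IsAffine G.left := isAffine_of_isAffineHom G.hom
  haveI : ConnectedSpace G.left := by
    let s : Spec (CommRingCat.of k) := IsLocalRing.closedPoint k
    haveI : ConnectedSpace (Limits.pullback G.hom (Red.geomPt s) :) := (hGf s).2.2.1
    exact (show Surjective (Limits.pullback.fst G.hom (Red.geomPt s)) from
      MorphismProperty.pullback_fst _ _ (GeomSub.surjective_spec _)).surj.connectedSpace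
      (Limits.pullback.fst G.hom (Red.geomPt s)).continuous
  obtain ⟨K, _, j, Q, _, _, q, hjm, hqm, _, _, _, hker, hkill⟩ := exists_abelianization G
  haveI := hqm
  let s : Spec (CommRingCat.of k) := IsLocalRing.closedPoint k
  let σ := Red.geomPt s
  let fD : D ⟶ K := hker.lift d (toUnit D) (hmin Q q)
  haveI := GeomSub.isClosedImmersion_bc σ t
  haveI := GeomSub.smooth_bc σ G
  haveI : ConnectedSpace (Red.bc σ G).left := BorelDesc.connectedSpace_bc σ
  haveI : IsAffine (Red.bc σ G).left := GeomSub.isAffine_bc σ G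
  let P := Limits.pullback t d
  let p₁ : P ⟶ T := Limits.pullback.fst t d
  let p₂ : P ⟶ D := Limits.pullback.snd t d
  have sq : IsPullback p₁ p₂ t d := IsPullback.of_hasPullback t d
  have hsq : IsPullback p₁.left p₂.left t.left d.left := AlgGrp79.isPullback_left sq
  haveI : IsClosedImmersion p₁.left := MorphismProperty.of_isPullback hsq.flip inferInstance
  haveI := GeomSub.isClosedImmersion_bc σ p₁
  haveI : Mono ((Over.pullback σ).map p₁) := Over.mono_of_mono_left _
  have hfin := finite_centre_kill (hGf s) (isCentre_bc hz σ)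
  haveI : LocallyOfFiniteType T.hom := by rw [← Over.w t]; infer_instance
  haveI : LocallyOfFiniteType (Red.bc σ T).hom :=
    MorphismProperty.pullback_snd (P := @LocallyOfFiniteType) _ _ inferInstance
  haveI : LocallyOfFiniteType (Red.bc σ P).hom := by
    rw [← Over.w ((Over.pullback σ).map p₁)]; infer_instance
  have hP : (Set.univ : Set (𝟙_ (Over (Spec (CommRingCat.of (AlgebraicClosure
      ((Spec (CommRingCat.of k)).residueField s))))) ⟶ Red.bc σ P)).Finite := by
    refine Set.Finite.of_finite_image (f := fun x => x ≫ (Over.pullback σ).map p₁) (hfin.subset ?_)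
      fun a _ b _ h => (cancel_mono _).1 h
    rintro _ ⟨x, -, rfl⟩ χ hχ
    haveI := hχ
    have h := hkill _ σ _ χ ((x ≫ (Over.pullback σ).map p₂) ≫ (Over.pullback σ).map fD)
    rw [← h]
    simp only [Category.assoc]
    rw [← Functor.map_comp_assoc, sq.w, ← Functor.map_comp_assoc (Over.pullback σ) fD j, hker.lift_fst,
      Functor.map_comp_assoc]
  haveI := finite_of_finite_pts (Red.bc σ P) hP
  haveI : Surjective σ := GeomSub.surjective_spec σ
  haveI : Surjective (Limits.pullback.fst P.hom σ) := MorphismProperty.pullback_fst _ _ inferInstance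
  haveI : Finite (Limits.pullback P.hom σ :) := ‹Finite (Red.bc σ P).left›
  haveI : Finite P.left := Finite.of_surjective _ (Limits.pullback.fst P.hom σ).surjective
  exact Finite.of_surjective _ hsq.isoPullback.hom.homeomorph.surjective

end Groth.Agent.AGF80.Luna
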