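import Groth.Agent.AGF80.Luna.DoubleRoot
import Groth.Agent.AGF80.Luna.SplitBC
import Groth.Agent.RedPts82.Bruhat
import Groth.Agent.RedPts82.OrdRoots
import Groth.Agent.Roots36.Dual
import Groth.Agent.Roots36.Exists
import Mathlib.Order.PiLex

/-!
A chamber of a splitting over a field comes from a base, and from an ordering of the lattice.
-/

set_option autoImplicit false
set_option linter.unusedSectionVars false

universe u

open CategoryTheory MonoidalCategory CartesianMonoidalCategory MonObj GrpObj AlgebraicGeometry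
open Groth.Agent.RedPts82

namespace Groth.Agent.AGF80.Luna

theorem isReduced_splitRed {k : Type u} [Field k] {G : Over (Spec (CommRingCat.of k))} [GrpObj G]
    (D : Red.SplitRed G) : D.P.IsReduced :=
  isReduced_of_algClosed
    (splitBC (Spec.map (CommRingCat.ofHom (algebraMap k (AlgebraicClosure k)))) D)

section Base

variable {idx M N : Type} [AddCommGroup M] [AddCommGroup N] {P : RootPairing idx ℤ M N} [Fintype idx]

/-- In a reduced root datum a system of simple roots is a base. -/
theorem exists_base_of_isSimpleSys [P.IsReduced] {Δ : Set idx} (hΔ : RootD.IsSimpleSys P Δ) :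
    ∃ b : P.Base, (b.support : Set idx) = Δ := by
  classical
  have := Roots36.isAddTorsionFree_M P
  have := Roots36.isAddTorsionFree_N P
  have hN : Module.IsTorsionFree ℤ N := Roots36.isTorsionFree_N P
  have hindiv : ∀ i, RootD.IsIndiv P.flip i := by
    intro i j h
    have hred : P.flip.IsReduced := inferInstance
    rcases eq_or_ne j i with rfl | hne
    · have : P.flip.root j = 0 := by
        have h' : P.flip.root j + P.flip.root j = P.flip.root j := by rw [← two_smul ℤ]; exact h
        simpa using h'
      exact P.flip.ne_zero j this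
    · have hdep : ¬ LinearIndependent ℤ ![P.flip.root j, P.flip.root i] := by
        rw [LinearIndependent.pair_iff]
        intro hh
        have := (hh 2 (-1) (by rw [h, neg_one_smul, add_neg_cancel])).1
        exact two_ne_zero this
      rcases hred.eq_or_eq_neg j i hdep with e | e
      · exact hne (P.flip.root.injective e)
      · have h3 : (3 : ℤ) • P.flip.root i = 0 := by
          rw [e, smul_neg] at h
          have : P.flip.root i + 2 • P.flip.root i = 0 := by
            rw [show (2 : ℕ) • P.flip.root i = (2 : ℤ) • P.flip.root i from (natCast_zsmul _ 2).symm]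
            exact eq_neg_iff_add_eq_zero.mp h.symm
          rw [show (3 : ℤ) • P.flip.root i = (1 + 2 : ℕ) • P.flip.root i from natCast_zsmul _ 3,
            add_nsmul, one_nsmul]
          exact this
        exact P.flip.ne_zero i (Roots36.zsmul_cancel P.flip (by norm_num) (h3.trans (smul_zero _).symm))
  have himg : Roots36.halfIdx P '' Δ = Δ := by
    rw [Roots36.halfIdx_image hΔ]
    ext j
    refine ⟨fun ⟨i, hi, h⟩ => ?_, fun hj => ⟨j, hj, Or.inl ⟨rfl, hindiv j⟩⟩⟩
    rcases h with ⟨rfl, -⟩ | h
    · exact hi
    · exact absurd h (hindiv i j)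
  have hflip := Roots36.isSimpleSys_flip hΔ
  rw [himg] at hflip
  have hcoe : ((Set.toFinite Δ).toFinset : Set idx) = Δ := Set.Finite.coe_toFinset _
  exact ⟨⟨(Set.toFinite Δ).toFinset, hcoe.symm ▸ hΔ.linInd, hcoe.symm ▸ hflip.linInd,
    fun i => hcoe.symm ▸ hΔ.mem_or_neg_mem i, fun i => hcoe.symm ▸ hflip.mem_or_neg_mem i⟩, hcoe⟩

end Base

variable {S : Scheme.{u}} {G : Over S} [GrpObj G] {D : Red.SplitRed G}

/-- A chamber of a reduced splitting comes from a base. -/
theorem exists_baseChamber_of_chamber [D.P.IsReduced] {l : D.M →+ ℤ} (hl : Chamber D l) :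
    ∃ b : D.P.Base, BaseChamber D b l := by
  let S' : Set D.idx := {c | 0 < l (D.P.root c)}
  have hneg : ∀ c, l (D.P.root (Roots36.neg D.P c)) = -l (D.P.root c) := fun c => by
    rw [Roots36.root_neg, map_neg]
  have hcl : RootD.IsClosedSub D.P S' := fun i j c hi hj h => by
    show 0 < l (D.P.root c)
    rw [h, map_add]; exact add_pos hi hj
  have hcov : ∀ i, i ∈ S' ∨ Roots36.neg D.P i ∈ S' := fun i => by
    rcases lt_or_gt_of_ne (hl.ne i) with h | h
    · exact Or.inr (show 0 < l (D.P.root _) by rw [hneg]; omega)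
    · exact Or.inl h
  have hdis : ∀ i ∈ S', Roots36.neg D.P i ∉ S' := fun i hi h => by
    have h' : 0 < l (D.P.root (Roots36.neg D.P i)) := h
    rw [hneg] at h'; have : 0 < l (D.P.root i) := hi; omega
  obtain ⟨Δ, hΔ, hpos⟩ := Roots36.exists_simple_of_closed D.P hcl hcov hdis
  obtain ⟨b, hb⟩ := exists_base_of_isSimpleSys hΔ
  exact ⟨b, hl, fun c => by rw [Roots36.isPos_iff_posOf, hb, hpos]; rfl⟩

/-- An ordering of the lattice whose positive roots are those of a chamber. -/
theorem exists_ordEnum {l : D.M →+ ℤ} (hl : Chamber D l) :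
    ∃ (_ : LinearOrder D.M) (_ : IsOrderedAddMonoid D.M) (N : ℕ) (e : Fin N → D.idx),
      OrdEnum D e ∧ Set.range e = {c | 0 < l (D.P.root c)} := by
  classical
  let B := Module.Free.chooseBasis ℤ D.M
  let β := Module.Free.ChooseBasisIndex ℤ D.M
  let σ : β ≃ Fin (Fintype.card β) := Fintype.equivFin β
  let Γ := ℤ ×ₗ Lex (Fin (Fintype.card β) → ℤ)
  let f : D.M → Γ := fun m => toLex (l m, toLex fun i => B.repr m (σ.symm i))
  have hfadd : ∀ x y, f (x + y) = f x + f y := fun x y => by
    simp only [f, map_add, Finsupp.add_apply]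
    rfl
  have hfinj : Function.Injective f := fun x y h => by
    have h2 : (fun i => B.repr x (σ.symm i)) = fun i => B.repr y (σ.symm i) :=
      congrArg (fun p : Γ => ofLex (ofLex p).2) h
    refine B.repr.injective (Finsupp.ext fun j => ?_)
    simpa using congrFun h2 (σ j)
  let ord : LinearOrder D.M := LinearOrder.lift' f hfinj
  have hmono : IsOrderedAddMonoid D.M :=
    { add_le_add_left := fun x y h z => by
        show f (x + z) ≤ f (y + z)
        rw [hfadd, hfadd]
        exact add_le_add_left (show f x ≤ f y from h) (f z) }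
  have hf0 : f 0 = 0 := by simp [f]; rfl
  have hposiff : ∀ c, 0 < D.P.root c ↔ 0 < l (D.P.root c) := fun c => by
    show f 0 < f (D.P.root c) ↔ _
    rw [hf0]
    constructor
    · intro h
      rcases Prod.Lex.lt_iff.mp h with h' | ⟨h', -⟩
      · exact h'
      · exact absurd h'.symm (hl.ne c)
    · exact fun h => Prod.Lex.lt_iff.mpr (Or.inl h)
  let S' : Finset D.M := (Finset.univ.filter fun c => 0 < l (D.P.root c)).image D.P.root
  let g := S'.orderEmbOfFin (k := S'.card) rfl
  have hg : ∀ k, ∃ c, 0 < l (D.P.root c) ∧ D.P.root c = g k := fun k => by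
    obtain ⟨c, hc, hc'⟩ := Finset.mem_image.mp (S'.orderEmbOfFin_mem rfl k)
    exact ⟨c, (Finset.mem_filter.mp hc).2, hc'⟩
  choose e he1 he2 using hg
  have hinj : Function.Injective e := fun a c h => g.injective (by rw [← he2, ← he2, h])
  have hrange : Set.range e = {c | 0 < l (D.P.root c)} := by
    ext c
    refine ⟨fun ⟨k, hk⟩ => hk ▸ he1 k, fun hc => ?_⟩
    have : D.P.root c ∈ Set.range g := by
      rw [Finset.range_orderEmbOfFin]
      exact Finset.mem_coe.mpr (Finset.mem_image.mpr ⟨c, by simpa using hc, rfl⟩)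
    obtain ⟨k, hk⟩ := this
    exact ⟨k, D.P.root.injective ((he2 k).trans hk)⟩
  refine ⟨ord, hmono, S'.card, e, ⟨hinj, fun a => ?_, ?_⟩, hrange⟩
  · rw [hposiff, hrange]; rfl
  · intro a c h
    show D.P.root (e a) < D.P.root (e c)
    rw [he2, he2]; exact g.strictMono h

end Groth.Agent.AGF80.Luna
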