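import Groth.Agent.AGF80.Luna.Weights
import Groth.Agent.AlgGrp79.BorelQuot
import Groth.Agent.AlgGrp79.BorelOps

/-!
The cone over an orbit with a Borel subgroup in the stabiliser of the line is closed.
-/

set_option autoImplicit false
set_option linter.unusedSectionVars false
set_option linter.style.haveILetI false
set_option backward.isDefEq.respectTransparency.types false

universe u

open CategoryTheory MonoidalCategory CartesianMonoidalCategory MonObj GrpObj AlgebraicGeometry
open WithConv Matrix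

noncomputable section

namespace Groth.Agent.AGF80.Luna

open GMod80 Comod33 Comod33.Mat AlgGrp79

variable {k : Type u} [Field k] [IsAlgClosed k]

local notation "pk" => 𝟙_ (Over (Spec (CommRingCat.of k)))

instance isIso_pt0 : IsIso (ToriConj.pt0 (k := k)) := by
  haveI : IsIso (ToriConj.pt0 (k := k)).left := inferInstanceAs (IsIso (𝟙 (Spec (CommRingCat.of k))))
  haveI : IsIso ((Over.forget _).map (ToriConj.pt0 (k := k))) := ‹IsIso (ToriConj.pt0 (k := k)).left›
  exact isIso_of_reflects_iso (ToriConj.pt0 (k := k)) (Over.forget _)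

variable {N : ℕ} {A : Type u} [CommRing A] [HopfAlgebra k A]
variable {G : Over (Spec (CommRingCat.of k))} [GrpObj G] (ψ : sp k A ≅ G) [IsMonHom ψ.hom]
variable {c : Fin (N + 1) → Fin (N + 1) → A}

theorem span_top_of_ne_zero {v : Fin (N + 1) → k} (hv : v ≠ 0) : Ideal.span (Set.range v) = ⊤ := by
  obtain ⟨j, hj⟩ : ∃ j, v j ≠ 0 := by
    by_contra h
    push Not at h
    exact hv (funext h)
  exact ProjAct.span_of_isUnit (j := j) (Ne.isUnit hj)

theorem mat_mulVec_ne_zero (hc : IsRep (k := k) c) (g : Conn.Pt k A) {v : Fin (N + 1) → k} (hv : v ≠ 0) :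
    mat c g *ᵥ v ≠ 0 := fun h => hv (by
  have := congrArg (mat c g⁻¹ *ᵥ ·) h
  simpa [Matrix.mulVec_mulVec, ← mat_mul hc, mat_one hc] using this)

/-- The orbit map of a line, on rational points. -/
theorem orbit_pt (hc : IsRep (k := k) c) {v : Fin (N + 1) → k} (hv : v ≠ 0) (g : Conn.Pt k A) :
    ToriConj.ev ψ g ≫ (actRestrict (ProjAct.action hc) ψ.inv).orbitMap
        (ToriConj.pt0 ≫ ProjAct.lineO v (span_top_of_ne_zero hv)) =
      ToriConj.pt0 ≫ ProjAct.lineO (mat c g *ᵥ v) (span_top_of_ne_zero (mat_mulVec_ne_zero hc g hv)) := by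
  rw [AGF80.Orbit.comp_orbitMap, toUnit_unique (toUnit _) (𝟙 pk), Category.id_comp]
  show lift (ToriConj.pt0 ≫ Spec.mapMulEquiv g ≫ ψ.hom) _ ≫ (ψ.inv ▷ _) ≫ ProjAct.actHom hc = _
  rw [← comp_lift_assoc, lift_whiskerRight_assoc, Category.assoc, Iso.hom_inv_id, Category.comp_id]
  refine congrArg (ToriConj.pt0 ≫ ·) ?_
  exact ProjAct.act_line hc g.ofConv v _

/-- The cone over the orbit is closed. -/
theorem coneClosed [IsAffine G.left] [Smooth G.hom] [ConnectedSpace G.left] {B : Over (Spec (CommRingCat.of k))}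
    [GrpObj B] (iB : B ⟶ G) (hB : Red.IsBorelOver k iB) (hc : IsRep (k := k) c) {v : Fin (N + 1) → k} (hv : v ≠ 0)
    (hfix : ∀ g : Conn.Pt k A, (∃ b, b ≫ iB = ToriConj.ev ψ g) → ∃ a : k, mat c g *ᵥ v = a • v) :
    ConeClosed c v := by
  classical
  obtain ⟨_, _, _, _, -, -⟩ := id hB
  haveI : IsReduced B.left := isReduced_of_smooth B.hom
  haveI : IsProper (QuotSub.PN k N).hom := Curves2.ProjLine.isProper_toSpec k N
  let a : AlgGrp.Action G (QuotSub.PN k N) := actRestrict (ProjAct.action hc) ψ.inv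
  let x₀ : pk ⟶ QuotSub.PN k N := ToriConj.pt0 ≫ ProjAct.lineO v (span_top_of_ne_zero hv)
  have hBx : iB ≫ a.orbitMap x₀ = toUnit B ≫ x₀ := BorelFixed.hom_ext_pts _ _ fun b => by
    obtain ⟨g, hg⟩ := ToriConj.ev_surjective ψ (b ≫ iB)
    obtain ⟨e, he⟩ := hfix g ⟨b, hg.symm⟩
    rw [← Category.assoc, ← hg, orbit_pt ψ hc hv, ← Category.assoc b, toUnit_unique (b ≫ toUnit B) (𝟙 _), Category.id_comp]
    refine congrArg (ToriConj.pt0 ≫ ·) ((ProjAct.lineO_eq_iff _ _ _ _).2 fun i l => ?_)
    rw [he, Pi.smul_apply, Pi.smul_apply, smul_eq_mul, smul_eq_mul]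
    ring
  obtain ⟨X, b, o, hX, hXp, -⟩ := BorelOps.exists_quotient_borel G iB hB
  haveI := hXp
  haveI : Surjective (b.orbitMap o).left := hX.2.2.1
  obtain ⟨Φ, hΦ⟩ := (QuotTrans.isCov_orbit hX).desc (a.orbitMap x₀) fun T s t e => by
    obtain ⟨h, rfl⟩ := (QuotTrans.coset_iff hX s t).1 e
    have e1 : (h ≫ iB) ≫ a.orbitMap x₀ = toUnit T ≫ x₀ := by
      rw [Category.assoc, hBx, ← Category.assoc, toUnit_unique (h ≫ toUnit B) (toUnit T)]
    rw [AGF80.Orbit.comp_orbitMap_mul, e1, ← AGF80.Orbit.comp_orbitMap]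
  haveI : IsProper Φ.left := by
    haveI : IsProper (Φ.left ≫ (QuotSub.PN k N).hom) := by rw [Over.w]; infer_instance
    exact IsProper.of_comp Φ.left (QuotSub.PN k N).hom
  have hO : IsClosed (Set.range (a.orbitMap x₀).left) := by
    rw [← hΦ, Over.comp_left, Scheme.Hom.comp_base, TopCat.coe_comp, Set.range_comp,
      (b.orbitMap o).left.surjective.range_eq, Set.image_univ]
    exact Φ.left.isClosedMap.isClosed_range
  intro z hz
  by_cases hz0 : z = 0
  · exact ⟨1, 0, by rw [hz0, zero_smul]⟩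
  obtain ⟨j, hj⟩ : ∃ j, z j ≠ 0 := by
    by_contra h
    push Not at h
    exact hz0 (funext h)
  let P := MvPolynomial (Fin (N + 1)) k
  let L := Localization.Away (MvPolynomial.X j : P)
  let row : Fin (N + 1) → L := fun i => algebraMap P L (MvPolynomial.X i)
  have hrow : Ideal.span (Set.range row) = ⊤ :=
    ProjAct.span_of_isUnit (j := j) (IsLocalization.Away.algebraMap_isUnit (MvPolynomial.X j : P))
  let φ : VecGrp.pt k L ⟶ QuotSub.PN k N := ProjAct.lineO row hrow
  let C : Set (PrimeSpectrum L) := φ.left ⁻¹' Set.range (a.orbitMap x₀).left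
  have hC : IsClosed C := hO.preimage φ.left.continuous
  obtain ⟨J, hJ⟩ := (PrimeSpectrum.isClosed_iff_zeroLocus_ideal C).1 hC
  have hevu : ∀ w : Fin (N + 1) → k, w j ≠ 0 →
      ∃ e : L →ₐ[k] k, ∀ p : P, e (algebraMap P L p) = MvPolynomial.eval w p := by
    intro w hw
    have hu : IsUnit ((MvPolynomial.eval w : P →+* k) (MvPolynomial.X j)) := by
      rw [MvPolynomial.eval_X]; exact Ne.isUnit hw
    refine ⟨{ IsLocalization.Away.lift (MvPolynomial.X j : P) hu with
      commutes' := fun r => ?_ }, fun p => IsLocalization.Away.lift_eq _ hu p⟩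
    show IsLocalization.Away.lift (MvPolynomial.X j : P) hu (algebraMap k L r) = _
    rw [IsScalarTower.algebraMap_apply k P L, IsLocalization.Away.lift_eq, MvPolynomial.algebraMap_eq, MvPolynomial.eval_C]
    rfl
  -- the image of the point of a vector
  have himg : ∀ (w : Fin (N + 1) → k) (hw : w j ≠ 0) (e : L →ₐ[k] k), (∀ p : P, e (algebraMap P L p) = MvPolynomial.eval w p) →
      φ.left (PrimeSpectrum.comap e.toRingHom (IsLocalRing.closedPoint k)) =
        (ProjAct.lineO (k := k) w (span_top_of_ne_zero fun h => hw (congrFun h j))).left (IsLocalRing.closedPoint k) := by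
    intro w hw e he
    have e1 : VecGrp.ptMap e ≫ φ = ProjAct.lineO (k := k) w (span_top_of_ne_zero fun h => hw (congrFun h j)) := by
      rw [ProjAct.ptMap_lineO]
      refine (ProjAct.lineO_eq_iff _ _ _ _).2 fun i l => ?_
      simp only [row, he, MvPolynomial.eval_X]
      ring
    rw [← e1]
    rfl
  have hvan : ∀ f ∈ J, ∀ w ∈ Orb c v, ∀ hw : w j ≠ 0, ∀ e : L →ₐ[k] k,
      (∀ p : P, e (algebraMap P L p) = MvPolynomial.eval w p) → e f = 0 := by
    intro f hf w hw' hw e he
    obtain ⟨g, s, rfl⟩ := hw'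
    have hmem : PrimeSpectrum.comap e.toRingHom (IsLocalRing.closedPoint k) ∈ C := by
      show φ.left (PrimeSpectrum.comap e.toRingHom (IsLocalRing.closedPoint k)) ∈ Set.range (a.orbitMap x₀).left
      rw [himg _ hw e he]
      refine ⟨(ToriConj.ev ψ g).left (IsLocalRing.closedPoint k), ?_⟩
      have h1 := congrArg (fun q => q.left (IsLocalRing.closedPoint k)) (orbit_pt ψ hc hv g)
      refine h1.trans ?_
      show (ProjAct.lineO (k := k) (mat c g *ᵥ v) (span_top_of_ne_zero (mat_mulVec_ne_zero hc g hv))).left ((ToriConj.pt0 (k := k)).left (IsLocalRing.closedPoint k)) = _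
      rw [Subsingleton.elim (α := PrimeSpectrum k) ((ToriConj.pt0 (k := k)).left (IsLocalRing.closedPoint k))
        (IsLocalRing.closedPoint k)]
      refine congrArg (fun q : VecGrp.pt k k ⟶ QuotSub.PN k N => q.left (IsLocalRing.closedPoint k)) ?_
      refine (ProjAct.lineO_eq_iff _ _ _ _).2 fun i l => ?_
      simp only [Pi.smul_apply, smul_eq_mul]
      ring
    rw [hJ] at hmem
    have h2 : e f ∈ (IsLocalRing.closedPoint k).asIdeal := hmem hf
    have h3 : (IsLocalRing.closedPoint k).asIdeal = ⊥ := IsLocalRing.maximalIdeal_eq_bot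
    rwa [h3, Ideal.mem_bot] at h2
  obtain ⟨ez, hez⟩ := hevu z hj
  have hzC : PrimeSpectrum.comap ez.toRingHom (IsLocalRing.closedPoint k) ∈ C := by
    rw [hJ]
    intro f hf
    show ez f ∈ (IsLocalRing.closedPoint k).asIdeal
    suffices ez f = 0 by rw [this]; exact zero_mem _
    obtain ⟨⟨F, _, m, rfl⟩, hF⟩ := IsLocalization.surj (Submonoid.powers (MvPolynomial.X j : P)) f
    dsimp only at hF
    have h1 := hz (F * MvPolynomial.X j) fun w hw => by
      rw [map_mul, MvPolynomial.eval_X]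
      by_cases hwj : w j = 0
      · rw [hwj, mul_zero]
      obtain ⟨e, he⟩ := hevu w hwj
      rw [← he F, ← hF, map_mul, hvan f hf w hw hwj e he, zero_mul, zero_mul]
    rw [map_mul, MvPolynomial.eval_X, mul_eq_zero] at h1
    have h2 := congrArg ez hF
    rw [map_mul, hez, hez, h1.resolve_right hj, map_pow, MvPolynomial.eval_X, mul_eq_zero] at h2
    exact h2.resolve_right (pow_ne_zero _ hj)
  replace hzC : φ.left (PrimeSpectrum.comap ez.toRingHom (IsLocalRing.closedPoint k)) ∈ Set.range (a.orbitMap x₀).left := hzC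
  rw [himg z hj ez hez] at hzC
  obtain ⟨q, hq⟩ := hzC
  let y : pk ⟶ QuotSub.PN k N := ToriConj.pt0 ≫ ProjAct.lineO (k := k) z (span_top_of_ne_zero hz0)
  have hy : y.left (IsLocalRing.closedPoint k) = (a.orbitMap x₀).left q := by
    rw [hq]
    show (ProjAct.lineO (k := k) z (span_top_of_ne_zero hz0)).left ((ToriConj.pt0 (k := k)).left (IsLocalRing.closedPoint k)) = _
    rw [Subsingleton.elim (α := PrimeSpectrum k) ((ToriConj.pt0 (k := k)).left (IsLocalRing.closedPoint k))
      (IsLocalRing.closedPoint k)]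
  haveI : JacobsonSpace G.left := LocallyOfFiniteType.jacobsonSpace G.hom
  obtain ⟨w', hw', hwc⟩ := nonempty_inter_closedPoints
    (Z := (a.orbitMap x₀).left ⁻¹' {y.left (IsLocalRing.closedPoint k)}) ⟨q, hy.symm⟩
    ((AlgGrp79.rat_isClosed y).preimage (a.orbitMap x₀).left.continuous).isLocallyClosed
  obtain ⟨p, hp⟩ := ptVal_eq w' hwc
  obtain ⟨g, hg⟩ := ToriConj.ev_surjective ψ p
  have heq : ToriConj.ev ψ g ≫ a.orbitMap x₀ = y :=
    pt_ext _ _ (by rw [hg, Over.comp_left, Scheme.Hom.comp_apply, hp]; exact hw')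
  rw [orbit_pt ψ hc hv] at heq
  have hcross := (ProjAct.lineO_eq_iff _ _ _ _).1 ((cancel_epi (ToriConj.pt0 (k := k))).1 heq)
  obtain ⟨l, hl⟩ : ∃ l, (mat c g *ᵥ v) l ≠ 0 := by
    by_contra h
    push Not at h
    exact mat_mulVec_ne_zero hc g hv (funext h)
  refine ⟨g, z l / (mat c g *ᵥ v) l, funext fun i => ?_⟩
  rw [Pi.smul_apply, smul_eq_mul, div_mul_eq_mul_div, eq_div_iff hl]
  linear_combination -(hcross i l)

end Groth.Agent.AGF80.Luna
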