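import Groth.Agent.AGF80.Luna.Weights

/-!
An orbit of a connected group on which enough linear forms are constant is a point.
-/

set_option autoImplicit false
set_option linter.unusedSectionVars false
set_option linter.style.haveILetI false
set_option backward.isDefEq.respectTransparency.types false

universe u

open WithConv Matrix
open scoped TensorProduct

noncomputable section

namespace Groth.Agent.AGF80.Luna

open Comod33 Comod33.Mat

variable {k : Type u} [Field k]

/-- Monomials of bounded degree. -/
def mons {Q : Type u} [CommRing Q] [Algebra k Q] {n : ℕ} (a : Fin n → Q) (d : ℕ) : Submodule k Q :=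
  Submodule.span k {x | ∃ e : Fin n → ℕ, ∑ i, e i ≤ d ∧ x = ∏ i, a i ^ e i}

theorem mons_mono {Q : Type u} [CommRing Q] [Algebra k Q] {n : ℕ} (a : Fin n → Q) {d d' : ℕ} (h : d ≤ d') :
    mons (k := k) a d ≤ mons a d' :=
  Submodule.span_mono fun _ ⟨e, he, hx⟩ => ⟨e, he.trans h, hx⟩

theorem mons_mul {Q : Type u} [CommRing Q] [Algebra k Q] {n : ℕ} (a : Fin n → Q) {d d' : ℕ} {x y : Q}
    (hx : x ∈ mons (k := k) a d) (hy : y ∈ mons (k := k) a d') : x * y ∈ mons (k := k) a (d + d') := by
  have := Submodule.mul_mem_mul hx hy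
  rw [mons, mons, Submodule.span_mul_span] at this
  refine Submodule.span_mono ?_ this
  rintro _ ⟨_, ⟨e, he, rfl⟩, _, ⟨e', he', rfl⟩, rfl⟩
  refine ⟨e + e', ?_, ?_⟩
  · simp only [Pi.add_apply, Finset.sum_add_distrib]
    omega
  · simp only [Pi.add_apply, pow_add, Finset.prod_mul_distrib]

theorem coeff_mem {Q : Type u} [CommRing Q] [Algebra k Q] {n : ℕ} (a : Fin n → Q) (f : MvPolynomial (Fin n) k) :
    ∀ j : ℕ, (MvPolynomial.aeval (fun i => Polynomial.C (a i) * Polynomial.X) f).coeff j ∈ mons (k := k) a j := by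
  induction f using MvPolynomial.induction_on with
  | C r =>
    intro j
    rw [MvPolynomial.aeval_C, IsScalarTower.algebraMap_apply k Q (Polynomial Q), ← Polynomial.C_eq_algebraMap,
      Polynomial.coeff_C]
    split_ifs
    · rw [Algebra.algebraMap_eq_smul_one]
      exact Submodule.smul_mem _ _ (Submodule.subset_span ⟨0, by simp, by simp⟩)
    · exact zero_mem _
  | add f g hf hg =>
    intro j
    rw [map_add, Polynomial.coeff_add]
    exact add_mem (hf j) (hg j)
  | mul_X f i hf =>
    intro j
    rw [map_mul, MvPolynomial.aeval_X, ← _root_.mul_assoc]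
    cases j with
    | zero => rw [Polynomial.coeff_mul_X_zero]; exact zero_mem _
    | succ j =>
      rw [Polynomial.coeff_mul_X, Polynomial.coeff_mul_C]
      exact mons_mul a (hf j) (Submodule.subset_span ⟨Pi.single i 1, by simp, by
        rw [Finset.prod_eq_single i (fun l _ hl => by simp [hl]) (by simp)]
        simp⟩)

/-- Generators of a domain with a power of each in lower degree are scalars. -/
theorem exists_scalar [IsAlgClosed k] {Q : Type u} [CommRing Q] [IsDomain Q] [Algebra k Q] {n : ℕ} (a : Fin n → Q)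
    (d : ℕ) (h : ∀ i, a i ^ (d + 1) ∈ mons (k := k) a d) (i : Fin n) : ∃ x : k, algebraMap k Q x = a i := by
  classical
  let M := mons (k := k) a (n * d)
  have key : ∀ (N : ℕ), mons (k := k) a N ≤ M := by
    intro N
    induction N using Nat.strong_induction_on with
    | _ N ih =>
      by_cases hN : N ≤ n * d
      · exact mons_mono a hN
      refine Submodule.span_le.2 ?_
      rintro _ ⟨e, he, rfl⟩
      by_cases he' : ∑ l, e l ≤ n * d
      · exact mons_mono a le_rfl (Submodule.subset_span ⟨e, he', rfl⟩)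
      obtain ⟨l, hl⟩ : ∃ l, d + 1 ≤ e l := by
        by_contra hc
        push Not at hc
        refine he' ((Finset.sum_le_sum fun l _ => Nat.lt_succ_iff.1 (hc l)).trans (le_of_eq ?_))
        simp
      let e' : Fin n → ℕ := Function.update e l (e l - (d + 1))
      have hsum : ∑ m, e' m + (d + 1) = ∑ m, e m := by
        have h1 := Finset.add_sum_erase _ (fun m => e m) (Finset.mem_univ l)
        have h2 := Finset.add_sum_erase _ (fun m => e' m) (Finset.mem_univ l)
        have h3 : ∑ m ∈ Finset.univ.erase l, e' m = ∑ m ∈ Finset.univ.erase l, e m :=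
          Finset.sum_congr rfl fun m hm => Function.update_of_ne (Finset.ne_of_mem_erase hm) _ e
        have h4 : e' l = e l - (d + 1) := Function.update_self ..
        omega
      have hprod : ∏ m, a m ^ e m = (∏ m, a m ^ e' m) * a l ^ (d + 1) := by
        rw [← Finset.mul_prod_erase _ (fun m => a m ^ e m) (Finset.mem_univ l),
          ← Finset.mul_prod_erase _ (fun m => a m ^ e' m) (Finset.mem_univ l)]
        simp only [e', Function.update_self]
        rw [Finset.prod_congr rfl fun m hm =>
          (congrArg (a m ^ ·) (Function.update_of_ne (Finset.ne_of_mem_erase hm) (e l - (d + 1)) e))]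
        rw [mul_right_comm, ← pow_add, Nat.sub_add_cancel hl]
      show ∏ m, a m ^ e m ∈ M
      rw [hprod]
      exact ih _ (by omega) (mons_mul a (Submodule.subset_span ⟨e', le_rfl, rfl⟩) (h l))
  have hadj : Subalgebra.toSubmodule (Algebra.adjoin k (Set.range a)) ≤ M := by
    rw [Algebra.adjoin_eq_span, Submodule.span_le]
    intro x hx
    suffices hs : ∃ N, x ∈ mons (k := k) a N from key _ hs.choose_spec
    refine Submonoid.closure_induction (fun y hy => ?_) ⟨0, ?_⟩ (fun y y' _ _ hy hy' => ?_) hx
    · obtain ⟨l, rfl⟩ := hy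
      refine ⟨1, Submodule.subset_span ⟨Pi.single l 1, by simp, ?_⟩⟩
      rw [Finset.prod_eq_single l (fun m _ hm => by simp [hm]) (by simp)]
      simp
    · exact Submodule.subset_span ⟨0, by simp, by simp⟩
    · exact ⟨_, mons_mul a hy.choose_spec hy'.choose_spec⟩
  haveI : Module.Finite k M := by
    have hfin : {x | ∃ e : Fin n → ℕ, ∑ l, e l ≤ n * d ∧ x = ∏ l, a l ^ e l}.Finite := by
      refine ((Set.Finite.pi' fun _ : Fin n => Set.finite_Iic (n * d)).image fun e => ∏ l, a l ^ e l).subset ?_
      rintro _ ⟨e, he, rfl⟩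
      exact ⟨e, fun l => Set.mem_Iic.2 ((Finset.single_le_sum (fun m _ => Nat.zero_le (e m)) (Finset.mem_univ l)).trans he), rfl⟩
    exact Module.Finite.span_of_finite k hfin
  haveI : Module.Finite k (Algebra.adjoin k (Set.range a)) :=
    Module.Finite.of_injective (Submodule.inclusion hadj) (Submodule.inclusion_injective _)
  obtain ⟨x, hx⟩ := (IsAlgClosed.algebraMap_bijective_of_isIntegral
    (k := k) (K := Algebra.adjoin k (Set.range a))).2 ⟨a i, Algebra.subset_adjoin ⟨i, rfl⟩⟩
  exact ⟨x, congrArg Subtype.val hx⟩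

variable [IsAlgClosed k] {A : Type u} [CommRing A] [HopfAlgebra k A]
  {Q : Type u} [CommRing Q] [HopfAlgebra k Q] [IsDomain Q] [Algebra.FiniteType k Q]

/-- A connected group fixing enough covectors fixes the orbit pointwise. -/
theorem orbit_fixed {n : ℕ} {c : Fin n → Fin n → A} (hc : IsRep (k := k) c) (π : A →ₐc[k] Q) {v : Fin n → k}
    (hcov : ∀ z ∈ Orb c v, z ≠ 0 → ∃ r : Fin n → k, r ⬝ᵥ z ≠ 0 ∧ ∀ h, r ᵥ* mat c (HopfFlat.restrPts π h) = r)
    (hcl : ConeClosed c v) (g : Conn.Pt k A) (h : Conn.Pt k Q) :
    mat c (HopfFlat.restrPts π h) *ᵥ (mat c g *ᵥ v) = mat c g *ᵥ v := by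
  classical
  let z₀ : Fin n → k := mat c g *ᵥ v
  let R : Set (Fin n → k) := {r | ∀ h, r ᵥ* mat c (HopfFlat.restrPts π h) = r}
  let lin : (Fin n → k) → MvPolynomial (Fin n) k := fun r => ∑ l, MvPolynomial.C (r l) * MvPolynomial.X l
  let I : Ideal (MvPolynomial (Fin n) k) :=
    { carrier := {f | ∀ w ∈ Orb c v, MvPolynomial.eval w f = 0}
      zero_mem' := fun w _ => map_zero _
      add_mem' := fun {f f'} hf hf' w hw => by rw [map_add, hf w hw, hf' w hw, add_zero]
      smul_mem' := fun r f hf w hw => by rw [smul_eq_mul, map_mul, hf w hw, mul_zero] }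
  let J : Ideal (MvPolynomial (Fin n) k) := I ⊔ Ideal.span (lin '' R)
  have hrad : ∀ i, MvPolynomial.X i ∈ J.radical := by
    intro i
    rw [← MvPolynomial.vanishingIdeal_zeroLocus_eq_radical (K := k), MvPolynomial.mem_vanishingIdeal_iff]
    intro z hz
    rw [MvPolynomial.mem_zeroLocus_iff] at hz
    have hzo : z ∈ Orb c v := hcl z fun f hf => by
      have := hz f (Ideal.mem_sup_left (show f ∈ I from hf))
      simpa using this
    suffices z = 0 by simp [this]
    by_contra hz0
    obtain ⟨r, hr, hrR⟩ := hcov z hzo hz0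
    refine hr ?_
    have := hz (lin r) (Ideal.mem_sup_right (Ideal.subset_span ⟨r, hrR, rfl⟩))
    simpa [lin, dotProduct, map_sum] using this
  let a : Fin n → Q := fun i => π (∑ l, z₀ l • c i l)
  have ha : ∀ (h : Conn.Pt k Q) i, h.ofConv (a i) = (mat c (HopfFlat.restrPts π h) *ᵥ z₀) i := fun h i => by
    show (HopfFlat.restrPts π h).ofConv (∑ l, z₀ l • c i l) = _
    simp only [map_sum, map_smul, smul_eq_mul, Matrix.mulVec, dotProduct, ev_apply]
    exact Finset.sum_congr rfl fun l _ => _root_.mul_comm _ _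
  let Φ : MvPolynomial (Fin n) k →ₐ[k] Polynomial Q := MvPolynomial.aeval fun i => Polynomial.C (a i) * Polynomial.X
  have hI : ∀ f ∈ I, Φ f = 0 := by
    intro f hf
    refine Polynomial.ext fun m => ?_
    rw [Polynomial.coeff_zero]
    refine Conn.eq_zero_of_forall_point (k := k) (A := Q) fun h => ?_
    have hp : Polynomial.map (h.ofConv : Q →+* k) (Φ f) = 0 := by
      refine Polynomial.funext fun s => ?_
      rw [Polynomial.eval_zero, Polynomial.eval_map]
      let ψ : Polynomial Q →ₐ[k] k :=
        { Polynomial.eval₂RingHom (h.ofConv : Q →+* k) s with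
          commutes' := fun r => by
            show Polynomial.eval₂ _ s (algebraMap k (Polynomial Q) r) = r
            rw [IsScalarTower.algebraMap_apply k Q (Polynomial Q), ← Polynomial.C_eq_algebraMap, Polynomial.eval₂_C]
            exact h.ofConv.commutes r }
      have e := DFunLike.congr_fun (MvPolynomial.comp_aeval (fun i => Polynomial.C (a i) * Polynomial.X) ψ) f
      have e2 : (fun i => ψ (Polynomial.C (a i) * Polynomial.X)) = s • (mat c (HopfFlat.restrPts π h) *ᵥ z₀) := by
        funext i
        show Polynomial.eval₂ _ s _ = _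
        rw [Polynomial.eval₂_mul, Polynomial.eval₂_C, Polynomial.eval₂_X]
        exact (congrArg (· * s) (ha h i)).trans (_root_.mul_comm _ _)
      refine Eq.trans e ?_
      rw [e2]
      exact hf _ (smul_mem_orb (mat_mem_orb hc ⟨g, 1, (one_smul _ _).symm⟩ _) s)
    have := congrArg (fun p => Polynomial.coeff p m) hp
    simpa [Polynomial.coeff_map] using this
  have hlin : ∀ r ∈ R, Φ (lin r) = Polynomial.C (algebraMap k Q (r ⬝ᵥ z₀)) * Polynomial.X := by
    intro r hr
    have e : ∑ l, r l • a l = algebraMap k Q (r ⬝ᵥ z₀) := by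
      rw [← sub_eq_zero]
      refine Conn.eq_zero_of_forall_point (k := k) (A := Q) fun h => ?_
      rw [map_sub, AlgHom.commutes, sub_eq_zero, map_sum]
      simp only [map_smul, smul_eq_mul, ha]
      show r ⬝ᵥ (mat c (HopfFlat.restrPts π h) *ᵥ z₀) = r ⬝ᵥ z₀
      rw [Matrix.dotProduct_mulVec, hr h]
    rw [← e, map_sum Φ, map_sum Polynomial.C, Finset.sum_mul]
    refine Finset.sum_congr rfl fun l _ => ?_
    rw [map_mul, MvPolynomial.aeval_X, MvPolynomial.aeval_C, IsScalarTower.algebraMap_apply k Q (Polynomial Q),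
      ← Polynomial.C_eq_algebraMap, Algebra.smul_def, map_mul, _root_.mul_assoc]
  have hJ : ∀ f ∈ J, ∀ m, (Φ f).coeff (m + 1) ∈ mons (k := k) a m := by
    intro f hf m
    obtain ⟨f₁, hf₁, f₂, hf₂, rfl⟩ := Submodule.mem_sup.1 hf
    rw [map_add, hI f₁ hf₁, zero_add]
    clear hf
    induction hf₂ using Submodule.span_induction with
    | mem x hx =>
      obtain ⟨r, hr, rfl⟩ := hx
      rw [hlin r hr, Polynomial.coeff_mul_X, Polynomial.coeff_C]
      split_ifs
      · rw [Algebra.algebraMap_eq_smul_one]
        exact Submodule.smul_mem _ _ (Submodule.subset_span ⟨0, by simp, by simp⟩)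
      · exact zero_mem _
    | zero => simp
    | add x y _ _ hx hy => rw [map_add, Polynomial.coeff_add]; exact add_mem hx hy
    | smul q x hx' hx =>
      clear hx
      revert m
      induction hx' using Submodule.span_induction generalizing q with
      | mem x hx =>
        intro m
        obtain ⟨r, hr, rfl⟩ := hx
        rw [smul_eq_mul, map_mul, hlin r hr, ← _root_.mul_assoc, Polynomial.coeff_mul_X, Polynomial.coeff_mul_C,
          _root_.mul_comm, ← Algebra.smul_def]
        exact Submodule.smul_mem _ _ (coeff_mem a q m)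
      | zero => intro m; simp
      | add x y _ _ hx hy =>
        intro m
        rw [smul_add, map_add, Polynomial.coeff_add]
        exact add_mem (hx q m) (hy q m)
      | smul q' x _ hx =>
        intro m
        rw [smul_smul]
        exact hx _ m
  obtain ⟨d, hd⟩ : ∃ d, ∀ i, a i ^ (d + 1) ∈ mons (k := k) a d := by
    have hd' : ∀ i, ∃ d, (MvPolynomial.X i : MvPolynomial (Fin n) k) ^ d ∈ J := hrad
    choose d hd' using hd'
    refine ⟨∑ i, d i, fun i => ?_⟩
    have hm : (MvPolynomial.X i : MvPolynomial (Fin n) k) ^ (∑ i, d i + 1) ∈ J :=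
      Ideal.pow_mem_of_pow_mem J (hd' i) ((Finset.single_le_sum (fun l _ => Nat.zero_le (d l)) (Finset.mem_univ i)).trans (Nat.le_succ _))
    have := hJ _ hm (∑ i, d i)
    rwa [map_pow, MvPolynomial.aeval_X, mul_pow, ← map_pow, Polynomial.coeff_C_mul, Polynomial.coeff_X_pow_self,
      _root_.mul_one] at this
  funext i
  obtain ⟨x, hx⟩ := exists_scalar a d hd i
  have h1 := ha h i
  have h2 := ha 1 i
  rw [← hx, AlgHom.commutes] at h1 h2
  rw [map_one, mat_one hc, Matrix.one_mulVec] at h2
  exact h1.symm.trans h2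

end Groth.Agent.AGF80.Luna
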