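import Groth.Agent.AGF80.Luna.Weights
import Groth.Agent.RedPts82.BruhatActs
import Mathlib.Algebra.Polynomial.Laurent

/-!
Rational points along a line or a punctured line: matrix entries are polynomials, characters are monomials.
-/

set_option autoImplicit false
set_option linter.unusedSectionVars false
set_option linter.style.haveILetI false
set_option backward.isDefEq.respectTransparency.types false

universe u

open CategoryTheory MonoidalCategory CartesianMonoidalCategory MonObj GrpObj AlgebraicGeometry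
open WithConv Matrix

noncomputable section

namespace Groth.Agent.AGF80.Luna

open GMod80 Comod33 Comod33.Mat AlgGrp79 RedPts82

variable {k : Type u} [Field k]

local notation "pk" => 𝟙_ (Over (Spec (CommRingCat.of k)))
local notation "Sk" => Spec (CommRingCat.of k)

/-- A scalar as a function on the point. -/
def scal : k →+* Γ((pk).left, ⊤) := (Scheme.ΓSpecIso (CommRingCat.of k)).inv.hom

theorem scal_bijective : Function.Bijective (scal (k := k)) :=
  ConcreteCategory.bijective_of_isIso (Scheme.ΓSpecIso (CommRingCat.of k)).inv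

variable {A : Type u} [CommRing A] [HopfAlgebra k A] {G : Over (Spec (CommRingCat.of k))} [GrpObj G]
  (ψ : sp k A ≅ G) [IsMonHom ψ.hom]

/-- The specialisation of a parameter. -/
theorem pt0_ptMap {B : Type u} [CommRing B] [Algebra k B] (f : WithConv (A →ₐ[k] B)) (χ : B →ₐ[k] k) :
    ToriConj.ev ψ (toConv (χ.comp f.ofConv)) = (ToriConj.pt0 ≫ VecGrp.ptMap χ) ≫ e ψ B f := by
  rw [Category.assoc, e_natural]
  rfl

theorem appTop_pt0_ptMap {B : Type u} [CommRing B] [Algebra k B] (χ : B →ₐ[k] k) (b : B) :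
    (ToriConj.pt0 ≫ VecGrp.ptMap χ).left.appTop ((Scheme.ΓSpecIso (CommRingCat.of B)).inv b) = scal (χ b) := by
  rw [show (ToriConj.pt0 ≫ VecGrp.ptMap χ).left = Spec.map (CommRingCat.ofHom χ.toRingHom) from Category.id_comp _]
  exact (congrArg (fun q => q.hom b) (Scheme.ΓSpecIso_inv_naturality (CommRingCat.ofHom χ.toRingHom))).symm

/-- Matrix entries along the image of the additive group are polynomials. -/
theorem exists_poly_pts {n : ℕ} (c : Fin n → Fin n → A) (u : Red.Ga Sk ⟶ G) :
    ∃ (f : k → Conn.Pt k A) (P : Fin n → Fin n → Polynomial k),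
      (∀ x, ToriConj.ev ψ (f x) = gaPt (scal x) ≫ u) ∧ ∀ x i l, mat c (f x) i l = (P i l).eval x := by
  let ξ : VecGrp.pt k (Polynomial k) ⟶ Red.Ga Sk :=
    gaPt (X := VecGrp.pt k (Polynomial k)) ((Scheme.ΓSpecIso (CommRingCat.of (Polynomial k))).inv Polynomial.X)
  obtain ⟨φ, hφ⟩ := (e ψ (Polynomial k)).surjective (ξ ≫ u)
  refine ⟨fun x => toConv ((Polynomial.aeval x).comp φ.ofConv), fun i l => φ.ofConv (c i l), fun x => ?_,
    fun x i l => ?_⟩
  · rw [pt0_ptMap, hφ, ← Category.assoc]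
    refine congrArg (· ≫ u) ?_
    rw [comp_gaPt]
    refine congrArg gaPt ((appTop_pt0_ptMap _ _).trans ?_)
    rw [Polynomial.aeval_X]
  · show (Polynomial.aeval x) (φ.ofConv (c i l)) = _
    rw [Polynomial.coe_aeval_eq_eval]

/-- Evaluation of Laurent polynomials. -/
def evLaurent (z : kˣ) : LaurentPolynomial k →ₐ[k] k :=
  { LaurentPolynomial.eval₂ (RingHom.id k) z with
    commutes' := fun r => LaurentPolynomial.eval₂_C (RingHom.id k) z r }

/-- A Laurent polynomial without zeros on the torus is a monomial. -/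
theorem exists_monomial [IsAlgClosed k] (p : LaurentPolynomial k) (hp : ∀ z : kˣ, evLaurent z p ≠ 0)
    (h1 : evLaurent 1 p = 1) : ∃ m : ℤ, ∀ z : kˣ, evLaurent z p = (z : k) ^ m := by
  obtain ⟨n, q, hq⟩ := p.exists_T_pow
  have hev : ∀ z : kˣ, q.eval (z : k) = evLaurent z p * (z : k) ^ n := fun z => by
    have h := congrArg (LaurentPolynomial.eval₂ (RingHom.id k) z) hq
    rw [map_mul, LaurentPolynomial.eval₂_T_n, LaurentPolynomial.eval₂_toLaurent] at h
    exact h
  have hne : ∀ x : k, x ≠ 0 → q.eval x ≠ 0 := fun x hx => by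
    rw [← Units.val_mk0 hx, hev]
    exact mul_ne_zero (hp _) (pow_ne_zero _ (Units.ne_zero _))
  have hq0 : q ≠ 0 := fun h => hne 1 one_ne_zero (by rw [h, Polynomial.eval_zero])
  obtain ⟨g, hg, hgd⟩ := Polynomial.exists_eq_pow_rootMultiplicity_mul_and_not_dvd q hq0 0
  set N := q.rootMultiplicity 0
  rw [Polynomial.C_0, sub_zero] at hg hgd
  have hgdeg : g.degree ≤ 0 := by
    by_contra hd
    obtain ⟨x, hx⟩ := IsAlgClosed.exists_root g fun h => hd h.le
    by_cases hx0 : x = 0
    · subst hx0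
      exact hgd (Polynomial.X_dvd_iff.2 (by rw [Polynomial.coeff_zero_eq_eval_zero]; exact hx))
    · exact hne x hx0 (by rw [hg, Polynomial.eval_mul, show g.eval x = 0 from hx, mul_zero])
  rw [Polynomial.degree_le_zero_iff] at hgdeg
  have hq' : ∀ z : kˣ, evLaurent z p * (z : k) ^ n = (z : k) ^ N * g.coeff 0 := fun z => by
    rw [← hev, hg, Polynomial.eval_mul, Polynomial.eval_pow, Polynomial.eval_X]
    conv_lhs => rw [hgdeg, Polynomial.eval_C]
  have hg0 : g.coeff 0 = 1 := by simpa [h1] using (hq' 1).symm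
  refine ⟨(N : ℤ) - n, fun z => ?_⟩
  rw [zpow_sub₀ z.ne_zero, zpow_natCast, zpow_natCast, eq_div_iff (pow_ne_zero _ z.ne_zero), hq', hg0, _root_.mul_one]

/-- A one parameter family of diagonal matrices is given by powers. -/
theorem exists_weights [IsAlgClosed k] {n : ℕ} {c : Fin n → Fin n → A} (hc : IsRep (k := k) c)
    (u : Red.Gm Sk ⟶ G) [IsMonHom u]
    (hd : ∀ g : Conn.Pt k A, (∃ z, z ≫ u = ToriConj.ev ψ g) → ∃ d : Fin n → k, mat c g = diagonal d) :
    ∃ (L : kˣ → Conn.Pt k A) (m : Fin n → ℤ),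
      (∀ z, ToriConj.ev ψ (L z) = gmPt (Units.map (scal (k := k)).toMonoidHom z) ≫ u) ∧
      ∀ z, mat c (L z) = diagonal fun i => (z : k) ^ m i := by
  let B := LaurentPolynomial k
  let ξu : Γ((VecGrp.pt k B).left, ⊤)ˣ :=
    Units.map (Scheme.ΓSpecIso (CommRingCat.of B)).inv.hom.toMonoidHom (LaurentPolynomial.isUnit_T 1).unit
  obtain ⟨φ, hφ⟩ := (e ψ B).surjective (gmPt ξu ≫ u)
  let L : kˣ → Conn.Pt k A := fun z => toConv ((evLaurent z).comp φ.ofConv)
  have hL : ∀ z, ToriConj.ev ψ (L z) = gmPt (Units.map (scal (k := k)).toMonoidHom z) ≫ u := fun z => by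
    rw [pt0_ptMap, hφ, ← Category.assoc]
    refine congrArg (· ≫ u) (gmFn_injective ?_)
    rw [gmFn_comp, gmFn_gmPt, gmFn_gmPt, Units.coe_map, Units.coe_map]
    refine (appTop_pt0_ptMap _ _).trans (congrArg scal ?_)
    rw [IsUnit.unit_spec]
    show LaurentPolynomial.eval₂ (RingHom.id k) z (LaurentPolynomial.T 1) = _
    rw [LaurentPolynomial.eval₂_T, zpow_one]
  have hdiag : ∀ z, ∃ d : Fin n → k, mat c (L z) = diagonal d := fun z => hd _ ⟨_, (hL z).symm⟩
  have hne : ∀ z i, evLaurent z (φ.ofConv (c i i)) ≠ 0 := fun z i h => by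
    obtain ⟨d, hdz⟩ := hdiag z
    have hdet := congrArg Matrix.det (mat_mul hc (L z) (L z)⁻¹)
    rw [mul_inv_cancel, mat_one hc, Matrix.det_one, Matrix.det_mul, hdz, Matrix.det_diagonal,
      Finset.prod_eq_zero (Finset.mem_univ i) (by
        rw [show d i = mat c (L z) i i by rw [hdz, Matrix.diagonal_apply_eq]]; exact h), zero_mul] at hdet
    exact one_ne_zero hdet
  have h1 : L 1 = 1 := ToriConj.ev_injective ψ (by
    rw [hL, map_one, map_one, show gmPt (1 : Γ((pk).left, ⊤)ˣ) = (1 : pk ⟶ Red.Gm Sk) from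
      gmFn_injective (by rw [gmFn_gmPt, Units.val_one, gmFn_one]), MonObj.one_comp])
  choose m hm using fun i => exists_monomial (φ.ofConv (c i i)) (fun z => hne z i) (by
    show mat c (L 1) i i = 1
    rw [h1, mat_one hc, Matrix.one_apply_eq])
  refine ⟨L, m, hL, fun z => ?_⟩
  obtain ⟨d, hdz⟩ := hdiag z
  rw [hdz]
  refine congrArg Matrix.diagonal (funext fun i => ?_)
  rw [← hm i z, ← Matrix.diagonal_apply_eq d i, ← hdz]
  rfl

end Groth.Agent.AGF80.Luna
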