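import Groth.Agent.CAlg6.GenDerived
import Groth.Agent.AlgGrp79.AffineQuot
import Groth.Agent.AGF80.Luna.CentralTor

/-!
The derived subgroup of a smooth connected group over a field, and central tori.
-/

set_option autoImplicit false
set_option linter.unusedSectionVars false
set_option linter.style.haveILetI false
set_option backward.isDefEq.respectTransparency.types false
set_option synthInstance.maxHeartbeats 200000

universe u

open CategoryTheory MonoidalCategory CartesianMonoidalCategory MonObj GrpObj AlgebraicGeometry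
open Groth.Agent.GMod80 Groth.Agent.CAlg6.GrpWord
open scoped commutatorElement

noncomputable section

namespace Groth.Agent.AGF80.Luna

open AlgGrp79

variable {k : Type u} [Field k]

local notation "pk" => 𝟙_ (Over (Spec (CommRingCat.of k)))

set_option maxHeartbeats 800000 in
/-- There is a homomorphism to a commutative group whose geometric kernel is killed by all homomorphisms to
commutative groups. -/
theorem exists_abelianization (G : Over (Spec (CommRingCat.of k))) [GrpObj G] [IsAffine G.left] [Smooth G.hom]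
    [ConnectedSpace G.left] :
    ∃ (K : Over (Spec (CommRingCat.of k))) (_ : GrpObj K) (j : K ⟶ G) (Q : Over (Spec (CommRingCat.of k)))
      (_ : GrpObj Q) (_ : IsCommMonObj Q) (q : G ⟶ Q), IsMonHom j ∧ IsMonHom q ∧ LocallyOfFiniteType Q.hom ∧
      QuasiCompact Q.hom ∧ IsAffine Q.left ∧ AlgGrp.IsKernel j q ∧
      ∀ (L : Type u) [Field L] [IsAlgClosed L] (σ : Spec (CommRingCat.of L) ⟶ Spec (CommRingCat.of k))
        (H : Over (Spec (CommRingCat.of L))) [GrpObj H] [IsCommMonObj H] (χ : Red.bc σ G ⟶ H) [IsMonHom χ]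
        (z : 𝟙_ (Over (Spec (CommRingCat.of L))) ⟶ Red.bc σ K), z ≫ (Over.pullback σ).map j ≫ χ = 1 := by
  haveI := CAlg6.GenDerived.geometricallyReduced_of_smooth G
  haveI : IsReduced G.left := AlgGrp79.isReduced_of_smooth G.hom
  haveI : IsClosedImmersion (𝟙 G : G ⟶ G).left := inferInstanceAs (IsClosedImmersion (𝟙 G.left))
  have hid : AlgGrp.IsNormalHom (𝟙 G) := fun T g n => ⟨g * (n ≫ 𝟙 G) * g⁻¹, (Category.comp_id _).symm⟩
  obtain ⟨N, hcl, hmax, -⟩ := exists_bound_comm_field (𝟙 G) (𝟙 G) (Or.inr inferInstance)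
  haveI : LocallyOfFiniteType (G ⊗ G).hom := CAlg6.GrpWord.lft_tensor G G
  haveI : QuasiCompact (G ⊗ G).hom := CAlg6.GrpWord.qc_tensor G G
  haveI : GeometricallyReduced (G ⊗ G).hom := geomRed_tensor G G
  obtain ⟨K, hK, j, hjm, hj, -, hjr, hKgr, hf, hmin⟩ :=
    exists_generated_field (cmap (𝟙 G) (𝟙 G)) (unitWord_cmap _ _) N hcl hmax
  haveI := hjm
  haveI := hj
  have hn : AlgGrp.IsNormalHom j := Groth.Agent.S5364.result k G G G (𝟙 G) (𝟙 G) hid hid K j hf hmin
  obtain ⟨Q, _, q, hqm, hQa, hQl, hqf, hqs, hker⟩ := AlgGrp79.AffineQuot.exists_quotient j hn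
  haveI := hqm
  haveI := hQa
  haveI := hQl
  haveI := hqf
  haveI := hqs
  haveI : QuasiCompact Q.hom := inferInstance
  have hc := AlgGrp79.isCov_of_flat_surjective q
  have hcomm : ∀ (T : Over (Spec (CommRingCat.of k))) (a b : T ⟶ G), (a ≫ q) * (b ≫ q) = (b ≫ q) * (a ≫ q) := by
    intro T a b
    obtain ⟨f', hf'⟩ := hf
    have h : (lift a b ≫ cmap (𝟙 G) (𝟙 G)) ≫ q = 1 := by
      rw [← hf', Category.assoc, Category.assoc, hker.w, ← Category.assoc, ← Category.assoc,
        toUnit_unique ((lift a b ≫ f') ≫ toUnit K) (toUnit T)]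
      rfl
    rw [lift_cmap, Category.comp_id, Category.comp_id, commutatorElement_def, MonObj.mul_comp _ _ q,
      MonObj.mul_comp _ _ q, MonObj.mul_comp _ _ q, GrpObj.inv_comp, GrpObj.inv_comp] at h
    have h2 := mul_inv_eq_one.1 h
    exact mul_inv_eq_iff_eq_mul.1 h2
  have hQc : ∀ (T : Over (Spec (CommRingCat.of k))) (x y : T ⟶ Q), x * y = y * x := by
    intro T x y
    obtain ⟨T₁, c₁, a, hc₁, ha⟩ := hc.exists_lift x
    obtain ⟨T₂, c₂, b, hc₂, hb⟩ := hc.exists_lift (c₁ ≫ y)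
    haveI := (hc₂.comp hc₁).epi
    rw [← cancel_epi (c₂ ≫ c₁), MonObj.comp_mul, MonObj.comp_mul]
    have e1 : (c₂ ≫ c₁) ≫ x = (c₂ ≫ a) ≫ q := by rw [Category.assoc, Category.assoc, ha]
    have e2 : (c₂ ≫ c₁) ≫ y = b ≫ q := by rw [Category.assoc, hb]
    rw [e1, e2, hcomm]
  haveI hQcm : IsCommMonObj Q := ⟨by
    have h := hQc (Q ⊗ Q) (snd Q Q) (fst Q Q)
    rw [Hom.mul_def, Hom.mul_def, lift_fst_snd, Category.id_comp] at h
    rw [← h]
    congr 1⟩
  refine ⟨K, hK, j, Q, inferInstance, hQcm, q, hjm, hqm, hQl, inferInstance, hQa, hker, ?_⟩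
  intro L _ _ σ H _ _ χ _ z
  let F := Over.pullback σ
  haveI : LocallyOfFiniteType (Red.bc σ G).hom := MorphismProperty.pullback_snd (P := @LocallyOfFiniteType) _ _ inferInstance
  let jb := F.map j
  let zz : 𝟙_ (Over (Spec (CommRingCat.of L))) ⟶ F.obj G := z ≫ jb
  let p₀ : (𝟙_ (Over (Spec (CommRingCat.of L)))).left := IsLocalRing.closedPoint L
  let fb := cmap (F.map (𝟙 G)) (F.map (𝟙 G))
  have hmem : zz.left.base p₀ ∈ WSet fb N := by
    rw [wset_cmap_bc (σ := σ) (𝟙 G) (𝟙 G) N]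
    show Limits.pullback.fst G.hom σ (zz.left.base p₀) ∈ WSet (cmap (𝟙 G) (𝟙 G)) N
    rw [← hjr]
    exact (CAlg6.GenDerived.mem_range_bc_iff σ j _).1 ⟨z.left.base p₀, rfl⟩
  rw [wset_eq_iUnion, Set.mem_iUnion] at hmem
  obtain ⟨ε, w, hw⟩ := hmem
  let X2 : Over (Spec (CommRingCat.of L)) := F.obj G ⊗ F.obj G
  haveI : LocallyOfFiniteType (F.obj G).hom := ‹LocallyOfFiniteType (Red.bc σ G).hom›
  haveI : LocallyOfFiniteType X2.hom := AlgGrp79.lft_prod _ _
  haveI : LocallyOfFiniteType (pow X2 N).hom := lft_pow X2 N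
  obtain ⟨s, hs⟩ := exists_lift_kpt (word fb (proj X2 N) ε) zz p₀ w hw
  rw [← Category.assoc]
  show zz ≫ χ = 1
  rw [← hs, comp_word, word]
  let R : (𝟙_ (Over (Spec (CommRingCat.of L))) ⟶ F.obj G) →* (𝟙_ (Over (Spec (CommRingCat.of L))) ⟶ H) :=
    MonoidHom.mk' (fun x => x ≫ χ) fun x y => MonObj.mul_comp x y χ
  show R (List.prod _) = 1
  rw [map_list_prod]
  refine List.prod_eq_one fun x hx => ?_
  simp only [List.map_ofFn, List.mem_ofFn, Function.comp_apply] at hx
  obtain ⟨i, rfl⟩ := hx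
  have hone : ∀ y : 𝟙_ (Over (Spec (CommRingCat.of L))) ⟶ X2, R (y ≫ fb) = 1 := fun y => by
    rw [show y = lift (y ≫ fst _ _) (y ≫ snd _ _) by rw [← comp_lift, lift_fst_snd, Category.comp_id],
      lift_cmap, map_commutatorElement, commutatorElement_eq_one_iff_mul_comm]
    exact mul_comm _ _
  split
  · exact hone _
  · rw [map_inv, hone, inv_one]

end Groth.Agent.AGF80.Luna
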