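import Groth.Agent.AGF80.UnipBasic
import Groth.Agent.Comod33.MultQuot
import Groth.Agent.Comod33.Socle
import Groth.Agent.AlgGrp79.CentTorus
import Groth.Agent.AlgGrp79.BorelImage

/-!
Images of unipotent groups are unipotent; tori map trivially to unipotent groups.
-/

set_option autoImplicit false
set_option linter.unusedSectionVars false
set_option linter.style.haveILetI false
set_option backward.isDefEq.respectTransparency.types false

universe u

open CategoryTheory MonoidalCategory CartesianMonoidalCategory MonObj GrpObj AlgebraicGeometry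
open scoped TensorProduct
open WithConv Groth.Agent.GMod80

noncomputable section

namespace Groth.Agent.AGF80.Luna

open Comod33 AlgGrp79

variable {k : Type u} [Field k]

/-- Homomorphisms from unipotent to diagonalizable coordinate algebras are trivial. -/
theorem hom_unip_diag {C D : Type u} [CommRing C] [HopfAlgebra k C] [CommRing D] [HopfAlgebra k D]
    (hC : HopfRep.IsUnipotent k C) (hD : HopfRep.IsDiagonalizable k D) (φ : C →ₐc[k] D) (c : C) :
    φ c = CoalgebraStruct.counit (R := k) c • (1 : D) := by
  letI : HopfRep.Comod k C C := HopfRep.Comod.regular k C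
  suffices h : ∀ n, ∀ c ∈ soc k C C n, φ c = CoalgebraStruct.counit (R := k) c • (1 : D) by
    have hc : c ∈ ⨆ n, soc k C C n := by rw [iSup_soc_eq_top hC C]; trivial
    obtain ⟨n, hn⟩ := (Submodule.mem_iSup_of_directed _ soc_mono.directed_le).1 hc
    exact h n c hn
  intro n
  induction n with
  | zero =>
    intro c hc
    rw [show c = 0 from (Submodule.mem_bot k).1 hc]
    simp
  | succ n ih =>
    intro c hc
    obtain ⟨y, hy⟩ := mem_soc_succ.1 hc
    have key : ∀ z : soc k C C n ⊗[k] C, ∃ w : D,
        TensorProduct.map (φ : C →ₗ[k] D) (φ : C →ₗ[k] D) ((soc k C C n).subtype.rTensor C z) = (1 : D) ⊗ₜ[k] w := by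
      intro z
      induction z with
      | zero => exact ⟨0, by simp⟩
      | add a b ha hb =>
        obtain ⟨u, hu⟩ := ha
        obtain ⟨w, hw⟩ := hb
        exact ⟨u + w, by rw [map_add, map_add, hu, hw, TensorProduct.tmul_add]⟩
      | tmul a b =>
        refine ⟨CoalgebraStruct.counit (R := k) (a : C) • φ b, ?_⟩
        show φ (a : C) ⊗ₜ[k] φ b = _
        rw [ih a a.2, TensorProduct.smul_tmul]
    obtain ⟨w, hw⟩ := key y
    have h1 : CoalgebraStruct.comul (R := k) (φ c) = (1 : D) ⊗ₜ[k] w + φ c ⊗ₜ[k] (1 : D) := by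
      have e : CoalgebraStruct.comul (R := k) c = (soc k C C n).subtype.rTensor C y + c ⊗ₜ[k] (1 : C) := by
        rw [hy]; exact (sub_add_cancel _ _).symm
      rw [← CoalgHomClass.map_comp_comul_apply φ c, e, map_add, hw, TensorProduct.map_tmul]
      show _ + φ c ⊗ₜ[k] φ 1 = _
      rw [map_one]
    have h2 : φ c = w + CoalgebraStruct.counit (R := k) c • (1 : D) := by
      have h := congrArg (TensorProduct.lid k D) (Coalgebra.rTensor_counit_comul (R := k) (φ c))
      rw [h1] at h
      simp only [map_add, LinearMap.rTensor_tmul, TensorProduct.lid_tmul, Bialgebra.counit_one, one_smul,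
        CoalgHomClass.counit_comp_apply] at h
      exact h.symm
    rw [← sub_eq_zero]
    refine Diag.no_prim_of_isDiagonalizable hD ?_
    show CoalgebraStruct.comul (R := k) (φ c - CoalgebraStruct.counit (R := k) c • (1 : D)) = _
    rw [map_sub, map_smul, Bialgebra.comul_one, h1, h2, add_sub_cancel_right, Algebra.TensorProduct.one_def,
      TensorProduct.add_tmul, TensorProduct.smul_tmul']
    abel

variable [IsAlgClosed k]

local notation "pk" => 𝟙_ (Over (Spec (CommRingCat.of k)))

/-- A torus maps trivially to a smooth connected group without subtori. -/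
theorem hom_torus_unip {T V : Over (Spec (CommRingCat.of k))} [GrpObj T] [GrpObj V] (hT : Red.IsTorus T)
    [IsAffine V.left] [Smooth V.hom] [ConnectedSpace V.left] (hV : Red.HasNoSubtorus k V) (p : T ⟶ V) [IsMonHom p]
    (s : pk ⟶ T) : s ≫ p = 1 := by
  obtain ⟨hTs, _, hTa, _, _⟩ := AlgGrp33.IsogSub.torus_props hT
  haveI := hTs
  haveI := hTa
  obtain ⟨Q, _, _, _, ψV, _, hQ⟩ := UnipBasic.exists_unip_coord V hV
  obtain ⟨D, _, _, ψT, _⟩ := exists_coord T
  haveI : Algebra.FiniteType k D := GMod80.finiteType ψT
  haveI : IsDomain D := by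
    haveI := Hopf35.TorDom.isDomain_tensor ψT hT k
    exact (Algebra.TensorProduct.lid k D).symm.toMulEquiv.isDomain _
  have hD : HopfRep.IsDiagonalizable k D := by
    obtain ⟨hco, hprim⟩ := (Groth.Agent.S7979.result k D).1 (AlgGrp33.isDiagonalizable_of_isTorus ψT hT)
    haveI := hco
    exact Comod33.Diag.isDiagonalizable_of_no_prim fun x hx => hprim x hx
  obtain ⟨g, rfl⟩ := ToriConj.ev_surjective ψT s
  rw [CentTorus.ev_comp ψV ψT p, ← map_one (ToriConj.ev ψV)]
  congr 1
  refine WithConv.ofConv_injective (AlgHom.ext fun c => ?_)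
  show g.ofConv (pullBialg ψV ψT p c) = _
  rw [hom_unip_diag hQ hD (pullBialg ψV ψT p) c, map_smul, map_one]
  exact (Algebra.algebraMap_eq_smul_one _).symm

/-- A group covered on rational points by a smooth connected group without subtori has no subtori. -/
theorem hasNoSubtorus_image {V W : Over (Spec (CommRingCat.of k))} [GrpObj V] [GrpObj W] [IsAffine V.left]
    [Smooth V.hom] [ConnectedSpace V.left] (hV : Red.HasNoSubtorus k V) [IsAffine W.left] [Smooth W.hom]
    (p : V ⟶ W) [IsMonHom p] (hp : ∀ w : pk ⟶ W, ∃ x : pk ⟶ V, x ≫ p = w) : Red.HasNoSubtorus k W := by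
  obtain ⟨Q, _, _, _, ψV, _, hQ⟩ := UnipBasic.exists_unip_coord V hV
  obtain ⟨R, _, _, ψW, _⟩ := exists_coord W
  haveI : Algebra.FiniteType k R := GMod80.finiteType ψW
  haveI : IsReduced W.left := isReduced_of_smooth W.hom
  haveI : _root_.IsReduced R := isReduced_of_injective (fn ψW).toRingHom (fn ψW).injective
  have hinj : Function.Injective (pullBialg ψW ψV p) := (injective_iff_map_eq_zero _).2 fun a ha => by
    refine Conn.eq_zero_of_forall_point (k := k) fun g => ?_
    obtain ⟨x, hx⟩ := hp (ToriConj.ev ψW g)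
    obtain ⟨x', rfl⟩ := ToriConj.ev_surjective ψV x
    rw [CentTorus.ev_comp ψW ψV p] at hx
    rw [← ToriConj.ev_injective ψW hx]
    exact (congrArg x'.ofConv ha).trans (map_zero _)
  haveI : IsMonHom (𝟙 W) := inferInstance
  exact UnipBasic.hasNoSubtorus_of_unipotent (Comod33.MultQuot.isUnipotent_of_injective _ hinj hQ) ψW (𝟙 W)

end Groth.Agent.AGF80.Luna
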