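import Groth.Agent.AGF80.Luna.Weights
import Groth.Agent.AlgGrp79.CentTorus
import Groth.Agent.AlgGrp79.CentTorusPts
import Groth.Agent.Comod33.Push
import Groth.Agent.Comod33.Connected
import Groth.Agent.AlgGrp79.HopfKerBasic
import Groth.Agent.AlgGrp79.NormBorel
import Groth.Agent.S3272
import Groth.Agent.S3019

/-!
A representation in which a subgroup is the stabiliser of a line, with a basis of weight vectors for a torus.
-/

set_option autoImplicit false
set_option linter.unusedSectionVars false
set_option linter.style.haveILetI false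
set_option backward.isDefEq.respectTransparency.types false

universe u

open scoped TensorProduct
open WithConv Matrix Groth.Agent.GMod80 Groth.Agent.AlgGrp79

noncomputable section

namespace Groth.Agent.AGF80.Luna

open Comod33 Comod33.Mat

variable {k : Type u} [Field k] [IsAlgClosed k]

/-- A closed subgroup is the stabilizer of a line, on rational points. -/
theorem exists_stab {A A' : Type u} [CommRing A] [HopfAlgebra k A] [Algebra.FiniteType k A] [CommRing A'] [HopfAlgebra k A']
    (φ : A →ₐc[k] A') (hφ : Function.Surjective φ) :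
    ∃ (V : Type u) (_ : AddCommGroup V) (_ : Module k V) (_ : HopfRep.Comod k A V) (_ : Module.Finite k V) (v : V),
      v ≠ 0 ∧ ∀ g : Conn.Pt k A, (∃ h, HopfFlat.restrPts φ h = g) ↔ ∃ c : k, actHom k A V g v = c • v := by
  haveI := isHopfIdeal_ker φ
  obtain ⟨V, _, _, cV, hV, v, hv0, hrep⟩ := Groth.Agent.S3019.result k A (RingHom.ker (φ : A →ₐ[k] A'))
  refine ⟨V, inferInstance, inferInstance, cV, hV, v, hv0, fun g => ?_⟩
  have hact : actHom k A V g v =
      TensorProduct.rid k V (LinearMap.lTensor V g.ofConv.toLinearMap (HopfRep.Comod.coact (k := k) (A := A) v)) := rfl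
  constructor
  · rintro ⟨h, rfl⟩
    obtain ⟨c, hc⟩ := (hrep k (HopfFlat.restrPts φ h).ofConv).1 fun a ha => (congrArg h.ofConv ha).trans (map_zero _)
    exact ⟨c, by rw [hact, hc, TensorProduct.rid_tmul]⟩
  · rintro ⟨c, hc⟩
    have hk := (hrep k g.ofConv).2 ⟨c, (TensorProduct.rid k V).injective (by
      rw [TensorProduct.rid_tmul, ← hc]; exact hact.symm)⟩
    choose s hs using hφ
    refine ⟨toConv (AlgHom.ofLinearMap
      { toFun := fun b => g.ofConv (s b)
        map_add' := fun x y => ?_
        map_smul' := fun r x => ?_ } ?_ ?_), WithConv.ofConv_injective (AlgHom.ext fun a => ?_)⟩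
    · rw [← map_add, ← sub_eq_zero, ← map_sub]
      refine hk _ ?_
      show φ _ = 0
      rw [map_sub, map_add, hs, hs, hs, sub_self]
    · rw [RingHom.id_apply, ← map_smul, ← sub_eq_zero, ← map_sub]
      refine hk _ ?_
      show φ _ = 0
      rw [map_sub, map_smul, hs, hs, sub_self]
    · show g.ofConv (s 1) = 1
      rw [← map_one g.ofConv, ← sub_eq_zero, ← map_sub]
      refine hk _ ?_
      show φ _ = 0
      rw [map_sub, map_one, hs, sub_self]
    · intro x y
      show g.ofConv (s (x * y)) = g.ofConv (s x) * g.ofConv (s y)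
      rw [← map_mul, ← sub_eq_zero, ← map_sub]
      refine hk _ ?_
      show φ _ = 0
      rw [map_sub, map_mul, hs, hs, hs, sub_self]
    · show g.ofConv (s (φ a)) = g.ofConv a
      rw [← sub_eq_zero, ← map_sub]
      refine hk _ ?_
      show φ _ = 0
      rw [map_sub, hs, sub_self]

theorem mat_mulVec_repr {A V : Type u} [CommRing A] [HopfAlgebra k A] [AddCommGroup V] [Module k V]
    [HopfRep.Comod k A V] {n : ℕ} (b : Module.Basis (Fin n) k V) (g : Conn.Pt k A) (w : V) :
    mat (mc (A := A) b) g *ᵥ b.repr w = b.repr (actHom k A V g w) := by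
  have hb : ∀ j, b.repr (actHom k A V g (b j)) = fun i => g.ofConv (mc (A := A) b i j) := fun j => by
    rw [actHom_apply, act_eq_dact, dact_apply, coact_basis b j, map_sum, map_sum, Finsupp.coe_finsetSum]
    funext i
    simp only [rc_tmul, Finset.sum_apply, map_smul, Module.Basis.repr_self, Finsupp.smul_apply, Finsupp.single_apply,
      smul_eq_mul, mul_ite, _root_.mul_one, mul_zero, Finset.sum_ite_eq', Finset.mem_univ, if_true]
    rfl
  funext i
  conv_rhs => rw [← b.sum_repr w]
  simp only [map_sum, map_smul, Finsupp.coe_finsetSum, Finset.sum_apply, Finsupp.coe_smul, Pi.smul_apply, hb, smul_eq_mul]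
  show ∑ l, g.ofConv (mc (A := A) b i l) * b.repr w l = _
  exact Finset.sum_congr rfl fun l _ => _root_.mul_comm (g.ofConv (mc (A := A) b i l)) (b.repr w l)

/-- Exponents separating finitely many characters. -/
theorem exists_separating {r n : ℕ} (m : Fin n → Fin r → ℤ) :
    ∃ φ : (Fin r → ℤ) →+ ℤ, ∀ i l, φ (m i) = φ (m l) → m i = m l := by
  classical
  let p : (Fin r → ℤ) → Polynomial ℤ := fun d => ∑ j, Polynomial.C (d j) * Polynomial.X ^ (j : ℕ)
  have hp : ∀ d, p d = 0 → d = 0 := fun d hd => funext fun j => by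
    have := congrArg (fun q => Polynomial.coeff q (j : ℕ)) hd
    simpa [p, Polynomial.finsetSum_coeff, Polynomial.coeff_C_mul, Polynomial.coeff_X_pow, Fin.val_inj] using this
  let bad : Set ℤ := ⋃ il ∈ {il : Fin n × Fin n | m il.1 ≠ m il.2}, {x | (p (m il.1 - m il.2)).IsRoot x}
  have hbad : bad.Finite := (Set.toFinite _).biUnion fun il hil =>
    Polynomial.finite_setOf_isRoot fun h => hil (sub_eq_zero.1 (hp _ h))
  obtain ⟨x, hx⟩ := hbad.infinite_compl.nonempty
  refine ⟨{ toFun := fun d => ∑ j, d j * x ^ (j : ℕ)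
            map_zero' := by simp
            map_add' := fun d d' => by simp [add_mul, Finset.sum_add_distrib] }, fun i l h => ?_⟩
  by_contra hne
  refine hx ?_
  simp only [bad, Set.mem_iUnion]
  refine ⟨(i, l), hne, ?_⟩
  show Polynomial.eval x (p _) = 0
  simp only [p, Polynomial.eval_finsetSum, Polynomial.eval_mul, Polynomial.eval_C, Polynomial.eval_pow, Polynomial.eval_X,
    Pi.sub_apply, sub_mul, Finset.sum_sub_distrib, sub_eq_zero]
  exact h

/-- A representation spanned by an orbit, with the subgroup as the stabiliser of the line and diagonal torus. -/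
theorem exists_rep {A A' D : Type u} [CommRing A] [HopfAlgebra k A] [Algebra.FiniteType k A] [_root_.IsReduced A]
    [CommRing A'] [HopfAlgebra k A'] [CommRing D] [HopfAlgebra k D] [Algebra.FiniteType k D] [IsDomain D]
    (hD : HopfRep.IsDiagonalizable k D) (φ : A →ₐc[k] A') (hφ : Function.Surjective φ) (τ : A →ₐc[k] D) :
    ∃ (N : ℕ) (c : Fin (N + 1) → Fin (N + 1) → A) (v : Fin (N + 1) → k) (ℓ : Fin (N + 1) → ℤ),
      IsRep (k := k) c ∧ v ≠ 0 ∧ (∀ f : Fin (N + 1) → k, (∀ g, f ⬝ᵥ (mat c g *ᵥ v) = 0) → f = 0) ∧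
      Diag c (Set.range (HopfFlat.restrPts τ)) ℓ ∧
      ∀ g : Conn.Pt k A, (∃ h, HopfFlat.restrPts φ h = g) ↔ ∃ a : k, mat c g *ᵥ v = a • v := by
  classical
  obtain ⟨V, _, _, cV, _, v, hv, hstab⟩ := exists_stab φ hφ
  let W : Submodule k V := Submodule.span k (Set.range fun g : Conn.Pt k A => actHom k A V g v)
  have hW : HopfRep.IsSubcomod (k := k) (A := A) W := Conn.isSubcomod_of_forall_point W fun g w hw => by
    induction hw using Submodule.span_induction with
    | mem x hx =>
      obtain ⟨h, rfl⟩ := hx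
      exact Submodule.subset_span ⟨g * h, by simp only [map_mul, Module.End.mul_apply]⟩
    | zero => rw [map_zero]; exact zero_mem _
    | add x y _ _ hx hy => rw [map_add]; exact add_mem hx hy
    | smul a x _ hx => rw [map_smul]; exact Submodule.smul_mem _ _ hx
  letI cW : HopfRep.Comod k A W := ComodSub.Comod.restr cV W hW
  haveI : Module.Finite k W := inferInstance
  have hvW : v ∈ W := Submodule.subset_span ⟨1, by simp⟩
  have hres : ∀ (g : Conn.Pt k A) (w : W), (actHom k A W g w : V) = actHom k A V g (w : V) :=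
    fun g w => AlgGrp79.NormBorel.act_restr cV W hW g w
  -- weight vectors
  let cD : HopfRep.Comod k D W := push τ.toCoalgHom cW
  obtain ⟨b₀, hbS, hbspan, hbli⟩ := exists_linearIndependent k
    {w : W | ∃ a : D, cD.coact w = w ⊗ₜ[k] a}
  have htop := (Groth.Agent.S3272.result k D).1 hD W inferInstance
  let B₀ : Module.Basis b₀ k W := Module.Basis.mk hbli (by rw [Subtype.range_coe, hbspan]; exact htop.ge)
  haveI : Fintype b₀ := FiniteDimensional.fintypeBasisIndex B₀
  have hW0 : (⟨v, hvW⟩ : W) ≠ 0 := fun h => hv (congrArg Subtype.val h)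
  haveI : Nontrivial W := ⟨⟨_, 0, hW0⟩⟩
  obtain ⟨N, hN⟩ : ∃ N, Fintype.card b₀ = N + 1 :=
    ⟨_, (Nat.succ_pred_eq_of_pos (Fintype.card_pos_iff.2 B₀.index_nonempty)).symm⟩
  let b : Module.Basis (Fin (N + 1)) k W := B₀.reindex (Fintype.equivFinOfCardEq hN)
  let c : Fin (N + 1) → Fin (N + 1) → A := mc (A := A) b
  have hc : IsRep (k := k) c := isRep_mc b
  have hbe : ∀ i, ∃ a : D, (τ : A →ₗ[k] D).lTensor W (cW.coact (b i)) = b i ⊗ₜ[k] a := fun i => by
    show ∃ a : D, cD.coact (b i) = b i ⊗ₜ[k] a
    rw [Module.Basis.reindex_apply, Module.Basis.mk_apply]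
    exact hbS ((Fintype.equivFinOfCardEq hN).symm i).2
  choose a ha using hbe
  have hτc : ∀ i l, τ (c i l) = if i = l then a l else 0 := by
    intro i l
    have h := ha l
    rw [coact_basis b l, map_sum] at h
    have h' := congrArg (fun x => TensorProduct.lid k D ((b.coord i).rTensor D x)) h
    simp only [LinearMap.lTensor_tmul, map_sum, LinearMap.rTensor_tmul, TensorProduct.lid_tmul, Module.Basis.coord_apply,
      Module.Basis.repr_self, Finsupp.single_apply, ite_smul, one_smul, zero_smul, Finset.sum_ite_eq', Finset.mem_univ,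
      if_true] at h'
    refine h'.trans ?_
    exact if_congr eq_comm rfl rfl
  have hgl : ∀ l, IsGroupLikeElem k (a l) := fun l => by
    constructor
    · rw [show a l = τ (c l l) by rw [hτc, if_pos rfl]]
      exact (CoalgHomClass.counit_comp_apply τ _).trans ((hc.counit l l).trans (if_pos rfl))
    · rw [show a l = τ (c l l) by rw [hτc, if_pos rfl]]
      refine (CoalgHomClass.map_comp_comul_apply τ _).symm.trans ?_
      rw [hc.comul, map_sum, Finset.sum_eq_single l]
      · rfl
      · intro m _ hm
        show τ (c l m) ⊗ₜ[k] τ (c m l) = 0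
        rw [hτc l m, if_neg hm.symm, TensorProduct.zero_tmul]
      · simp
  obtain ⟨r, ⟨E⟩⟩ := AlgGrp33.exists_equiv_split hD
  have hm : ∀ l, ∃ m : Fin r → ℤ, E (a l) = MonoidAlgebra.single (Multiplicative.ofAdd m) 1 := fun l => by
    obtain ⟨m, hm⟩ := MonoidAlgebra.isGroupLikeElem_iff_mem_range_single_one.1 ((hgl l).map E)
    exact ⟨Multiplicative.toAdd m, hm.symm⟩
  choose m hm using hm
  obtain ⟨ff, hff⟩ := exists_separating m
  have hdiag : ∀ t : Conn.Pt k D, mat c (HopfFlat.restrPts τ t) = diagonal fun i => t.ofConv (a i) := fun t => by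
    ext i l
    show t.ofConv (τ (c i l)) = _
    rw [hτc, Matrix.diagonal_apply]
    split_ifs with h
    · rw [h]
    · exact map_zero _
  refine ⟨N, c, b.repr ⟨v, hvW⟩, fun i => ff (m i), hc, ?_, ?_, ⟨?_, ?_⟩, fun g => ?_⟩
  · intro h
    exact hW0 (b.repr.injective (by rw [map_zero]; exact Finsupp.ext (congrFun h)))
  · intro f hf
    let L : W →ₗ[k] k := ∑ i, f i • b.coord i
    have hL : ∀ w : W, L w = f ⬝ᵥ b.repr w := fun w => by simp [L, dotProduct]
    have hL0 : L = 0 := by
      refine LinearMap.ext fun ⟨w, hw⟩ => ?_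
      induction hw using Submodule.span_induction with
      | mem x hx =>
        obtain ⟨g, rfl⟩ := hx
        have e : (⟨actHom k A V g v, Submodule.subset_span ⟨g, rfl⟩⟩ : W) = actHom k A W g ⟨v, hvW⟩ :=
          Subtype.ext (hres g ⟨v, hvW⟩).symm
        rw [LinearMap.zero_apply, hL, e, ← mat_mulVec_repr b]
        exact hf g
      | zero => exact map_zero _
      | add x y hx hy hx' hy' =>
        rw [show (⟨x + y, _⟩ : W) = ⟨x, hx⟩ + ⟨y, hy⟩ from rfl, map_add, hx', hy']
        simp
      | smul r x hx hx' =>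
        rw [show (⟨r • x, _⟩ : W) = r • ⟨x, hx⟩ from rfl, map_smul, hx']
        simp
    funext i
    have := LinearMap.congr_fun hL0 (b i)
    rw [hL, Module.Basis.repr_self, LinearMap.zero_apply] at this
    simpa [dotProduct, Finsupp.single_apply] using this
  · rintro _ ⟨t, rfl⟩
    refine ⟨_, hdiag t, fun i l h => ?_⟩
    rw [show a i = a l from EquivLike.injective E ((hm i).trans (((congrArg (fun x => MonoidAlgebra.single (Multiplicative.ofAdd x) (1 : k)) (hff i l h))).trans (hm l).symm))]
  · intro s hs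
    let χ : Multiplicative (Fin r → ℤ) →* k :=
      { toFun := fun x => s ^ ff (Multiplicative.toAdd x)
        map_one' := by simp
        map_mul' := fun x y => by rw [toAdd_mul, map_add, zpow_add₀ hs] }
    let t : Conn.Pt k D := toConv ((MonoidAlgebra.lift k k (Multiplicative (Fin r → ℤ)) χ).comp (E : D →ₐ[k] _))
    refine ⟨_, ⟨t, rfl⟩, (hdiag t).trans (congrArg Matrix.diagonal (funext fun i => ?_))⟩
    show MonoidAlgebra.lift k k _ χ (E (a i)) = _
    rw [hm, MonoidAlgebra.lift_single, one_smul]
    rfl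
  · rw [hstab g]
    refine exists_congr fun e => ?_
    rw [mat_mulVec_repr b, ← Finsupp.coe_smul, ← map_smul, DFunLike.coe_fn_eq, b.repr.injective.eq_iff, Subtype.ext_iff,
      hres]
    rfl

end Groth.Agent.AGF80.Luna
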