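import Groth.Agent.AGF80.Luna.Weights

/-!
A closed cone with two fixed lines: root groups of weights proportional by two fix a common curve of both lines.
-/

set_option autoImplicit false
set_option linter.unusedSectionVars false
set_option linter.style.haveILetI false
set_option backward.isDefEq.respectTransparency.types false

universe u

open Matrix Polynomial

noncomputable section

namespace Groth.Agent.AGF80.Luna

open Comod33 Comod33.Mat Groth.Agent.GMod80 Groth.Agent.AlgGrp79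

variable {k : Type u} [Field k] [IsAlgClosed k] {A : Type u} [CommRing A] [HopfAlgebra k A] {n : ℕ}

/-- Lowering unitriangular matrices for weights. -/
def Low (m : Fin n → ℤ) (M : Matrix (Fin n) (Fin n) k) : Prop :=
  ∀ i l, (m l < m i → M i l = 0) ∧ (m i = m l → M i l = (1 : Matrix (Fin n) (Fin n) k) i l)

theorem Low.mul {m : Fin n → ℤ} {M N : Matrix (Fin n) (Fin n) k} (hM : Low m M) (hN : Low m N) : Low m (M * N) := by
  intro i l
  constructor <;> intro h
  · rw [Matrix.mul_apply]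
    refine Finset.sum_eq_zero fun j _ => ?_
    rcases lt_or_ge (m j) (m i) with hj | hj
    · rw [(hM i j).1 hj, zero_mul]
    · rw [(hN j l).1 (by omega), mul_zero]
  · rw [Matrix.mul_apply, Finset.sum_eq_single i]
    · rw [(hM i i).2 rfl, (hN i l).2 h, Matrix.one_apply_eq, _root_.one_mul]
    · intro j _ hji
      rcases lt_trichotomy (m j) (m i) with hj | hj | hj
      · rw [(hM i j).1 hj, zero_mul]
      · rw [(hM i j).2 hj.symm, Matrix.one_apply_ne hji.symm, zero_mul]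
      · rw [(hN j l).1 (by omega), mul_zero]
    · simp

theorem Low.mulVec {m : Fin n → ℤ} {M : Matrix (Fin n) (Fin n) k} (hM : Low m M) {w : Fin n → k} {ρ : ℤ}
    (hw : ∀ i, w i ≠ 0 → m i = ρ) (i : Fin n) :
    ((M *ᵥ w) i ≠ 0 → m i ≤ ρ) ∧ (m i = ρ → (M *ᵥ w) i = w i) := by
  constructor
  · intro h
    by_contra hlt
    refine h ((Finset.sum_eq_zero fun l _ => ?_) : ∑ l, M i l * w l = 0)
    by_cases hl : w l = 0
    · simp [hl]
    · rw [(hM i l).1 (by rw [hw l hl]; omega), zero_mul]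
  · intro h
    show ∑ l, M i l * w l = w i
    rw [Finset.sum_eq_single i]
    · rw [(hM i i).2 rfl, Matrix.one_apply_eq, _root_.one_mul]
    · intro l _ hl
      by_cases hwl : w l = 0
      · simp [hwl]
      · rw [(hM i l).2 (h.trans (hw l hwl).symm), Matrix.one_apply_ne hl.symm, zero_mul]
    · simp

/-- A curve on which the torus acts by a negative weight is lowering. -/
theorem low_of_curve {c : Fin n → Fin n → A} (hc : IsRep (k := k) c) (L : kˣ → Conn.Pt k A) (m : Fin n → ℤ)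
    (hL : ∀ z : kˣ, mat c (L z) = diagonal fun i => (z : k) ^ m i) (f : k → Conn.Pt k A)
    (P : Fin n → Fin n → k[X]) (hP : ∀ x i l, mat c (f x) i l = (P i l).eval x) (h0 : f 0 = 1) (d : ℕ) (hd : d ≠ 0)
    (hf : ∀ (z : kˣ) (x : k), L z * f x = f (((z : k) ^ d)⁻¹ * x) * L z) (x : k) : Low m (mat c (f x)) := by
  intro i l
  have hcoef : ∀ j, (P i l).coeff j ≠ 0 → m i + (d * j : ℕ) = m l := by
    intro j hj
    refine eq_of_zpow_eq (k := k) fun s hs => ?_
    let z := Units.mk0 s hs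
    have hpoly : Polynomial.C (s ^ m i) * P i l =
        Polynomial.C (s ^ m l) * (P i l).comp (Polynomial.C ((s ^ d)⁻¹) * Polynomial.X) := by
      refine Polynomial.funext fun y => ?_
      have h := congrArg (fun g => mat c g i l) (hf z y)
      simp only [mat_mul hc, hL, Matrix.diagonal_mul, Matrix.mul_diagonal, hP] at h
      simp only [z, Units.val_mk0] at h
      simp only [Polynomial.eval_mul, Polynomial.eval_C, Polynomial.eval_comp, Polynomial.eval_X]
      rw [h, _root_.mul_comm]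
    have h := congrArg (fun p => Polynomial.coeff p j) hpoly
    simp only [Polynomial.coeff_C_mul, Polynomial.comp_C_mul_X_coeff] at h
    rw [_root_.mul_comm ((P i l).coeff j), ← _root_.mul_assoc] at h
    have h' := mul_right_cancel₀ hj h
    rw [zpow_add₀ hs, h', inv_pow, ← pow_mul, zpow_natCast, _root_.mul_assoc, inv_mul_cancel₀ (pow_ne_zero _ hs),
      _root_.mul_one]
  refine ⟨fun hlt => ?_, fun he => ?_⟩
  · rw [hP, show P i l = 0 from Polynomial.ext fun j => by
      rw [Polynomial.coeff_zero]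
      by_contra hj
      have := hcoef j hj
      omega, Polynomial.eval_zero]
  · have hC : P i l = Polynomial.C ((P i l).coeff 0) := Polynomial.ext fun j => by
      rcases j with _ | j
      · rw [Polynomial.coeff_C_zero]
      · rw [Polynomial.coeff_C, if_neg (Nat.succ_ne_zero j)]
        by_contra hj
        have h1 := hcoef _ hj
        have h2 : 0 < d * (j + 1) := Nat.mul_pos (Nat.pos_of_ne_zero hd) (Nat.succ_pos j)
        omega
    rw [← mat_one hc, ← h0, hP, hP, hC, Polynomial.eval_C, Polynomial.eval_C]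

set_option maxHeartbeats 800000 in
/-- Among two commuting lowering curves of weights `d` and `2d` a combination fixes both lines. -/
theorem exists_fixing {c : Fin n → Fin n → A} (hc : IsRep (k := k) c) {v lo hi : Fin n → k} (hcl : ConeClosed c v)
    (hlo : lo ∈ Orb c v) (hhi : hi ∈ Orb c v) (hlo0 : lo ≠ 0) (hhi0 : hi ≠ 0)
    (L : kˣ → Conn.Pt k A) (m : Fin n → ℤ) (hL : ∀ z : kˣ, mat c (L z) = diagonal fun i => (z : k) ^ m i)
    (μ ν : ℤ) (hμ : ∀ i, lo i ≠ 0 → m i = μ) (hν : ∀ i, hi i ≠ 0 → m i = ν) (hμν : μ ≤ ν)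
    (hline : ∀ w ∈ Orb c v, ∀ ρ : ℤ, (∀ i, w i ≠ 0 → m i = ρ) → ∃ s : k, w = s • lo ∨ w = s • hi)
    (f g : k → Conn.Pt k A) (P Q : Fin n → Fin n → k[X]) (hP : ∀ x i l, mat c (f x) i l = (P i l).eval x)
    (hQ : ∀ x i l, mat c (g x) i l = (Q i l).eval x)
    (hfa : ∀ x y, f (x + y) = f x * f y) (hga : ∀ x y, g (x + y) = g x * g y) (hfg : ∀ x y, f x * g y = g y * f x)
    (d : ℕ) (hd : d ≠ 0) (hf : ∀ (z : kˣ) (x : k), L z * f x = f (((z : k) ^ d)⁻¹ * x) * L z)
    (hg : ∀ (z : kˣ) (x : k), L z * g x = g (((z : k) ^ (2 * d))⁻¹ * x) * L z) :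
    (∀ y, mat c (g y) *ᵥ lo = lo ∧ mat c (g y) *ᵥ hi = hi) ∨
      ∃ e : k, 2 * e = 0 ∧ ∀ x, mat c (f x * g (e * x ^ 2)) *ᵥ lo = lo ∧ mat c (f x * g (e * x ^ 2)) *ᵥ hi = hi := by
  classical
  have hf0 : f 0 = 1 := by simpa using hfa 0 0
  have hg0 : g 0 = 1 := by simpa using hga 0 0
  have hlow : ∀ x y, Low m (mat c (f x * g y)) := fun x y => by
    rw [mat_mul hc]
    exact (low_of_curve hc L m hL f P hP hf0 d hd hf x).mul
      (low_of_curve hc L m hL g Q hQ hg0 (2 * d) (by omega) hg y)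
  -- the extremal component
  have hext : ∀ w ∈ Orb c v, w ≠ 0 → ∃ ρ, (∀ i, w i ≠ 0 → ρ ≤ m i) ∧
      ∃ s : k, s ≠ 0 ∧ ((fun i => if m i = ρ then w i else 0) = s • lo ∧ ρ = μ ∨
        (fun i => if m i = ρ then w i else 0) = s • hi ∧ ρ = ν) := by
    intro w hw hw0
    obtain ⟨i, hi', hmin⟩ := (Finset.univ.filter fun i => w i ≠ 0).exists_min_image m (by
      obtain ⟨i, hi⟩ := Function.ne_iff.1 hw0
      exact ⟨i, by simpa using hi⟩)
    have hi'' : w i ≠ 0 := by simpa using hi'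
    have hb : ∀ l, w l ≠ 0 → m i ≤ m l := fun l hl => hmin l (by simpa using hl)
    let w' : Fin n → k := fun l => if m l = m i then w l else 0
    have hw'c : ∀ l, w' l ≠ 0 → m l = m i := fun l hl => by
      by_contra h; exact hl (if_neg h)
    have hw' : w' ∈ Orb c v := limit_mem hc hcl m (fun s hs => ⟨L (Units.mk0 s hs), hL _⟩) hw (m i) hb
    have hw'i : w' i = w i := if_pos rfl
    obtain ⟨s, hs | hs⟩ := hline w' hw' (m i) hw'c
    all_goals
      have e := congrFun hs i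
      rw [hw'i, Pi.smul_apply, smul_eq_mul] at e
      have hs0 : s ≠ 0 := fun h => hi'' (by rw [e, h, zero_mul])
    · exact ⟨m i, hb, s, hs0, Or.inl ⟨hs, hμ i fun h => hi'' (by rw [e, h, mul_zero])⟩⟩
    · exact ⟨m i, hb, s, hs0, Or.inr ⟨hs, hν i fun h => hi'' (by rw [e, h, mul_zero])⟩⟩
  have hfixed : ∀ (M : Conn.Pt k A), Low m (mat c M) → ∀ (w : Fin n → k) (ρ : ℤ), w ∈ Orb c v →
      (∀ i, w i ≠ 0 → m i = ρ) → (∀ i, (mat c M *ᵥ w) i ≠ 0 → ρ ≤ m i) → mat c M *ᵥ w = w := by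
    intro M hM w ρ _ hwc hge
    funext i
    by_cases hi : m i = ρ
    · exact (hM.mulVec hwc i).2 hi
    · by_contra hne
      have hwi : w i = 0 := by by_contra h; exact hi (hwc i h)
      rw [hwi] at hne
      exact hi (le_antisymm ((hM.mulVec hwc i).1 hne) (hge i hne))
  have hne : ∀ (M : Conn.Pt k A) {w : Fin n → k}, w ≠ 0 → mat c M *ᵥ w ≠ 0 := fun M w hw h => hw (by
    have := congrArg (mat c M⁻¹ *ᵥ ·) h
    simpa [Matrix.mulVec_mulVec, ← mat_mul hc, mat_one hc] using this)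
  have hlofix : ∀ x y, mat c (f x * g y) *ᵥ lo = lo := fun x y => by
    refine hfixed _ (hlow x y) lo μ hlo hμ fun i hi' => ?_
    obtain ⟨ρ, hρ, s, -, h⟩ := hext _ (mat_mem_orb hc hlo _) (hne _ hlo0)
    have := hρ i hi'
    rcases h with ⟨-, h2⟩ | ⟨-, h2⟩ <;> omega
  rcases eq_or_lt_of_le hμν with hμν' | hμν'
  · subst hμν'
    refine Or.inl fun y => ⟨by simpa [hf0] using hlofix 0 y, ?_⟩
    refine hfixed _ (by simpa [hf0] using hlow 0 y) hi μ hhi hν fun i hi' => ?_
    obtain ⟨ρ, hρ, s, -, h⟩ := hext _ (mat_mem_orb hc hhi _) (hne _ hhi0)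
    have := hρ i hi'
    rcases h with ⟨-, h2⟩ | ⟨-, h2⟩ <;> omega
  obtain ⟨i₀, hi₀⟩ := Function.ne_iff.1 hlo0
  have hi₀μ : m i₀ = μ := hμ i₀ hi₀
  have hhii₀ : hi i₀ = 0 := by
    by_contra h
    exact hμν'.ne (hi₀μ.symm.trans (hν i₀ h))
  let F : k → k → k := fun x y => (mat c (f x * g y) *ᵥ hi) i₀
  have hzero : ∀ x y, F x y = 0 → mat c (f x * g y) *ᵥ hi = hi := fun x y h => by
    refine hfixed _ (hlow x y) hi ν hhi hν fun i hi' => ?_
    obtain ⟨ρ, hρ, s, hs, hor⟩ := hext _ (mat_mem_orb hc hhi _) (hne _ hhi0)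
    rcases hor with ⟨h1, h2⟩ | ⟨-, h2⟩
    · have := congrFun h1 i₀
      rw [if_pos (hi₀μ.trans h2.symm), Pi.smul_apply, smul_eq_mul] at this
      exact absurd ((this.symm.trans h)) (mul_ne_zero hs hi₀)
    · exact h2 ▸ hρ i hi'
  have hscale : ∀ (z : kˣ) x y, F x y = 0 → F (((z : k) ^ d)⁻¹ * x) (((z : k) ^ (2 * d))⁻¹ * y) = 0 := by
    intro z x y h
    have e : f (((z : k) ^ d)⁻¹ * x) * g (((z : k) ^ (2 * d))⁻¹ * y) = L z * (f x * g y) * (L z)⁻¹ := by
      rw [← _root_.mul_assoc, hf, _root_.mul_assoc (f _) (L z), hg, ← _root_.mul_assoc, mul_inv_cancel_right]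
    have hinv : mat c (L z)⁻¹ *ᵥ hi = ((z : k) ^ ν)⁻¹ • hi := by
      have e1 : mat c (L z) *ᵥ hi = ((z : k) ^ ν) • hi := funext fun i => by
        rw [hL, mulVec_diagonal, Pi.smul_apply, smul_eq_mul]
        by_cases hi' : hi i = 0
        · simp [hi']
        · rw [hν i hi']
      have e2 := congrArg (mat c (L z)⁻¹ *ᵥ ·) e1
      simp only [Matrix.mulVec_smul, Matrix.mulVec_mulVec, ← mat_mul hc, inv_mul_cancel, mat_one hc,
        Matrix.one_mulVec] at e2
      conv_rhs => rw [e2]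
      rw [inv_smul_smul₀ (zpow_ne_zero _ z.ne_zero)]
    show (mat c _ *ᵥ hi) i₀ = 0
    rw [e, mat_mul hc, ← Matrix.mulVec_mulVec, hinv, Matrix.mulVec_smul, mat_mul hc (L z), ← Matrix.mulVec_mulVec, hL,
      Pi.smul_apply, mulVec_diagonal]
    show _ • (_ * F x y) = 0
    rw [h, mul_zero, smul_zero]
  have hpol : ∀ x, ∃ q : k[X], ∀ y, q.eval y = F x y := fun x =>
    ⟨∑ l, ∑ r, Polynomial.C ((P i₀ l).eval x * hi r) * Q l r, fun y => by
      show _ = (mat c (f x * g y) *ᵥ hi) i₀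
      rw [mat_mul hc, ← Matrix.mulVec_mulVec]
      simp only [Polynomial.eval_finsetSum, Polynomial.eval_mul, Polynomial.eval_C, Matrix.mulVec, dotProduct, hP, hQ,
        Finset.mul_sum]
      exact Finset.sum_congr rfl fun l _ => Finset.sum_congr rfl fun r _ => by ring⟩
  have hpol' : ∀ y, ∃ q : k[X], ∀ x, q.eval x = F x y := fun y =>
    ⟨∑ l, ∑ r, Polynomial.C ((Q l r).eval y * hi r) * P i₀ l, fun x => by
      show _ = (mat c (f x * g y) *ᵥ hi) i₀
      rw [mat_mul hc, ← Matrix.mulVec_mulVec]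
      simp only [Polynomial.eval_finsetSum, Polynomial.eval_mul, Polynomial.eval_C, Matrix.mulVec, dotProduct, hP, hQ,
        Finset.mul_sum]
      exact Finset.sum_congr rfl fun l _ => Finset.sum_congr rfl fun r _ => by ring⟩
  obtain ⟨x₀, y₀, hne0, h00⟩ : ∃ x₀ y₀, (x₀ ≠ 0 ∨ y₀ ≠ 0) ∧ F x₀ y₀ = 0 := by
    by_contra hcon
    push Not at hcon
    obtain ⟨q1, hq1⟩ := hpol' 1
    obtain ⟨q0, hq0⟩ := hpol' 0
    have hq : q1 - q0 = 0 := by
      refine Polynomial.eq_zero_of_infinite_isRoot _ (Set.Infinite.mono ?_ (Set.finite_singleton (0 : k)).infinite_compl)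
      intro x hx
      have hx0 : x ≠ 0 := hx
      obtain ⟨q, hq⟩ := hpol x
      have hdeg : q.degree ≤ 0 := by
        by_contra hdq
        obtain ⟨y, hy⟩ := IsAlgClosed.exists_root q (fun h => hdq h.le)
        exact hcon x y (Or.inl hx0) (by rw [← hq]; exact hy)
      rw [Polynomial.degree_le_zero_iff] at hdeg
      show Polynomial.eval x (q1 - q0) = 0
      rw [Polynomial.eval_sub, hq1, hq0, ← hq, ← hq, hdeg, Polynomial.eval_C, Polynomial.eval_C, sub_self]
    have := congrArg (Polynomial.eval (0 : k)) hq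
    rw [Polynomial.eval_sub, hq1, hq0, Polynomial.eval_zero, sub_eq_zero] at this
    refine hcon 0 1 (Or.inr one_ne_zero) (this.trans ?_)
    show (mat c (f 0 * g 0) *ᵥ hi) i₀ = 0
    rw [hf0, hg0, _root_.one_mul, mat_one hc, Matrix.one_mulVec, hhii₀]
  by_cases hx₀ : x₀ = 0
  · subst hx₀
    have hy₀ : y₀ ≠ 0 := hne0.resolve_left fun h => h rfl
    refine Or.inl fun y => ⟨by simpa [hf0] using hlofix 0 y, ?_⟩
    by_cases hy : y = 0
    · rw [hy, hg0, mat_one hc, Matrix.one_mulVec]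
    obtain ⟨z, hz⟩ := IsAlgClosed.exists_pow_nat_eq (y₀ / y) (Nat.pos_of_ne_zero (n := 2 * d) (by omega))
    have hz0 : z ≠ 0 := fun h => by
      rw [h, zero_pow (by omega)] at hz
      exact div_ne_zero hy₀ hy hz.symm
    have h := hzero _ _ (hscale (Units.mk0 z hz0) 0 y₀ h00)
    rwa [Units.val_mk0, mul_zero, hf0, _root_.one_mul, hz, inv_div, div_mul_cancel₀ _ hy₀] at h
  · have hall : ∀ x, mat c (f x * g (y₀ / x₀ ^ 2 * x ^ 2)) *ᵥ hi = hi := fun x => by
      by_cases hx : x = 0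
      · rw [hx, hf0, zero_pow (by norm_num), mul_zero, hg0, _root_.mul_one, mat_one hc, Matrix.one_mulVec]
      obtain ⟨z, hz⟩ := IsAlgClosed.exists_pow_nat_eq (x₀ / x) (Nat.pos_of_ne_zero hd)
      have hz0 : z ≠ 0 := fun h => by
        rw [h, zero_pow hd] at hz
        exact div_ne_zero hx₀ hx hz.symm
      have h := hzero _ _ (hscale (Units.mk0 z hz0) x₀ y₀ h00)
      rw [Units.val_mk0, _root_.mul_comm 2 d, pow_mul, hz] at h
      rwa [inv_div, div_mul_cancel₀ _ hx₀, show ((x₀ / x) ^ 2)⁻¹ * y₀ = y₀ / x₀ ^ 2 * x ^ 2 by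
        field_simp] at h
    by_cases he : 2 * (y₀ / x₀ ^ 2) = 0
    · exact Or.inr ⟨_, he, fun x => ⟨hlofix _ _, hall x⟩⟩
    refine Or.inl fun y => ⟨by simpa [hf0] using hlofix 0 y, ?_⟩
    set e := y₀ / x₀ ^ 2
    let x' : k := -y / (2 * e)
    have hy : y = -(2 * e) * x' := by
      simp only [x']
      rw [neg_mul, neg_div, mul_neg, neg_neg, mul_div_cancel₀ _ he]
    have hgi : ∀ a, (g a)⁻¹ = g (-a) := fun a => inv_eq_of_mul_eq_one_right (by rw [← hga, add_neg_cancel, hg0])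
    have key : f (1 + x') * g (e * (1 + x') ^ 2) * g y = (f 1 * g (e * 1 ^ 2)) * (f x' * g (e * x' ^ 2)) := by
      rw [hfa, _root_.mul_assoc, _root_.mul_assoc, _root_.mul_assoc]
      refine congrArg _ ?_
      rw [← _root_.mul_assoc (g (e * 1 ^ 2)), ← hfg, _root_.mul_assoc, ← hga, ← hga]
      congr 2
      rw [hy]
      ring
    have h1 := hall (1 + x')
    have h3 : mat c (f (1 + x') * g (e * (1 + x') ^ 2) * g y) *ᵥ hi = hi := by
      rw [key, mat_mul hc, ← Matrix.mulVec_mulVec, hall x', hall 1]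
    rw [mat_mul hc, ← Matrix.mulVec_mulVec] at h3
    have h4 := congrArg (mat c (f (1 + x') * g (e * (1 + x') ^ 2))⁻¹ *ᵥ ·) (h3.trans h1.symm)
    simpa only [Matrix.mulVec_mulVec, ← mat_mul hc, inv_mul_cancel_left, inv_mul_cancel, mat_one hc,
      Matrix.one_mulVec] using h4

end Groth.Agent.AGF80.Luna
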