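import Groth.Agent.AGF80.Luna.RootLine
import Groth.Agent.AGF80.Luna.TwoLines
import Groth.Agent.AGF80.Luna.CurvePt
import Groth.Agent.AGF80.Luna.Setup
import Groth.Agent.AGF80.Luna.CentRad
import Groth.Agent.AGF80.Luna.ImageUnip
import Groth.Agent.AGF80.Luna.Cone
import Groth.Agent.AGF80.BorelCor2
import Groth.Agent.RedPts82.CommVanish
import Groth.Agent.RedPts82.GaNoTorus
import Groth.Agent.RedPts82.SplitNormal
import Groth.Agent.RedPts82.CentDS
import Mathlib.Algebra.DualNumber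

/-!
Over an algebraically closed field no root of a splitting is twice another one.
-/

set_option autoImplicit false
set_option linter.unusedSectionVars false
set_option linter.style.haveILetI false
set_option backward.isDefEq.respectTransparency.types false
set_option synthInstance.maxHeartbeats 200000

universe u

open CategoryTheory MonoidalCategory CartesianMonoidalCategory MonObj GrpObj AlgebraicGeometry
open WithConv Matrix
open Groth.Agent.RedPts82 Groth.Agent.RootDat34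

noncomputable section

namespace Groth.Agent.AGF80.Luna

open GMod80 Comod33 Comod33.Mat AlgGrp79

variable {k : Type u} [Field k] [IsAlgClosed k]

local notation "pk" => 𝟙_ (Over (Spec (CommRingCat.of k)))
local notation "Sk" => Spec (CommRingCat.of k)

/-- The additive group over a field is a smooth connected affine group without subtori. -/
theorem ga_facts :
    IsAffine (Red.Ga Sk).left ∧ Smooth (Red.Ga Sk).hom ∧ ConnectedSpace (Red.Ga Sk).left ∧
      Red.HasNoSubtorus k (Red.Ga Sk) := by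
  obtain ⟨hs, hc⟩ := polyGa_base_facts k (Red.Ga Sk) (Iso.refl _)
  haveI : IsAffineHom (Red.Ga Sk).hom := affineHom_ga
  refine ⟨isAffine_of_isAffineHom (Red.Ga Sk).hom, hs, hc, fun T _ j _ _ hT => ?_⟩
  have hid : 𝟙 T = 1 := by
    rw [← cancel_mono j, MonObj.one_comp j, Category.id_comp, torus_hom_Ga_eq_one hT j]
  refine ⟨η[T].left, ?_, Over.w η[T]⟩
  have := congrArg CommaMorphism.left hid
  rw [Hom.one_def] at this
  exact this.symm

/-- A monomorphic root homomorphism times a square of another one is nontrivial. -/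
theorem root_mul_sq_ne_one {G : Over Sk} [GrpObj G] (u₁ u₂ : Red.Ga Sk ⟶ G) [IsMonHom u₁] [IsMonHom u₂] [Mono u₁]
    (b : k) (h : ∀ (X : Over Sk) (x : X ⟶ Red.Ga Sk),
      (x ≫ u₁) * (gaPt (cst X ((Scheme.ΓSpecIso (CommRingCat.of k)).inv b) * Red.gaFn x ^ 2) ≫ u₂) = 1) : False := by
  let X : Over Sk := VecGrp.pt k (DualNumber k)
  let ε : Γ(X.left, ⊤) := (Scheme.ΓSpecIso (CommRingCat.of (DualNumber k))).inv DualNumber.eps
  have hε : ε ^ 2 = 0 := by
    rw [pow_two, ← map_mul, DualNumber.eps_mul_eps, map_zero]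
  have h0 : gaPt (S := Sk) (X := X) 0 = 1 := gaFn_injective (by rw [gaFn_gaPt, gaFn_one])
  have := h X (gaPt ε)
  rw [gaFn_gaPt, hε, mul_zero, h0, MonObj.one_comp, _root_.mul_one] at this
  have e : gaPt (S := Sk) (X := X) ε = 1 := by rw [← cancel_mono u₁, this, MonObj.one_comp]
  have e2 := congrArg Red.gaFn e
  rw [gaFn_gaPt, gaFn_one] at e2
  have e3 : (DualNumber.eps : DualNumber k) = 0 :=
    (ConcreteCategory.bijective_of_isIso (Scheme.ΓSpecIso (CommRingCat.of (DualNumber k))).inv).1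
      (e2.trans (map_zero _).symm)
  exact one_ne_zero (α := k) (by simpa using congrArg TrivSqZeroExt.snd e3)

theorem appTop_cst {X X' : Over Sk} (h : X' ⟶ X) (b : Γ(Sk, ⊤)) : h.left.appTop (cst X b) = cst X' b := by
  rw [show h.left.appTop (cst X b) = (h.left ≫ X.hom).appTop b by rw [Scheme.Hom.comp_appTop]; rfl, Over.w h]

/-- The curve made of a line and the square of another one. -/
def sqCurve {C : Over (Spec (CommRingCat.of k))} [GrpObj C] (u₁ u₂ : Red.Ga Sk ⟶ C) (b : k) : Red.Ga Sk ⟶ C :=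
  u₁ * (gaPt (cst (Red.Ga Sk) ((Scheme.ΓSpecIso (CommRingCat.of k)).inv b) * Red.gaFn (𝟙 (Red.Ga Sk)) ^ 2) ≫ u₂)

theorem comp_sqCurve {C : Over (Spec (CommRingCat.of k))} [GrpObj C] (u₁ u₂ : Red.Ga Sk ⟶ C) (b : k) {X : Over Sk}
    (x : X ⟶ Red.Ga Sk) :
    x ≫ sqCurve u₁ u₂ b =
      (x ≫ u₁) * (gaPt (cst X ((Scheme.ΓSpecIso (CommRingCat.of k)).inv b) * Red.gaFn x ^ 2) ≫ u₂) := by
  simp only [sqCurve, MonObj.comp_mul]
  rw [← Category.assoc, comp_gaPt, map_mul, map_pow, ← gaFn_comp, Category.comp_id, appTop_cst]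

theorem isMonHom_sqCurve {C : Over (Spec (CommRingCat.of k))} [GrpObj C] (u₁ u₂ : Red.Ga Sk ⟶ C) [IsMonHom u₁]
    [IsMonHom u₂] (hcomm : ∀ {X : Over Sk} (x y : X ⟶ Red.Ga Sk), (x ≫ u₁) * (y ≫ u₂) = (y ≫ u₂) * (x ≫ u₁))
    (b : k) (hb : 2 * b = 0) : IsMonHom (sqCurve u₁ u₂ b) := by
  refine isMonHom_of_points (G := Red.Ga Sk) (H := C) _ fun X x y => ?_
  rw [comp_sqCurve, comp_sqCurve, comp_sqCurve]
  set cc := cst X ((Scheme.ΓSpecIso (CommRingCat.of k)).inv b) with hcc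
  have h2 : cc * 2 = 0 := by
    rw [hcc, show (2 : Γ(X.left, ⊤)) = RedPts82.cst X 2 from (map_ofNat (X.hom.appTop.hom) 2).symm, ← map_mul,
      show (2 : Γ(Sk, ⊤)) = (Scheme.ΓSpecIso (CommRingCat.of k)).inv (2 : k) from (map_ofNat _ 2).symm,
      ← map_mul, _root_.mul_comm b, hb, map_zero]
    exact map_zero _
  have e1 : cc * Red.gaFn (x * y) ^ 2 = cc * Red.gaFn x ^ 2 + cc * Red.gaFn y ^ 2 := by
    rw [gaFn_mul]
    linear_combination Red.gaFn x * Red.gaFn y * h2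
  rw [e1, gaPt_add, MonObj.mul_comp _ _ u₂, MonObj.mul_comp x y u₁]
  calc _ = (x ≫ u₁) * ((y ≫ u₁) * (gaPt (cc * Red.gaFn x ^ 2) ≫ u₂)) * (gaPt (cc * Red.gaFn y ^ 2) ≫ u₂) := by
        group
    _ = _ := by rw [hcomm]; group

variable {G : Over (Spec (CommRingCat.of k))} [GrpObj G] (D : Red.SplitRed G)

set_option maxHeartbeats 3200000 in
/-- No root is twice another root. -/
theorem not_double (a a' : D.idx) (hd2 : D.P.root a' = (2 : ℤ) • D.P.root a) : False := by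
  classical
  -- the ambient group
  have hGr : Red.IsReductiveOver k G := isReductiveOver_of D.reductive
  obtain ⟨hGa, hGs, hGc, hGU⟩ := id hGr
  haveI := hGa
  haveI := hGs
  haveI := hGc
  have hT0 : AGF.IsMaxTorus D.i := isMaxTorus_of D.maximalTorus
  obtain ⟨hTm, hTmono, hTt, -⟩ := id hT0
  haveI := hTm
  haveI := hTmono
  haveI := Roots36.isAddTorsionFree_M D.P
  -- the line of the root
  obtain ⟨a₀, d, lam, r, q, sec, hd, hαd, hlam, hq, hqs, hdec⟩ := exists_line (D.P.ne_zero a)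
  have hqa : q (D.P.root a) = 0 := by rw [hαd, map_nsmul, hq, nsmul_zero]
  have hqa' : q (D.P.root a') = 0 := by rw [hd2, map_zsmul, hqa, zsmul_zero]
  -- the subtorus and its centralizer
  haveI : IsMonHom (Red.DSmap Sk q) := isMonHom_DSmap _
  haveI : Mono (Red.DSmap Sk q) := mono_DSmap q hqs
  haveI hinvM : IsMonHom D.split.inv.hom.hom := D.split.inv.hom.isMonHom_hom
  haveI : IsIso D.split.inv.hom.hom := ⟨D.split.hom.hom.hom, congrArg (fun f => f.hom.hom) D.split.inv_hom_id,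
    congrArg (fun f => f.hom.hom) D.split.hom_inv_id⟩
  let iS : Red.DS Sk (Fin r → ℤ) ⟶ G := Red.DSmap Sk q ≫ D.split.inv.hom.hom ≫ D.i
  haveI : IsMonHom iS := inferInstance
  haveI : Mono (D.split.inv.hom.hom ≫ D.i) := mono_comp _ _
  haveI : Mono iS := mono_comp _ _
  have hiS : ∀ {X : Over Sk} (s : X ⟶ Red.DS Sk (Fin r → ℤ)), s ≫ iS = tpt D (s ≫ Red.DSmap Sk q) := fun s => by
    simp only [iS, tpt, Category.assoc]
  have hSt : Red.IsTorus (Red.DS Sk (Fin r → ℤ)) := isTorus_DS_free _ r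
  obtain ⟨C, _, c, hcm, hccl, hcmono, hcZ⟩ := exists_centralizer_DS D.reductive.1 iS
  haveI := hcm
  haveI := hccl
  haveI := hcmono
  have hc : Red.IsCentralizerOf iS c := ⟨hcm, hcmono, fun X g => hcZ X g⟩
  obtain ⟨hCs, -, hCc⟩ := CentTorus.centralizer_props G iS hSt c hc
  haveI := hCs
  haveI := hCc
  haveI hCa : IsAffine C.left := isAffine_of_isAffineHom c.left
  -- the torus
  obtain ⟨tC, htC⟩ := (hcZ _ D.i).2 fun X x s => by
    rw [hiS, i_eq_tpt]; exact tpt_comm _ _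
  haveI := BorelCor.isMonHom_factor tC c D.i htC
  have hTC : AGF.IsMaxTorus tC := BorelCor.isMaxTorus_of_factor hT0 c tC htC
  haveI : Mono tC := hTC.2.1
  obtain ⟨hTs, _, hTa, _, hTc⟩ := AlgGrp33.IsogSub.torus_props hTt
  haveI := hTs
  haveI := hTa
  -- the root groups
  have huC : ∀ b : D.idx, q (D.P.root b) = 0 → ∃ v : Red.Ga Sk ⟶ C, v ≫ c = D.u b := fun b hb =>
    (hcZ _ (D.u b)).2 fun X x s => by
      have e := tpt_conj_rp (D := D) (s ≫ Red.DSmap Sk q) b (Red.gaFn x)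
      rw [dsFn_DSmap, hb, dsFn_zero, _root_.one_mul] at e
      rw [hiS, show x ≫ D.u b = rp D b (Red.gaFn x) by rw [rp, gaPt_gaFn]]
      exact (mul_inv_eq_iff_eq_mul.1 e).symm
  let b₁ := negIdx D a
  let b₂ := negIdx D a'
  have hb₁ : D.P.root b₁ = -D.P.root a := root_negIdx a
  have hb₂ : D.P.root b₂ = -((2 : ℤ) • D.P.root a) := by rw [← hd2]; exact root_negIdx a'
  obtain ⟨u₁, hu₁⟩ := huC b₁ (by rw [hb₁, map_neg, hqa, neg_zero])
  obtain ⟨u₂, hu₂⟩ := huC b₂ (by rw [hb₂, ← hd2, map_neg, hqa', neg_zero])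
  haveI := (D.rootHom b₁).1
  haveI := (D.rootHom b₂).1
  haveI := BorelCor.isMonHom_factor u₁ c (D.u b₁) hu₁
  haveI := BorelCor.isMonHom_factor u₂ c (D.u b₂) hu₂
  haveI : IsClosedImmersion (D.u b₁).left := (D.rootHom b₁).2.1
  haveI : Mono (u₁ ≫ c) := by rw [hu₁]; exact Over.mono_of_mono_left _
  haveI : Mono u₁ := mono_of_mono u₁ c
  have hcomm : ∀ {X : Over Sk} (x y : X ⟶ Red.Ga Sk), (x ≫ u₁) * (y ≫ u₂) = (y ≫ u₂) * (x ≫ u₁) := fun x y => by
    rw [← cancel_mono c, MonObj.mul_comp _ _ c, MonObj.mul_comp _ _ c, Category.assoc, Category.assoc, hu₁, hu₂]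
    have e3 : D.P.root b₁ + D.P.root b₂ = (-3 : ℤ) • D.P.root a := by rw [hb₁, hb₂]; module
    refine root_comm D b₁ b₂ ?_ ?_ x y
    · rw [e3]
      exact fun h => D.P.ne_zero a ((smul_eq_zero.1 h).resolve_left (by norm_num))
    · rintro ⟨b, hb⟩
      have key : ∀ n : ℤ, D.P.root b = n • D.P.root a → n = -3 := fun n hn => by
        rw [hb, e3] at hn
        exact (smul_left_injective ℤ (D.P.ne_zero a) hn).symm
      have hdep : ¬ LinearIndependent ℤ ![D.P.root a, D.P.root b] := by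
        rw [LinearIndependent.pair_iff]
        push Not
        exact ⟨3, 1, by rw [hb, e3]; module, fun h => absurd h (by norm_num)⟩
      rcases Roots36.proportional_cases hdep with h | h | h | h | h | h
      · exact absurd (key 1 (by rw [h, one_smul])) (by norm_num)
      · exact absurd (key (-1) (by rw [h]; module)) (by norm_num)
      · exact absurd (key 2 h) (by norm_num)
      · exact absurd (key (-2) h) (by norm_num)
      · rw [hb, e3, smul_smul] at h
        exact absurd (smul_left_injective ℤ (D.P.ne_zero a) (((one_smul ℤ _).trans h))) (by norm_num)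
      · rw [hb, e3, smul_smul] at h
        exact absurd (smul_left_injective ℤ (D.P.ne_zero a) (((one_smul ℤ _).trans h))) (by norm_num)
  -- the reflection
  obtain ⟨n₀, hn₀⟩ := exists_conj_refl D a
  have hρq : ∀ m, q (D.P.reflection a m) = q m := fun m => by
    rw [D.P.reflection_apply, map_sub, map_zsmul, hqa, smul_zero, sub_zero]
  obtain ⟨n₀C, hn₀C⟩ := (hcZ _ n₀).2 fun X x s => by
    rw [hiS, show x ≫ n₀ = np n₀ X from congrArg (· ≫ n₀) (toUnit_unique x (toUnit X))]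
    refine mul_inv_eq_iff_eq_mul.1 ((hn₀ X _).trans ?_)
    rw [Category.assoc, comp_DSmap_DSmap, show q.comp (D.P.reflection a).toLinearMap.toAddMonoidHom = q from
      AddMonoidHom.ext hρq]
  -- Borel and representation
  haveI : IsClosedImmersion tC.left := BorelCor.isClosedImmersion_torus C hTt tC
  obtain ⟨B, _, iB, tB, hB, htB⟩ := BorelCor.exists_borel_ge C tC (BorelCor.isSolvableGrp_torus hTt)
  obtain ⟨_, _, _, _, hsB, -⟩ := id hB
  haveI : IsAffine B.left := isAffine_of_isAffineHom iB.left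
  obtain ⟨A, _, _, ψ, _⟩ := exists_coord C
  obtain ⟨A', _, _, ψB, _⟩ := exists_coord B
  obtain ⟨Dc, _, _, ψT, _⟩ := exists_coord D.T
  haveI : Algebra.FiniteType k A := GMod80.finiteType ψ
  haveI : Algebra.FiniteType k Dc := GMod80.finiteType ψT
  haveI : IsDomain Dc := by
    haveI := Hopf35.TorDom.isDomain_tensor ψT hTt k
    exact (Algebra.TensorProduct.lid k Dc).symm.toMulEquiv.isDomain _
  have hD : HopfRep.IsDiagonalizable k Dc := by
    obtain ⟨hco, hprim⟩ := (Groth.Agent.S7979.result k Dc).1 (AlgGrp33.isDiagonalizable_of_isTorus ψT hTt)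
    haveI := hco
    exact Comod33.Diag.isDiagonalizable_of_no_prim fun x hx => hprim x hx
  haveI : IsReduced C.left := isReduced_of_smooth C.hom
  haveI : _root_.IsReduced A := isReduced_of_injective (fn ψ).toRingHom (fn ψ).injective
  let φB := pullBialg ψ ψB iB
  let τ := pullBialg ψ ψT tC
  obtain ⟨N, cc, v, ℓ, hcc, hv, hspan, hdiag, hstab⟩ := exists_rep hD φB (pull_surjective ψ ψB iB) τ
  have hstab' : ∀ g : Conn.Pt k A, (∃ b : pk ⟶ B, b ≫ iB = ToriConj.ev ψ g) ↔ ∃ s : k, mat cc g *ᵥ v = s • v := by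
    intro g
    rw [← hstab g]
    constructor
    · rintro ⟨b, hb⟩
      obtain ⟨h, rfl⟩ := ToriConj.ev_surjective ψB b
      exact ⟨h, ToriConj.ev_injective ψ ((CentTorus.ev_comp ψ ψB iB h).symm.trans hb)⟩
    · rintro ⟨h, rfl⟩
      exact ⟨_, CentTorus.ev_comp ψ ψB iB h⟩
  have hTB : ∀ g : Conn.Pt k A, (∃ s, s ≫ tC = ToriConj.ev ψ g) → ∃ b : pk ⟶ B, b ≫ iB = ToriConj.ev ψ g := by
    rintro g ⟨s, hs⟩
    exact ⟨s ≫ tB, by rw [Category.assoc, htB, hs]⟩
  have hdiagT : ∀ g : Conn.Pt k A, (∃ s, s ≫ tC = ToriConj.ev ψ g) → ∃ δ : Fin (N + 1) → k, mat cc g = diagonal δ := by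
    rintro g ⟨s, hs⟩
    obtain ⟨h, rfl⟩ := ToriConj.ev_surjective ψT s
    obtain ⟨δ, hδ, -⟩ := hdiag.diag g ⟨h, ToriConj.ev_injective ψ ((CentTorus.ev_comp ψ ψT tC h).symm.trans hs)⟩
    exact ⟨δ, hδ⟩
  have hcl : ConeClosed cc v := coneClosed ψ iB hB hcc hv fun g hg => (hstab' g).1 hg
  -- the cocharacter
  haveI : IsMonHom (Red.DSmap Sk lam) := isMonHom_DSmap _
  let nu : Red.Gm Sk ⟶ C := Red.DSmap Sk lam ≫ D.split.inv.hom.hom ≫ tC
  have hnu : ∀ {X : Over Sk} (z : X ⟶ Red.Gm Sk), z ≫ nu ≫ c = tpt D (z ≫ Red.DSmap Sk lam) := fun z => by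
    simp only [nu, tpt, Category.assoc, htC]
  haveI : IsMonHom nu := inferInstance
  obtain ⟨L, m, hL, hLm⟩ := exists_weights ψ hcc nu fun g ⟨z, hz⟩ =>
    hdiagT g ⟨z ≫ Red.DSmap Sk lam ≫ D.split.inv.hom.hom, by rw [← hz]; simp only [nu, Category.assoc]⟩
  obtain ⟨f, P, hf, hP⟩ := exists_poly_pts ψ cc u₁
  obtain ⟨g₂, Q, hg₂, hQ⟩ := exists_poly_pts ψ cc u₂
  have hscal : ∀ (z : kˣ) (e : ℕ), dsFn (gmPt (Units.map (scal (k := k)).toMonoidHom z) ≫ Red.DSmap Sk lam)
      (-((e : ℤ) • a₀)) = scal (((z : k) ^ e)⁻¹) := by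
    intro z e
    rw [dsFn_DSmap, map_neg, map_zsmul, hlam, smul_eq_mul, _root_.mul_one, dsFn_int,
      show gmU (gmPt (Units.map (scal (k := k)).toMonoidHom z)) = Units.map (scal (k := k)).toMonoidHom z from
        Units.ext (gmFn_gmPt _), _root_.zpow_neg, _root_.zpow_natCast, ← map_pow, ← map_inv, Units.coe_map,
      Units.val_inv_eq_inv_val, Units.val_pow_eq_pow_val]
    rfl
  have hrel : ∀ (b : D.idx) (u : Red.Ga Sk ⟶ C) (h : k → Conn.Pt k A) (e : ℕ),
      u ≫ c = D.u b → (∀ x, ToriConj.ev ψ (h x) = gaPt (scal x) ≫ u) → D.P.root b = -((e : ℤ) • a₀) →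
      ∀ (z : kˣ) (x : k), L z * h x = h (((z : k) ^ e)⁻¹ * x) * L z := by
    intro b u h e hu hh hroot z x
    refine ToriConj.ev_injective ψ ?_
    have e1 : ∀ z' : pk ⟶ Red.Gm Sk, (z' ≫ nu) ≫ c = tpt D (z' ≫ Red.DSmap Sk lam) := fun z' =>
      (Category.assoc _ _ _).trans (hnu z')
    have e2 : ∀ y : pk ⟶ Red.Ga Sk, (y ≫ u) ≫ c = y ≫ D.u b := fun y => by rw [Category.assoc, hu]
    rw [map_mul, map_mul, hL, hh, hh, ← cancel_mono c, MonObj.mul_comp _ _ c, MonObj.mul_comp _ _ c, e2, e2, e1]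
    refine mul_inv_eq_iff_eq_mul.1 ((tpt_conj_rp (D := D) _ b _).trans ?_)
    rw [hroot, hscal, map_mul]
  have hadd : ∀ (u : Red.Ga Sk ⟶ C) [IsMonHom u] (h : k → Conn.Pt k A),
      (∀ x, ToriConj.ev ψ (h x) = gaPt (scal x) ≫ u) → ∀ x y, h (x + y) = h x * h y := by
    intro u _ h hh x y
    refine ToriConj.ev_injective ψ ?_
    rw [map_mul, hh, hh, hh, map_add, gaPt_add, MonObj.mul_comp]
  have hroot₁ : D.P.root b₁ = -((d : ℤ) • a₀) := by rw [hb₁, hαd, natCast_zsmul]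
  have hroot₂ : D.P.root b₂ = -(((2 * d : ℕ) : ℤ) • a₀) := by
    rw [hb₂, hαd, natCast_zsmul, mul_nsmul', ← natCast_zsmul (d • a₀) 2]; rfl
  -- the torus and the weights
  obtain ⟨nn, hnn⟩ := ToriConj.ev_surjective ψ n₀C
  have hSc : ∀ (g : Conn.Pt k A) (s : pk ⟶ Red.DS Sk (Fin r → ℤ)), ToriConj.ev ψ g ≫ c = s ≫ iS →
      ∀ h : Conn.Pt k A, g * h = h * g := by
    intro g s hg h
    refine ToriConj.ev_injective ψ ?_
    rw [map_mul, map_mul, ← cancel_mono c, MonObj.mul_comp _ _ c, MonObj.mul_comp _ _ c, hg]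
    have := (hcZ _ (ToriConj.ev ψ h ≫ c)).1 ⟨_, rfl⟩ pk (𝟙 _) s
    rw [Category.id_comp] at this
    exact this.symm
  have hsplitT : ∀ g : Conn.Pt k A, (∃ s, s ≫ tC = ToriConj.ev ψ g) →
      ∃ (e : k) (z : kˣ), mat cc g = e • diagonal fun i => (z : k) ^ m i := by
    rintro g ⟨s, hs⟩
    let t := s ≫ D.split.hom.hom.hom
    obtain ⟨z₀, hz₀⟩ := scal_bijective.2 (dsFn t a₀)
    have hz0 : z₀ ≠ 0 := fun h => by
      haveI : Nontrivial Γ((pk).left, ⊤) := scal_bijective.1.nontrivial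
      exact (dsFn_isUnit t a₀).ne_zero (by rw [← hz₀, h, map_zero])
    let z := Units.mk0 z₀ hz0
    let w : pk ⟶ Red.DS Sk D.M := gmPt (Units.map (scal (k := k)).toMonoidHom z) ≫ Red.DSmap Sk lam
    let t' : pk ⟶ Red.DS Sk D.M := t * w⁻¹
    have hw : dsFn w a₀ = dsFn t a₀ := by
      rw [dsFn_DSmap, hlam, dsFn_int, zpow_one, show gmU (gmPt (Units.map (scal (k := k)).toMonoidHom z)) =
        Units.map (scal (k := k)).toMonoidHom z from Units.ext (gmFn_gmPt _), ← hz₀]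
      rfl
    have ht'0 : dsFn t' a₀ = 1 := by
      have e := dsFn_mul t' w a₀
      rw [show t' * w = t from inv_mul_cancel_right _ _, hw] at e
      exact ((dsFn_isUnit t a₀).mul_eq_right.1 e.symm)
    let s' := t' ≫ Red.DSmap Sk sec
    have hs' : s' ≫ Red.DSmap Sk q = t' := dsFn_injective fun x => by
      rw [dsFn_DSmap, dsFn_DSmap]
      conv_rhs => rw [hdec x, dsFn_add, dsFn_zsmul, show (dsFn_isUnit t' a₀).unit = 1 from Units.ext ht'0,
        _root_.one_zpow, Units.val_one, _root_.mul_one]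
    obtain ⟨gs, hgs⟩ := ToriConj.ev_surjective ψ (t' ≫ D.split.inv.hom.hom ≫ tC)
    have hgsc : ToriConj.ev ψ gs ≫ c = s' ≫ iS := by
      rw [hgs, hiS, hs', tpt, Category.assoc, Category.assoc, htC]
    have hg : g = gs * L z := by
      refine ToriConj.ev_injective ψ ?_
      rw [map_mul, ← cancel_mono c, MonObj.mul_comp _ _ c, hgsc, hiS, hs', hL, Category.assoc, hnu, ← tpt_mul,
        show t' * (gmPt (Units.map (scal (k := k)).toMonoidHom z) ≫ Red.DSmap Sk lam) = t from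
          inv_mul_cancel_right _ _, ← i_eq_tpt, ← hs, Category.assoc, htC]
    obtain ⟨e, he⟩ := (hstab' gs).1 (hTB gs ⟨t' ≫ D.split.inv.hom.hom, by rw [Category.assoc, ← hgs]⟩)
    have hscalar : mat cc gs = e • (1 : Matrix (Fin (N + 1)) (Fin (N + 1)) k) := by
      ext i l
      have h0 := hspan (fun j => mat cc gs i j - (e • (1 : Matrix (Fin (N + 1)) (Fin (N + 1)) k)) i j) fun h => by
        have h1 : (mat cc gs *ᵥ (mat cc h *ᵥ v)) i = ((e • (1 : Matrix (Fin (N + 1)) (Fin (N + 1)) k)) *ᵥ (mat cc h *ᵥ v)) i := by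
          rw [Matrix.mulVec_mulVec, ← mat_mul hcc, hSc gs s' hgsc h, mat_mul hcc, ← Matrix.mulVec_mulVec, he,
            Matrix.mulVec_smul, Matrix.smul_mulVec, Matrix.one_mulVec]
        simp only [Matrix.mulVec, dotProduct] at h1
        simp only [dotProduct, sub_mul, Finset.sum_sub_distrib, sub_eq_zero, Matrix.mulVec]
        exact h1
      exact sub_eq_zero.1 (congrFun h0 l)
    exact ⟨e, z, by rw [hg, mat_mul hcc, hscalar, hLm, Matrix.smul_mul, Matrix.one_mul]⟩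
  have hclass : ∀ w : Fin (N + 1) → k, w ≠ 0 →
      (∀ g : Conn.Pt k A, (∃ s, s ≫ tC = ToriConj.ev ψ g) → ∃ e : k, mat cc g *ᵥ w = e • w) →
      ∃ wt : ℤ, ∀ i, w i ≠ 0 → m i = wt := by
    intro w hw hTw
    obtain ⟨j, hj⟩ := Function.ne_iff.1 hw
    refine ⟨m j, fun i hi => class_of_eigen m (fun z hz => ?_) hi hj⟩
    obtain ⟨e, he⟩ := hTw (L (Units.mk0 z hz))
      ⟨gmPt (Units.map (scal (k := k)).toMonoidHom (Units.mk0 z hz)) ≫ Red.DSmap Sk lam ≫ D.split.inv.hom.hom,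
        by rw [hL]; simp only [nu, Category.assoc]⟩
    refine ⟨e, fun i => ?_⟩
    have h := congrFun he i
    rw [hLm, mulVec_diagonal, Pi.smul_apply, smul_eq_mul, Units.val_mk0] at h
    rw [_root_.mul_comm]; exact h
  let v' : Fin (N + 1) → k := mat cc nn⁻¹ *ᵥ v
  have hv' : v' ≠ 0 := fun h => hv (by
    have := congrArg (mat cc nn *ᵥ ·) h
    simpa [v', Matrix.mulVec_mulVec, ← mat_mul hcc, mat_one hcc] using this)
  have hn₀T : ∀ s : pk ⟶ D.T, ∃ s' : pk ⟶ D.T, s' ≫ tC = n₀C * (s ≫ tC) * n₀C⁻¹ := fun s => by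
    refine ⟨(s ≫ D.split.hom.hom.hom) ≫ Red.DSmap Sk (D.P.reflection a).toLinearMap.toAddMonoidHom ≫
      D.split.inv.hom.hom, ?_⟩
    rw [← cancel_mono c, MonObj.mul_comp _ _ c, MonObj.mul_comp _ _ c, GrpObj.inv_comp, hn₀C]
    simp only [Category.assoc, htC]
    rw [i_eq_tpt s]
    have := hn₀ pk (s ≫ D.split.hom.hom.hom)
    rw [np, toUnit_unique (toUnit pk) (𝟙 _), Category.id_comp] at this
    rw [this]
    simp only [tpt, Category.assoc]
  obtain ⟨wt₁, hwt₁⟩ := hclass v hv fun g hg => (hstab' g).1 (hTB g hg)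
  obtain ⟨wt₂, hwt₂⟩ := hclass v' hv' fun g ⟨s, hs⟩ => by
    obtain ⟨s', hs'⟩ := hn₀T s
    obtain ⟨e, he⟩ := (hstab' (nn * g * nn⁻¹)).1 (hTB _ ⟨s', by rw [hs', map_mul, map_mul, map_inv, hnn, hs]⟩)
    refine ⟨e, ?_⟩
    have h := congrArg (mat cc nn⁻¹ *ᵥ ·) he
    simp only [Matrix.mulVec_mulVec, ← mat_mul hcc, Matrix.mulVec_smul] at h
    rw [show mat cc g *ᵥ v' = mat cc (g * nn⁻¹) *ᵥ v by rw [mat_mul hcc, ← Matrix.mulVec_mulVec], ← h]
    congr 2
    group
  -- points moving the torus into the Borel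
  obtain ⟨Idx, _, nr, hnr, hrep⟩ := exists_normalizer_reps C hTC hB tB htB
  have hmove : ∀ g : Conn.Pt k A, (∀ s : pk ⟶ D.T, ∃ b : pk ⟶ B, b ≫ iB = (ToriConj.ev ψ g)⁻¹ * (s ≫ tC) * ToriConj.ev ψ g) →
      ∃ e : k, mat cc g *ᵥ v = e • v ∨ mat cc g *ᵥ v = e • v' := by
    intro g hg
    obtain ⟨i, b, hb⟩ := hrep (ToriConj.ev ψ g) hg
    obtain ⟨σ, hσ⟩ := hnr i
    have hnorm : ∀ (X : Over Sk) (t : X ⟶ D.T), ∃ t' : X ⟶ D.T,
        np (nr i ≫ c) X * (t ≫ D.i) * (np (nr i ≫ c) X)⁻¹ = t' ≫ D.i := fun X t => by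
      refine ⟨t ≫ σ.hom, ?_⟩
      have e : t ≫ AGF.conjBy (nr i) tC = (toUnit X ≫ nr i) * (t ≫ tC) * (toUnit X ≫ nr i)⁻¹ := by
        simp only [AGF.conjBy, MonObj.comp_mul, GrpObj.comp_inv, ← Category.assoc,
          toUnit_unique (t ≫ toUnit D.T) (toUnit X)]
      rw [← hσ, ← Category.assoc] at e
      have e' := congrArg (· ≫ c) e
      simp only [MonObj.mul_comp _ _ c, GrpObj.inv_comp, Category.assoc, htC] at e'
      rw [Category.assoc, e']
    obtain ⟨s, hs⟩ := normalizer_line D hd hαd hlam hq hdec n₀ hn₀ (nr i ≫ c) hnorm fun X s => by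
      have := (hcZ _ (nr i ≫ c)).1 ⟨_, rfl⟩ X (toUnit X) s
      rw [hiS] at this
      exact this
    obtain ⟨gs, hgs⟩ := ToriConj.ev_surjective ψ (s ≫ tC)
    obtain ⟨gb, hgb⟩ := ToriConj.ev_surjective ψ (b ≫ iB)
    obtain ⟨e, he⟩ := (hstab' gb).1 ⟨b, hgb.symm⟩
    obtain ⟨e', he'⟩ := (hstab' gs).1 (hTB gs ⟨s, hgs.symm⟩)
    refine ⟨e' * e, ?_⟩
    rcases hs with hs | hs
    · left
      have : g = gs * gb := ToriConj.ev_injective ψ (by
        rw [map_mul, hgs, hgb, hb, show s ≫ tC = nr i by rw [← cancel_mono c, Category.assoc, htC, hs]])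
      rw [this, mat_mul hcc, ← Matrix.mulVec_mulVec, he, Matrix.mulVec_smul, he', smul_smul, _root_.mul_comm e]
    · right
      have : g = nn⁻¹ * (gs * gb) := ToriConj.ev_injective ψ (by
        rw [map_mul, map_mul, map_inv, hgs, hgb, hnn, hb, ← _root_.mul_assoc]
        refine congrArg (· * (b ≫ iB)) ?_
        rw [eq_inv_mul_iff_mul_eq, ← cancel_mono c, MonObj.mul_comp _ _ c, hn₀C, hs, Category.assoc, htC])
      rw [this, mat_mul hcc, mat_mul hcc gs, ← Matrix.mulVec_mulVec, ← Matrix.mulVec_mulVec, he,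
        Matrix.mulVec_smul, he', smul_smul, Matrix.mulVec_smul, _root_.mul_comm e]
  have hline : ∀ w ∈ Orb cc v, ∀ ρ : ℤ, (∀ i, w i ≠ 0 → m i = ρ) → ∃ e : k, w = e • v ∨ w = e • v' := by
    rintro w ⟨g, s₀, rfl⟩ ρ hρ
    by_cases hs₀ : s₀ = 0
    · exact ⟨0, Or.inl (by rw [hs₀, zero_smul, zero_smul])⟩
    obtain ⟨e, he⟩ := hmove g fun s => by
      obtain ⟨gt, hgt⟩ := ToriConj.ev_surjective ψ (s ≫ tC)
      obtain ⟨b, hb⟩ := (hstab' (g⁻¹ * gt * g)).2 (by
        obtain ⟨e, z, hez⟩ := hsplitT gt ⟨s, hgt.symm⟩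
        refine ⟨e * (z : k) ^ ρ, ?_⟩
        have h1 : mat cc gt *ᵥ (mat cc g *ᵥ v) = (e * (z : k) ^ ρ) • (mat cc g *ᵥ v) := funext fun i => by
          rw [hez, Matrix.smul_mulVec, Pi.smul_apply, mulVec_diagonal, Pi.smul_apply, smul_eq_mul, smul_eq_mul]
          by_cases hi : (mat cc g *ᵥ v) i = 0
          · rw [hi]; ring
          · rw [hρ i (by rw [Pi.smul_apply, smul_eq_mul]; exact mul_ne_zero hs₀ hi)]; ring
        have h2 := congrArg (mat cc g⁻¹ *ᵥ ·) h1
        simp only [Matrix.mulVec_smul, Matrix.mulVec_mulVec, ← mat_mul hcc, inv_mul_cancel, mat_one hcc,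
          Matrix.one_mulVec] at h2
        rwa [← _root_.mul_assoc] at h2)
      exact ⟨b, by rw [hb, map_mul, map_mul, map_inv, hgt]⟩
    rcases he with he | he
    · exact ⟨s₀ * e, Or.inl (by rw [he, smul_smul])⟩
    · exact ⟨s₀ * e, Or.inr (by rw [he, smul_smul])⟩
  -- a common curve in the stabilisers of both lines
  have hv'O : v' ∈ Orb cc v := mat_mem_orb hcc (self_mem_orb hcc v) _
  have hfg : ∀ x y, f x * g₂ y = g₂ y * f x := fun x y => ToriConj.ev_injective ψ (by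
    rw [map_mul, map_mul, hf, hg₂, hcomm])
  have hfix : (∀ y, mat cc (g₂ y) *ᵥ v = v ∧ mat cc (g₂ y) *ᵥ v' = v') ∨
      ∃ e : k, 2 * e = 0 ∧ ∀ x, mat cc (f x * g₂ (e * x ^ 2)) *ᵥ v = v ∧
        mat cc (f x * g₂ (e * x ^ 2)) *ᵥ v' = v' := by
    rcases le_total wt₁ wt₂ with hle | hle
    · exact exists_fixing hcc hcl (self_mem_orb hcc v) hv'O hv hv' L m hLm wt₁ wt₂ hwt₁ hwt₂ hle hline f g₂ P Q hP hQ
        (hadd u₁ f hf) (hadd u₂ g₂ hg₂) hfg d hd (hrel b₁ u₁ f d hu₁ hf hroot₁)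
        (hrel b₂ u₂ g₂ (2 * d) hu₂ hg₂ hroot₂)
    · rcases exists_fixing hcc hcl hv'O (self_mem_orb hcc v) hv' hv L m hLm wt₂ wt₁ hwt₂ hwt₁ hle
        (fun w hw ρ hρ => (hline w hw ρ hρ).imp fun _ h => h.symm) f g₂ P Q hP hQ
        (hadd u₁ f hf) (hadd u₂ g₂ hg₂) hfg d hd (hrel b₁ u₁ f d hu₁ hf hroot₁)
        (hrel b₂ u₂ g₂ (2 * d) hu₂ hg₂ hroot₂) with h | ⟨e, he, h⟩
      · exact Or.inl fun y => ⟨(h y).2, (h y).1⟩
      · exact Or.inr ⟨e, he, fun x => ⟨(h x).2, (h x).1⟩⟩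
  obtain ⟨hGaA, hGaS, hGaC, hGaU⟩ := ga_facts (k := k)
  haveI := hGaA
  haveI := hGaS
  haveI := hGaC
  haveI : IsReduced (Red.Ga Sk).left := isReduced_of_smooth (Red.Ga Sk).hom
  -- a homomorphism of the additive group into both stabilisers is trivial
  have hkill : ∀ (F : Red.Ga Sk ⟶ C) [IsMonHom F],
      (∀ (x : pk ⟶ Red.Ga Sk) (g : Conn.Pt k A), ToriConj.ev ψ g = x ≫ F →
        (∃ e : k, mat cc g *ᵥ v = e • v) ∧ ∃ e : k, mat cc g *ᵥ v' = e • v') → F = 1 := by
    intro F _ hF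
    obtain ⟨H, _, j, p, hjm, hpm, hjcl, hHred, hpsurj, hpj⟩ := BorelCor.exists_image F
    haveI := hjm
    haveI := hpm
    haveI := hjcl
    haveI := hHred
    haveI : IsAffine H.left := isAffine_of_isAffineHom j.left
    haveI : LocallyOfFiniteType H.hom := by rw [← Over.w j]; infer_instance
    haveI : Smooth H.hom := AlgGrp33.IsogSub.smooth_of_reduced H
    haveI : ConnectedSpace H.left := hpsurj.surj.connectedSpace p.left.continuous
    have nH : Red.HasNoSubtorus k H := hasNoSubtorus_image hGaU p fun w => BorelImage.exists_pt_lift p w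
    obtain ⟨U, _, u, hum, hucl, hus, huc, hun, nU, humax⟩ := UnipExist.exists_unipRad G
    haveI := hum; haveI := hucl; haveI := hus; haveI := huc
    haveI : Mono u := Over.mono_of_mono_left u
    have hU : Par.IsUnipotentRadical u := UnipBasic.isUnipotentRadical_of_largest u hun nU humax
    obtain ⟨V, _, vC, w, hvm, hV⟩ := exists_inter c u
    haveI := hvm
    have hVrad : Par.IsUnipotentRadical vC := isUnipotentRadical_cent iS hSt c hc u hU vC w hV.flip
    obtain ⟨gU, hgU⟩ := le_unipRad C hVrad hTC j fun B'' _ iB'' t'' hB'' ht'' V'' _ v'' hV'' => by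
      obtain ⟨_, _, _, _, hsB'', -⟩ := id hB''
      haveI : IsAffine B''.left := isAffine_of_isAffineHom iB''.left
      haveI : Mono iB'' := Over.mono_of_mono_left iB''
      obtain ⟨g₀, eB, eT, heB, heT⟩ := BorelCor.borelPair_conj C hB hB'' hTC hTC tB htB t'' ht''
      obtain ⟨gg, hgg⟩ := ToriConj.ev_surjective ψ g₀
      obtain ⟨e, he⟩ := hmove gg fun s => by
        have h1 : (s ≫ eT.inv) ≫ eT.hom ≫ tC = g₀ * ((s ≫ eT.inv) ≫ tC) * g₀⁻¹ := by
          rw [heT, BorelTori.pt_comp_conjBy]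
        rw [Category.assoc, Iso.inv_hom_id_assoc] at h1
        refine ⟨(s ≫ eT.inv) ≫ tB, ?_⟩
        rw [Category.assoc, htB, hgg, h1]
        group
      obtain ⟨fH, hfH⟩ := BorelCor.exists_factor_of_pts j iB'' fun w' => by
        obtain ⟨x, rfl⟩ := BorelImage.exists_pt_lift p w'
        obtain ⟨g, hg⟩ := ToriConj.ev_surjective ψ (x ≫ F)
        obtain ⟨⟨e₁, he₁⟩, ⟨e₂, he₂⟩⟩ := hF x g hg
        have hB2 : ∃ b : pk ⟶ B, b ≫ iB = ToriConj.ev ψ (gg⁻¹ * g * gg) := by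
          refine (hstab' _).2 ?_
          have hne : e ≠ 0 := fun h0 => by
            have h3 : mat cc gg *ᵥ v = 0 := by rcases he with he | he <;> rw [he, h0, zero_smul]
            exact mat_mulVec_ne_zero hcc gg hv h3
          rcases he with he | he
          · refine ⟨e₁, ?_⟩
            rw [mat_mul hcc, mat_mul hcc, ← Matrix.mulVec_mulVec, ← Matrix.mulVec_mulVec, he, Matrix.mulVec_smul,
              he₁, smul_comm, Matrix.mulVec_smul, ← he, Matrix.mulVec_mulVec, ← mat_mul hcc, inv_mul_cancel,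
              mat_one hcc, Matrix.one_mulVec]
          · refine ⟨e₂, ?_⟩
            rw [mat_mul hcc, mat_mul hcc, ← Matrix.mulVec_mulVec, ← Matrix.mulVec_mulVec, he, Matrix.mulVec_smul,
              he₂, smul_comm, Matrix.mulVec_smul, ← he, Matrix.mulVec_mulVec, ← mat_mul hcc, inv_mul_cancel,
              mat_one hcc, Matrix.one_mulVec]
        obtain ⟨b, hb⟩ := hB2
        refine ⟨b ≫ eB.hom, ?_⟩
        rw [Category.assoc, heB, BorelTori.pt_comp_conjBy, hb, map_mul, map_mul, map_inv, hgg, hg, Category.assoc, hpj]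
        group
      haveI := BorelCor.isMonHom_factor fH iB'' j hfH
      haveI : IsClosedImmersion fH.left := by
        haveI : IsClosedImmersion (fH.left ≫ iB''.left) := by rw [← Over.comp_left, hfH]; exact hjcl
        exact IsClosedImmersion.of_comp fH.left iB''.left
      obtain ⟨fV, hfV⟩ := le_radical_solvable hsB'' hV'' fH nH
      exact ⟨fV, by rw [← Category.assoc, hfV, hfH]⟩
    have hUtriv : Red.IsTrivialGrp U := hGU U u hucl hus huc hun nU
    haveI : IsIso U.hom := hUtriv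
    have h1 : j ≫ c = 1 := by
      rw [← hgU, Category.assoc, hV.w, ← Category.assoc,
        show gU ≫ w = (1 : H ⟶ U) from Over.OverMorphism.ext ((cancel_mono U.hom).1 (by rw [Over.w, Over.w])),
        MonObj.one_comp]
    rw [← cancel_mono c, MonObj.one_comp, ← hpj, Category.assoc, h1, MonObj.comp_one]
  -- conclusion
  rcases hfix with h | ⟨e, he, h⟩
  · have hF := hkill u₂ fun x g hg => by
      obtain ⟨y, hy⟩ := scal_bijective.2 (Red.gaFn x)
      have : g = g₂ y := ToriConj.ev_injective ψ (by rw [hg₂, hy, gaPt_gaFn, hg])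
      exact ⟨⟨1, by rw [this, (h y).1, one_smul]⟩, ⟨1, by rw [this, (h y).2, one_smul]⟩⟩
    haveI : IsClosedImmersion (D.u b₂).left := (D.rootHom b₂).2.1
    haveI : Mono (D.u b₂) := Over.mono_of_mono_left _
    refine root_mul_sq_ne_one (D.u b₂) (D.u b₂) 0 fun X x => ?_
    have e0 : x ≫ D.u b₂ = 1 := by rw [← hu₂, hF, MonObj.one_comp, MonObj.comp_one]
    rw [e0, _root_.one_mul, map_zero, show cst X (0 : Γ(Sk, ⊤)) = 0 from map_zero _, zero_mul,
      show gaPt (0 : Γ(X.left, ⊤)) = (1 : X ⟶ Red.Ga Sk) from gaFn_injective (by rw [gaFn_gaPt, gaFn_one]),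
      MonObj.one_comp]
  · haveI := isMonHom_sqCurve u₁ u₂ (fun x y => hcomm x y) e he
    have hF := hkill (sqCurve u₁ u₂ e) fun x g hg => by
      obtain ⟨y, hy⟩ := scal_bijective.2 (Red.gaFn x)
      have : g = f y * g₂ (e * y ^ 2) := ToriConj.ev_injective ψ (by
        rw [hg, comp_sqCurve, map_mul, hf, hg₂, map_mul, map_pow, hy, gaPt_gaFn]
        rfl)
      exact ⟨⟨1, by rw [this, (h y).1, one_smul]⟩, ⟨1, by rw [this, (h y).2, one_smul]⟩⟩
    refine root_mul_sq_ne_one u₁ u₂ e fun X x => ?_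
    rw [← comp_sqCurve, hF, MonObj.comp_one]

/-- The root datum of a splitting over an algebraically closed field is reduced. -/
theorem isReduced_of_algClosed : D.P.IsReduced := by
  refine ⟨fun i j h => ?_⟩
  have hn : ∀ {x y : D.idx}, D.P.root x ≠ (-2 : ℤ) • D.P.root y := fun {x y} he => by
    refine not_double D y (negIdx D x) ?_
    rw [root_negIdx, he]
    module
  rcases Roots36.proportional_cases h with h | h | h | h | h | h
  · exact Or.inl h.symm
  · exact Or.inr (by rw [h, neg_neg])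
  · exact (not_double D i j h).elim
  · exact absurd h hn
  · exact (not_double D j i h).elim
  · exact absurd h hn

end Groth.Agent.AGF80.Luna
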