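import Groth.Agent.AGF80.Luna.Image
import Groth.Agent.AGF80.Luna.CentreInter
import Groth.Agent.AGF80.Luna.CentRad
import Groth.Agent.AGF80.Descend
import Groth.Agent.AGF80.UnipExist
import Groth.Agent.S3905
import Groth.Agent.S3899

/-!
Reductivity is insensitive to extensions of algebraically closed fields.
-/

set_option autoImplicit false
set_option linter.unusedSectionVars false
set_option linter.style.haveILetI false
set_option backward.isDefEq.respectTransparency.types false
set_option synthInstance.maxHeartbeats 200000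

universe u

open CategoryTheory MonoidalCategory CartesianMonoidalCategory MonObj GrpObj AlgebraicGeometry
open Groth.Agent.GMod80

noncomputable section

namespace Groth.Agent.AGF80.Luna

open AlgGrp79

variable {k : Type u} [Field k]

local notation "pk" => 𝟙_ (Over (Spec (CommRingCat.of k)))

/-- Reductivity over a field is invariant under isomorphism. -/
theorem isReductiveOver_of_grpIso {G G' : Over (Spec (CommRingCat.of k))} [GrpObj G] [GrpObj G'] (e : G ≅ G')
    [IsMonHom e.hom] (hG : Red.IsReductiveOver k G) : Red.IsReductiveOver k G' := by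
  obtain ⟨hGa, hGs, hGc, hU⟩ := hG
  haveI := hGa
  haveI := hGs
  haveI := hGc
  haveI : IsIso e.inv.left := ((Over.forget _).mapIso e).isIso_inv
  haveI : IsIso e.hom.left := ((Over.forget _).mapIso e).isIso_hom
  refine ⟨IsAffine.of_isIso e.inv.left, ?_, e.hom.left.surjective.connectedSpace e.hom.left.continuous,
    fun U _ i _ hcl hs hc hn nU => ?_⟩
  · rw [← Over.w e.inv]; infer_instance
  haveI : IsMonHom e.inv := inferInstance
  haveI := hcl
  refine hU U (i ≫ e.inv) (inferInstanceAs (IsClosedImmersion (i.left ≫ e.inv.left))) hs hc (fun T g n => ?_) nU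
  obtain ⟨n', hn'⟩ := hn T (g ≫ e.hom) n
  refine ⟨n', ?_⟩
  rw [← Category.assoc n' i, ← hn', MonObj.mul_comp _ _ e.inv, MonObj.mul_comp _ _ e.inv, GrpObj.inv_comp,
    Category.assoc, Category.assoc, e.hom_inv_id, Category.comp_id]

/-- A subgroup of a solvable group is solvable. -/
theorem isSolvableGrp_of_mono {S : Scheme.{u}} {A B : Over S} [GrpObj A] [GrpObj B] (b : A ⟶ B) [IsMonHom b] [Mono b]
    (hB : Red.IsSolvableGrp B) : Red.IsSolvableGrp A := by
  obtain ⟨n, hn⟩ := hB
  refine ⟨n, fun X => ?_⟩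
  let φ : (X ⟶ A) →* (X ⟶ B) := MonoidHom.mk' (fun x => x ≫ b) fun x y => MonObj.mul_comp x y b
  have h := map_derivedSeries_le_derivedSeries φ n
  rw [hn _, le_bot_iff] at h
  exact (Subgroup.map_eq_bot_iff_of_injective _ fun x y e => (cancel_mono b).1 e).1 h

section Ext

variable {K : Type u} [Field K] [IsAlgClosed K] (σ : Spec (CommRingCat.of K) ⟶ Spec (CommRingCat.of k))

/-- The base change of a Borel subgroup is a Borel subgroup. -/
theorem isBorelOver_bc [IsAlgClosed k] {G B : Over (Spec (CommRingCat.of k))} [GrpObj G] [GrpObj B] [IsAffine G.left]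
    [Smooth G.hom] [ConnectedSpace G.left] {iB : B ⟶ G} (hB : Red.IsBorelOver k iB) :
    Red.IsBorelOver K ((Over.pullback σ).map iB) := by
  obtain ⟨hBm, hBcl, hBs, hBc, hBsolv, -⟩ := id hB
  haveI := hBm
  haveI := hBcl
  haveI := hBs
  haveI := hBc
  haveI : IsAffine B.left := isAffine_of_isAffineHom iB.left
  haveI : Mono iB := Over.mono_of_mono_left iB
  obtain ⟨X, a, o, h1, h2, h3, h4, h5⟩ := QuotSub.exists_quotient G B iB
  have hX : AGF.IsQuotient iB X a o := ⟨h1, h3, h4, h5⟩
  haveI := GeomSub.isAffine_bc σ G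
  haveI := GeomSub.smooth_bc σ G
  haveI : ConnectedSpace (Red.bc σ G).left := BorelDesc.connectedSpace_bc σ
  haveI := GeomSub.isAffine_bc σ B
  haveI := GeomSub.smooth_bc σ B
  haveI : ConnectedSpace (Red.bc σ B).left := BorelDesc.connectedSpace_bc σ
  haveI : IsClosedImmersion ((Over.pullback σ).map iB).left := GeomSub.isClosedImmersion_bc σ iB
  haveI : Mono ((Over.pullback σ).map iB) := Over.mono_of_mono_left _
  obtain ⟨Y, b, y, g1, g2, g3, g4, g5⟩ := QuotSub.exists_quotient (Red.bc σ G) (Red.bc σ B) ((Over.pullback σ).map iB)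
  have hY : AGF.IsQuotient ((Over.pullback σ).map iB) Y b y := ⟨g1, g3, g4, g5⟩
  exact Groth.Agent.S3905.result K (Red.bc σ G) (Red.bc σ B) ((Over.pullback σ).map iB) inferInstance
    (GeomSub.isSolvableGrp_bc σ hBsolv) Y b y hY
    ((Descend.isProper_quotient_bc_iff σ iB hX hY).1 (Groth.Agent.S3899.result k G B iB hB X a o hX))

set_option maxHeartbeats 800000 in
/-- A reductive group over an algebraically closed field stays reductive over a bigger one. -/
theorem isReductiveOver_bc [IsAlgClosed k] {G : Over (Spec (CommRingCat.of k))} [GrpObj G]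
    (hG : Red.IsReductiveOver k G) : Red.IsReductiveOver K (Red.bc σ G) := by
  classical
  obtain ⟨hGa, hGs, hGc, -⟩ := id hG
  haveI := hGa
  haveI := hGs
  haveI := hGc
  haveI := GeomSub.isAffine_bc σ G
  haveI := GeomSub.smooth_bc σ G
  haveI : ConnectedSpace (Red.bc σ G).left := BorelDesc.connectedSpace_bc σ
  haveI : IsReduced G.left := AlgGrp79.isReduced_of_smooth G.hom
  haveI : QuasiCompact G.hom := inferInstance
  let F := Over.pullback σ
  refine ⟨inferInstance, inferInstance, inferInstance, fun U _ u _ hucl hus huc hn nU => ?_⟩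
  haveI := hucl
  haveI := hus
  haveI := huc
  haveI : IsAffine U.left := isAffine_of_isAffineHom u.left
  haveI : IsReduced U.left := AlgGrp79.isReduced_of_smooth U.hom
  haveI : Mono u := Over.mono_of_mono_left u
  haveI := Var76.FibreBound.noetherianSpace G.hom
  let P : TopologicalSpace.Closeds G.left → Prop := fun Z =>
    ∃ (C : Over (Spec (CommRingCat.of k))) (_ : GrpObj C) (c : C ⟶ G), IsMonHom c ∧ IsClosedImmersion c.left ∧
      (Z : Set G.left) = Set.range c.left ∧ ∃ w : U ⟶ Red.bc σ C, w ≫ F.map c = u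
  have hP : ∃ Z, P Z := by
    refine ⟨⊤, G, inferInstance, 𝟙 G, inferInstance, inferInstanceAs (IsClosedImmersion (𝟙 G.left)), ?_, u, ?_⟩
    · simp
    · rw [F.map_id, Category.comp_id]
  obtain ⟨Z, ⟨C, _, c, hcm, hccl, hZ, w, hw⟩, hmin⟩ :=
    (wellFounded_lt (α := TopologicalSpace.Closeds G.left)).has_min {Z | P Z} hP
  haveI := hcm
  haveI := hccl
  haveI : Mono c := Over.mono_of_mono_left c
  haveI : LocallyOfFiniteType C.hom := by rw [← Over.w c]; infer_instance
  haveI : QuasiCompact C.hom := by rw [← Over.w c]; infer_instance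
  -- the minimal subgroup lies in every closed subgroup through which `U` factors
  have key : ∀ (B : Over (Spec (CommRingCat.of k))) [GrpObj B] (iB : B ⟶ G) [IsMonHom iB]
      [IsClosedImmersion iB.left] (v : U ⟶ Red.bc σ B), v ≫ F.map iB = u → Set.range c.left ⊆ Set.range iB.left := by
    intro B _ iB _ hcl v hv
    haveI : Mono iB := Over.mono_of_mono_left iB
    obtain ⟨D, _, dC, dB, hdm, hD⟩ := exists_inter c iB
    haveI := hdm
    haveI : IsClosedImmersion dC.left := MorphismProperty.of_isPullback (AlgGrp79.isPullback_left hD).flip hcl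
    haveI : IsClosedImmersion (dC ≫ c).left := inferInstanceAs (IsClosedImmersion (dC.left ≫ c.left))
    let W : TopologicalSpace.Closeds G.left :=
      ⟨Set.range (dC ≫ c).left, (dC ≫ c).left.isClosedEmbedding.isClosed_range⟩
    have hPW : P W := by
      refine ⟨D, inferInstance, dC ≫ c, inferInstance, inferInstance, rfl, ?_⟩
      refine ⟨(hD.map F).lift w v (by rw [hw, hv]), ?_⟩
      rw [F.map_comp, ← Category.assoc, (hD.map F).lift_fst, hw]
    have hle : W ≤ Z := fun x hx => by
      obtain ⟨d, rfl⟩ := hx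
      show (dC ≫ c).left d ∈ (Z : Set G.left)
      rw [hZ]
      exact ⟨dC.left d, rfl⟩
    have heq : W = Z := (eq_or_lt_of_le hle).resolve_right (hmin W hPW)
    rw [← hZ, ← heq]
    rintro _ ⟨d, rfl⟩
    exact ⟨dB.left d, congr(($(hD.w)).left d).symm⟩
  have hconj : ∀ {B : Over (Spec (CommRingCat.of k))} (g : pk ⟶ G) (i : B ⟶ G) {X : Over (Spec (CommRingCat.of K))}
      (x : X ⟶ Red.bc σ B), x ≫ F.map (AGF.conjBy g i) =
        (x ≫ F.map (toUnit B ≫ g)) * (x ≫ F.map i) * (x ≫ F.map (toUnit B ≫ g))⁻¹ := by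
    intro B g i X x
    refine RedPts82.toBase_injective σ ?_
    have hinv : ∀ (y : X ⟶ Red.bc σ G), RedPts82.toBase σ y⁻¹ = (RedPts82.toBase σ y)⁻¹ := fun y =>
      map_inv (MonoidHom.mk' (RedPts82.toBase σ) (RedPts82.toBase_mul (f := σ))) y
    rw [RedPts82.toBase_mul, RedPts82.toBase_mul, hinv, RedPts82.toBase_comp_map, RedPts82.toBase_comp_map,
      RedPts82.toBase_comp_map]
    show _ ≫ ((toUnit B ≫ g) * i * (toUnit B ≫ g)⁻¹) = _
    rw [MonObj.comp_mul, MonObj.comp_mul, GrpObj.comp_inv]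
  have hUconj : ∀ (g : pk ⟶ G) (B : Over (Spec (CommRingCat.of k))) [GrpObj B] (i : B ⟶ G) [IsMonHom i]
      (v : U ⟶ Red.bc σ B), v ≫ F.map i = u → ∃ v' : U ⟶ Red.bc σ B, v' ≫ F.map (AGF.conjBy g i) = u := by
    intro g B _ i _ v hv
    let gU : U ⟶ Red.bc σ G := v ≫ F.map (toUnit B ≫ g)
    obtain ⟨n, hnu⟩ := hn U gU⁻¹ (𝟙 U)
    refine ⟨n ≫ v, ?_⟩
    rw [hconj, Category.assoc n v (F.map i), hv]
    have e : (n ≫ v) ≫ F.map (toUnit B ≫ g) = gU := by
      refine RedPts82.toBase_injective σ ?_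
      rw [RedPts82.toBase_comp_map, RedPts82.toBase_comp_map, ← Category.assoc, ← Category.assoc,
        toUnit_unique (RedPts82.toBase σ (n ≫ v) ≫ toUnit B) (RedPts82.toBase σ v ≫ toUnit B)]
    rw [e, ← hnu, Category.id_comp]
    group
  -- the identity component of `C`
  obtain ⟨C₀, _, c₀, hc₀m, hc₀cl, hc₀s, hc₀c, hc₀r⟩ := UnipPart.exists_smooth_component C
  haveI := hc₀m
  haveI := hc₀cl
  haveI := hc₀s
  haveI := hc₀c
  haveI : IsReduced C₀.left := AlgGrp79.isReduced_of_smooth C₀.hom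
  haveI : IsClosedImmersion (c₀ ≫ c).left := inferInstanceAs (IsClosedImmersion (c₀.left ≫ c.left))
  haveI : LocallyOfFiniteType C₀.hom := by rw [← Over.w c₀]; infer_instance
  obtain ⟨B, _, iB, hB⟩ := BorelCor.exists_borel G
  obtain ⟨hBm, hBcl, hBs, hBc, hBsolv, -⟩ := id hB
  haveI := hBm
  haveI := hBcl
  obtain ⟨v, hv⟩ := UnipExist.normal_le_borel u hn (UnipBasic.isSolvableGrp_unip U nU) (isBorelOver_bc σ hB)
  have hsub := key B iB v hv
  obtain ⟨b, hb⟩ := exists_lift_of_range_subset iB (c₀ ≫ c) (by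
    rintro _ ⟨x, rfl⟩
    exact hsub ⟨c₀.left x, rfl⟩)
  have hsolv : Red.IsSolvableGrp C₀ := by
    haveI : Mono (c₀ ≫ c) := Over.mono_of_mono_left _
    haveI : Mono b := by
      haveI : Mono (b ≫ iB) := by rw [hb]; infer_instance
      exact mono_of_mono b iB
    haveI : Mono iB := Over.mono_of_mono_left iB
    haveI := BorelCor.isMonHom_factor b iB (c₀ ≫ c) hb
    exact isSolvableGrp_of_mono b hBsolv
  have hnorm : AlgGrp.IsNormalHom (c₀ ≫ c) := by
    refine UnipBasic.isNormalHom_of_pts _ fun g n => ?_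
    haveI : IsMonHom (AGF.conjBy g c) := BorelConj.isMonHom_conjBy g c
    haveI : IsClosedImmersion (AGF.conjBy g⁻¹ c).left := BorelConj.isClosedImmersion_conjBy g⁻¹ c
    haveI : IsMonHom (AGF.conjBy g⁻¹ c) := BorelConj.isMonHom_conjBy g⁻¹ c
    obtain ⟨v', hv'⟩ := hUconj g⁻¹ C c w hw
    obtain ⟨l, hl⟩ := exists_lift_of_range_subset (AGF.conjBy g⁻¹ c) (c₀ ≫ c) (by
      rintro _ ⟨x, rfl⟩
      exact key C (AGF.conjBy g⁻¹ c) v' hv' ⟨c₀.left x, rfl⟩)
    haveI : Mono (AGF.conjBy g⁻¹ c) := Over.mono_of_mono_left _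
    haveI := BorelCor.isMonHom_factor l (AGF.conjBy g⁻¹ c) (c₀ ≫ c) hl
    obtain ⟨f, hf⟩ := UnipExist.exists_factor_component l c₀ hc₀r
    refine ⟨n ≫ f, ?_⟩
    have h2 : (n ≫ c₀ ≫ c) = g⁻¹ * ((n ≫ l) ≫ c) * g := by
      rw [← hl, ← Category.assoc n l (AGF.conjBy g⁻¹ c), UnipRad.pt_conjBy, _root_.inv_inv]
    rw [h2, ← hf]
    simp only [Category.assoc]
    group
  have hT := Reductive.normal_solvable_isTorus hG (c₀ ≫ c) hsolv hnorm
  -- `U` lands in the component
  haveI : LocallyOfFiniteType (Red.bc σ C).hom := MorphismProperty.pullback_snd (P := @LocallyOfFiniteType) _ _ ‹_›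
  haveI : IsClosedImmersion (F.map c₀).left := GeomSub.isClosedImmersion_bc σ c₀
  obtain ⟨w₀, hw₀⟩ : ∃ w₀, w₀ ≫ F.map c₀ = w := by
    haveI : Mono (F.map c) := by
      haveI : IsClosedImmersion (F.map c).left := GeomSub.isClosedImmersion_bc σ c
      exact Over.mono_of_mono_left _
    haveI := BorelCor.isMonHom_factor w (F.map c) u hw
    refine exists_lift_of_range_subset (F.map c₀) w fun x hx => ?_
    refine (CAlg6.GenDerived.mem_range_bc_iff σ c₀ x).2 ?_
    rw [hc₀r]
    obtain ⟨y, rfl⟩ := hx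
    have h1 : w.left ≫ Limits.pullback.fst C.hom σ = (RedPts82.toBase σ w).left :=
      (RedPts82.toBase_left σ w).symm
    rw [← Scheme.Hom.comp_apply, h1]
    haveI : ConnectedSpace ((Over.map σ).obj U).left := ‹ConnectedSpace U.left›
    refine ((isConnected_range (RedPts82.toBase σ w).left.continuous).isPreconnected.subset_connectedComponent
      ?_) ⟨y, rfl⟩
    refine ⟨(η[U] : 𝟙_ _ ⟶ U).left (IsLocalRing.closedPoint K), ?_⟩
    rw [← Scheme.Hom.comp_apply, ← h1, ← Category.assoc]
    rw [show (η[U] : 𝟙_ _ ⟶ U).left ≫ w.left = (η[Red.bc σ C] : 𝟙_ _ ⟶ Red.bc σ C).left by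
      rw [← Over.comp_left, IsMonHom.one_hom]]
    have h3 : RedPts82.toBase σ (1 : 𝟙_ (Over (Spec (CommRingCat.of K))) ⟶ Red.bc σ C) = 1 := RedPts82.toBase_one σ
    rw [Hom.one_def, toUnit_unique (toUnit _) (𝟙 _), Category.id_comp, Hom.one_def] at h3
    have h4 := congrArg (fun m => m.left) h3
    simp only [RedPts82.toBase_left, Over.comp_left] at h4
    rw [h4, Scheme.Hom.comp_apply]
    congr 1
    exact Subsingleton.elim (α := PrimeSpectrum k) _ _
  -- a unipotent subgroup of a torus is trivial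
  haveI : IsClosedImmersion (F.map (c₀ ≫ c)).left := GeomSub.isClosedImmersion_bc σ (c₀ ≫ c)
  have hu1 : (𝟙 U) ≫ u = 1 := torus_inter_unip (F.map (c₀ ≫ c)) (AlgGrp79.TorusBC.isTorus_bc σ hT) u nU w₀ (𝟙 U)
    (by rw [F.map_comp, ← Category.assoc, hw₀, hw, Category.id_comp])
  refine isTrivialGrp_of_pts fun p => ?_
  rw [← cancel_mono u, MonObj.one_comp, ← Category.comp_id p, Category.assoc, hu1, MonObj.comp_one]

end Ext

end Groth.Agent.AGF80.Luna
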