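import Groth.Agent.AGF80.Luna.Cartan
import Groth.Agent.AGF80.Luna.ImageUnip
import Groth.Agent.S3006

/-!
A surjective homomorphism maps the unipotent radical onto the unipotent radical.
-/

set_option autoImplicit false
set_option linter.unusedSectionVars false
set_option linter.style.haveILetI false
set_option backward.isDefEq.respectTransparency.types false
set_option synthInstance.maxHeartbeats 200000

universe u

open CategoryTheory MonoidalCategory CartesianMonoidalCategory MonObj GrpObj AlgebraicGeometry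
open Groth.Agent.GMod80

noncomputable section

namespace Groth.Agent.AGF80.Luna

open Comod33 AlgGrp79

variable {k : Type u} [Field k] [IsAlgClosed k]

local notation "pk" => 𝟙_ (Over (Spec (CommRingCat.of k)))

/-- The smooth connected subgroup generated by the image of a smooth connected group. -/
theorem exists_image {V G : Over (Spec (CommRingCat.of k))} [GrpObj V] [GrpObj G] [IsAffine V.left] [Smooth V.hom]
    [ConnectedSpace V.left] [LocallyOfFiniteType G.hom] [QuasiCompact G.hom] (p : V ⟶ G) [IsMonHom p] :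
    ∃ (D : Over (Spec (CommRingCat.of k))) (_ : GrpObj D) (i : D ⟶ G) (q : V ⟶ D), IsMonHom i ∧
      IsClosedImmersion i.left ∧ Smooth D.hom ∧ ConnectedSpace D.left ∧ q ≫ i = p ∧
      ∀ d : pk ⟶ D, ∃ x : pk ⟶ V, x ≫ q = d := by
  haveI : IsReduced V.left := isReduced_of_smooth V.hom
  haveI : IrreducibleSpace V.left := by
    have hirr := (Grp57.connectedComponent_unit V).1
    rw [PreconnectedSpace.connectedComponent_eq_univ] at hirr
    exact { isPreirreducible_univ := hirr.2, toNonempty := inferInstance }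
  let F : AlgGrp79.Fam G :=
    { X := V
      f := p
      x := 1
      hx := MonObj.one_comp p
      red := inferInstance
      irr := inferInstance
      lft := inferInstance
      qc := inferInstance }
  obtain ⟨D, _, i, hi, hci, hs, hirr, hD⟩ := AlgGrp79.exists_generated F
  haveI := hi
  haveI := hci
  haveI := hirr
  haveI : Mono i := Over.mono_of_mono_left i
  let φ : (pk ⟶ V) →* (pk ⟶ G) := MonoidHom.mk' (fun x => x ≫ p) fun x y => MonObj.mul_comp x y p
  have hcl : Subgroup.closure F.pts = φ.range := by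
    refine le_antisymm ((Subgroup.closure_le _).2 ?_) ?_
    · rintro _ ⟨x, rfl⟩; exact ⟨x, rfl⟩
    · rintro _ ⟨x, rfl⟩; exact Subgroup.subset_closure ⟨x, rfl⟩
  obtain ⟨q, hq⟩ := BorelCor.exists_factor_of_pts p i fun x => hD.ge (Subgroup.subset_closure (k := F.pts) ⟨x, rfl⟩)
  refine ⟨D, inferInstance, i, q, hi, hci, hs, inferInstance, hq, fun d => ?_⟩
  have hd : d ≫ i ∈ Subgroup.closure F.pts := hD.le ⟨d, rfl⟩
  rw [hcl] at hd
  obtain ⟨x, hx⟩ := hd
  exact ⟨x, (cancel_mono i).1 (by rw [Category.assoc, hq]; exact hx)⟩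

set_option maxHeartbeats 1600000 in
/-- The image of the unipotent radical is the unipotent radical of the image. -/
theorem unipRad_map {G G' : Over (Spec (CommRingCat.of k))} [GrpObj G] [GrpObj G'] [IsAffine G.left] [Smooth G.hom]
    [ConnectedSpace G.left] [IsAffine G'.left] [Smooth G'.hom] [ConnectedSpace G'.left] (π : G ⟶ G') [IsMonHom π]
    [Surjective π.left] {U : Over (Spec (CommRingCat.of k))} [GrpObj U] {u : U ⟶ G} (hU : Par.IsUnipotentRadical u)
    {U' : Over (Spec (CommRingCat.of k))} [GrpObj U'] {u' : U' ⟶ G'} (hU' : Par.IsUnipotentRadical u') :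
    ∃ f : U ⟶ U', f ≫ u' = u ≫ π ∧ Surjective f.left := by
  obtain ⟨hum, hucl, hun, hus, -, -, humax⟩ := id hU
  haveI := hum; haveI := hucl; haveI := hus
  haveI : IsAffine U.left := isAffine_of_isAffineHom u.left
  obtain ⟨hUc, nU⟩ := UnipBasic.connected_noSubtorus_of_isUnipotentRadical hU
  haveI := hUc
  obtain ⟨hum', hucl', hun', hus', -, -, humax'⟩ := id hU'
  haveI := hum'; haveI := hucl'; haveI := hus'
  haveI : IsAffine U'.left := isAffine_of_isAffineHom u'.left
  obtain ⟨hUc', nU'⟩ := UnipBasic.connected_noSubtorus_of_isUnipotentRadical hU'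
  haveI := hUc'
  haveI : IsReduced G.left := isReduced_of_smooth G.hom
  haveI : IsReduced G'.left := isReduced_of_smooth G'.hom
  haveI : IsReduced U'.left := isReduced_of_smooth U'.hom
  haveI : IsReduced U.left := isReduced_of_smooth U.hom
  haveI : Mono u := Over.mono_of_mono_left u
  haveI : Mono u' := Over.mono_of_mono_left u'
  let Φ : (pk ⟶ G) →* (pk ⟶ G') := MonoidHom.mk' (fun x => x ≫ π) fun x y => MonObj.mul_comp x y π
  have hsurj : ∀ x : pk ⟶ G', ∃ g : pk ⟶ G, g ≫ π = x := BorelImage.exists_pt_lift π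
  -- the image of the radical
  obtain ⟨D, _, iD, qD, _, _, _, _, hqD, hDpts⟩ := exists_image (u ≫ π)
  haveI : IsAffine D.left := isAffine_of_isAffineHom iD.left
  haveI : IsReduced D.left := isReduced_of_smooth D.hom
  haveI : Mono iD := Over.mono_of_mono_left iD
  haveI := BorelCor.isMonHom_factor qD iD _ hqD
  have nD : Red.HasNoSubtorus k D := hasNoSubtorus_image nU qD hDpts
  have hnD : AlgGrp.IsNormalHom iD := UnipBasic.isNormalHom_of_pts iD fun g' d => by
    obtain ⟨g, rfl⟩ := hsurj g'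
    obtain ⟨x, rfl⟩ := hDpts d
    obtain ⟨x', hx'⟩ := hun pk g x
    refine ⟨x' ≫ qD, ?_⟩
    rw [Category.assoc, Category.assoc, hqD, ← Category.assoc, ← Category.assoc]
    show Φ g * Φ (x ≫ u) * (Φ g)⁻¹ = Φ (x' ≫ u)
    rw [← map_inv, ← map_mul, ← map_mul, ← hx']
  obtain ⟨QD, _, _, _, ψD, _, hQD⟩ := UnipBasic.exists_unip_coord D nD
  obtain ⟨fD, hfD⟩ := humax' D iD inferInstance hnD inferInstance inferInstance fun s => by
    refine ⟨?_, UnipBasic.hasNoSubtorus_bc hQD ψD _⟩
    haveI := GMod80.isIso_geomPt (k := k) s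
    haveI : IsIso (Limits.pullback.fst D.hom (Red.geomPt s)) := inferInstance
    exact (Limits.pullback.fst D.hom (Red.geomPt s)).homeomorph.symm.surjective.connectedSpace
      (Scheme.Hom.homeomorph _).symm.continuous
  haveI := BorelCor.isMonHom_factor fD u' iD hfD
  have hf : (qD ≫ fD) ≫ u' = u ≫ π := by rw [Category.assoc, hfD, hqD]
  -- the preimage of the radical of the image
  obtain ⟨Y, b, y, hYl, -, hYf, hYs, hYp⟩ := QuotSub.exists_quotient G' U' u'
  have hY : AGF.IsQuotient u' Y b y := ⟨hYl, hYf, hYs, hYp⟩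
  haveI : IsSeparated Y.hom := BorelOps.isSeparated_quotient u' hY
  let a : AlgGrp.Action G Y := actRestrict b π
  obtain ⟨Hx, _, i, _, _, sq⟩ := BorelFixed.exists_isotropy a y
  haveI : LocallyOfFiniteType Hx.hom := by rw [← Over.w i]; infer_instance
  haveI : QuasiCompact Hx.hom := by rw [← Over.w i]; infer_instance
  haveI : Mono i := Over.mono_of_mono_left i
  have hmem : ∀ g : pk ⟶ G, (∃ h : pk ⟶ Hx, h ≫ i = g) ↔ ∃ x : pk ⟶ U', x ≫ u' = g ≫ π := by
    intro g
    have ho : g ≫ a.orbitMap y = (g ≫ π) ≫ b.orbitMap y := by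
      rw [AGF80.Orbit.comp_orbitMap, AGF80.Orbit.comp_orbitMap]
      show lift g _ ≫ (π ▷ _) ≫ b.act = _
      rw [lift_whiskerRight_assoc]
    have h1 : (1 : pk ⟶ G') ≫ b.orbitMap y = y := by
      rw [AGF80.Orbit.comp_orbitMap, b.lift_one_act, toUnit_unique (toUnit _) (𝟙 _), Category.id_comp]
    constructor
    · rintro ⟨h, rfl⟩
      obtain ⟨x, hx⟩ := (QuotTrans.coset_iff hY 1 ((h ≫ i) ≫ π)).1 (by
        rw [h1, ← ho, Category.assoc, sq.w, ← Category.assoc, toUnit_unique (h ≫ toUnit Hx) (𝟙 _), Category.id_comp])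
      exact ⟨x, by rw [← hx, _root_.one_mul]⟩
    · rintro ⟨x, hx⟩
      refine ⟨sq.lift g (toUnit _) ?_, sq.lift_fst _ _ _⟩
      rw [ho, toUnit_unique (toUnit _) (𝟙 pk), Category.id_comp]
      exact ((QuotTrans.coset_iff hY 1 (g ≫ π)).2 ⟨x, by rw [_root_.one_mul, hx]⟩).symm.trans h1
  obtain ⟨K, _, r, _, _, _, _, hr⟩ := UnipPart.exists_smooth_component Hx
  obtain ⟨F, hF⟩ := UnipPart.exists_finite_reps r hr
  let kk : K ⟶ G := r ≫ i
  haveI : IsClosedImmersion kk.left := inferInstanceAs (IsClosedImmersion (r.left ≫ i.left))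
  haveI : IsMonHom kk := inferInstanceAs (IsMonHom (r ≫ i))
  haveI : IsAffine K.left := isAffine_of_isAffineHom kk.left
  haveI : IsReduced K.left := isReduced_of_smooth K.hom
  haveI : Mono kk := Over.mono_of_mono_left kk
  obtain ⟨πK, hπK⟩ := BorelCor.exists_factor_of_pts (kk ≫ π) u' fun x => by
    rw [← Category.assoc]
    exact (hmem _).1 ⟨x ≫ r, Category.assoc _ _ _⟩
  haveI := BorelCor.isMonHom_factor πK u' (kk ≫ π) hπK
  -- the preimage is normal
  have hnorm : ∀ g : pk ⟶ G, ∃ c : K ⟶ K, c ≫ kk = AGF.conjBy g kk := by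
    intro g
    haveI := BorelConj.isMonHom_conjBy g kk
    obtain ⟨c₁, hc₁⟩ := BorelCor.exists_factor_of_pts (AGF.conjBy g kk) i fun x => (hmem _).2 <| by
      obtain ⟨z, hz⟩ := hun' pk (g ≫ π) (x ≫ πK)
      refine ⟨z, ?_⟩
      rw [← hz, BorelTori.pt_comp_conjBy, Category.assoc, hπK, ← Category.assoc]
      show Φ g * Φ (x ≫ kk) * (Φ g)⁻¹ = Φ _
      rw [← map_inv, ← map_mul, ← map_mul]
    haveI := BorelCor.isMonHom_factor c₁ i _ hc₁
    obtain ⟨c, hc⟩ := UnipExist.exists_factor_component c₁ r hr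
    exact ⟨c, by rw [show kk = r ≫ i from rfl, ← Category.assoc, hc, hc₁]⟩
  -- points of the radical of the image come from the preimage
  obtain ⟨D', _, iD', qD', _, _, _, _, hqD', hD'pts⟩ := exists_image πK
  haveI : IsReduced (pk).left := inferInstanceAs (IsReduced (Spec (CommRingCat.of k)))
  have honto : ∀ x : pk ⟶ U', ∃ z : pk ⟶ D', z ≫ iD' = x := by
    classical
    have hFπ : ∀ f : pk ⟶ Hx, ∃ z : pk ⟶ U', z ≫ u' = (f ≫ i) ≫ π := fun f => (hmem _).1 ⟨f, rfl⟩
    choose φ hφ using hFπ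
    refine fun x => mem_of_cover iD' (F.image φ) (fun x => ?_) x
    obtain ⟨g, hg⟩ := hsurj (x ≫ u')
    obtain ⟨h, hh⟩ := (hmem g).2 ⟨x, hg.symm⟩
    obtain ⟨f, hf, z, hz⟩ := hF h
    refine ⟨φ f, Finset.mem_image_of_mem _ hf, z ≫ qD', ?_⟩
    rw [Category.assoc, hqD', ← cancel_mono u', MonObj.mul_comp _ _ u', hφ, Category.assoc z πK u', hπK,
      ← Category.assoc z kk π, ← MonObj.mul_comp _ _ π]
    rw [show (f ≫ i) * (z ≫ kk) = h ≫ i by rw [hz, MonObj.mul_comp _ _ i, Category.assoc], hh, hg]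
  -- the radical of the preimage lies in the radical
  obtain ⟨W, _, w, _, _, _, _, hnW, nW, hmW⟩ := UnipExist.exists_unipRad K
  have hW : Par.IsUnipotentRadical w := UnipBasic.isUnipotentRadical_of_largest w hnW nW
    fun V _ v _ h1 h2 h3 h4 h5 => hmW V v h1 h2 h3 h4 h5
  haveI : IsAffine W.left := isAffine_of_isAffineHom w.left
  haveI : IsReduced W.left := isReduced_of_smooth W.hom
  haveI : IsClosedImmersion (w ≫ kk).left := inferInstanceAs (IsClosedImmersion (w.left ≫ kk.left))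
  have hnWG : AlgGrp.IsNormalHom (w ≫ kk) := UnipBasic.isNormalHom_of_pts (w ≫ kk) fun g x => by
    obtain ⟨c, hc⟩ := hnorm g
    haveI := BorelConj.isMonHom_conjBy g kk
    haveI := BorelCor.isMonHom_factor c kk _ hc
    haveI : IsClosedImmersion (w ≫ c).left := by
      haveI := BorelConj.isClosedImmersion_conjBy g (w ≫ kk)
      have : IsClosedImmersion ((w ≫ c).left ≫ kk.left) := by
        rw [← Over.comp_left, Category.assoc, hc, BorelConj.comp_conjBy]; infer_instance
      exact IsClosedImmersion.of_comp (w ≫ c).left kk.left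
    obtain ⟨f, hf⟩ := hmW W (w ≫ c) inferInstance inferInstance inferInstance
      (UnipBasic.isNormalHom_of_pts (w ≫ c) fun z x => by
        obtain ⟨c', hc'⟩ := hnorm g⁻¹
        obtain ⟨x', hx'⟩ := hnW pk (z ≫ c') x
        refine ⟨x', ?_⟩
        rw [← cancel_mono kk, MonObj.mul_comp _ _ kk, MonObj.mul_comp _ _ kk, GrpObj.inv_comp]
        simp only [Category.assoc, hc, BorelTori.pt_comp_conjBy, BorelConj.comp_conjBy]
        have h2 : (z ≫ c' * (x ≫ w) * (z ≫ c')⁻¹) ≫ kk = (x' ≫ w) ≫ kk := by rw [hx']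
        rw [MonObj.mul_comp _ _ kk, MonObj.mul_comp _ _ kk, GrpObj.inv_comp, Category.assoc z c' kk, hc',
          BorelTori.pt_comp_conjBy, _root_.inv_inv] at h2
        rw [← Category.assoc x' w kk, ← h2, ← Category.assoc x w kk]
        group) nW
    refine ⟨x ≫ f, ?_⟩
    rw [Category.assoc, ← Category.assoc f w kk, hf, Category.assoc w c kk, hc, BorelConj.comp_conjBy,
      BorelTori.pt_comp_conjBy]
  obtain ⟨QW, _, _, _, ψW, _, hQW⟩ := UnipBasic.exists_unip_coord W nW
  obtain ⟨fW, hfW⟩ := humax W (w ≫ kk) inferInstance hnWG inferInstance inferInstance fun s => by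
    refine ⟨?_, UnipBasic.hasNoSubtorus_bc hQW ψW _⟩
    haveI := GMod80.isIso_geomPt (k := k) s
    haveI : IsIso (Limits.pullback.fst W.hom (Red.geomPt s)) := inferInstance
    exact (Limits.pullback.fst W.hom (Red.geomPt s)).homeomorph.symm.surjective.connectedSpace
      (Scheme.Hom.homeomorph _).symm.continuous
  -- a Cartan subgroup of the preimage
  obtain ⟨B, _, iB, hB⟩ := BorelCor.exists_borel K
  obtain ⟨T, _, iT, j, hji, hmax, -, -, -⟩ := BorelTorus.main K iB hB
  obtain ⟨hTm, hTmono, hTt, -⟩ := id hmax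
  haveI := hTm
  haveI := hTmono
  have hTcl := BorelCor.isClosedImmersion_torus K hTt iT
  obtain ⟨⟨C, _, c, hc, -, -⟩, -⟩ := Groth.Agent.S3006.result _ K T iT hTcl hTt
  obtain ⟨O, hO, hOpts⟩ := CartanDense.exists_open_pts K hmax hc
  have hZ : ∀ x : pk ⟶ K, x.left (IsLocalRing.closedPoint k) ∈ O → ∃ d : pk ⟶ D, d ≫ iD = x ≫ kk ≫ π := by
    intro x hx
    obtain ⟨g, z, hgz⟩ := hOpts x hx
    obtain ⟨s, v, hsv⟩ := cent_pts K hW hmax hc z
    have hs1 : s ≫ iT ≫ πK = 1 := hom_torus_unip hTt nU' (iT ≫ πK) s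
    let Ψ : (pk ⟶ K) →* (pk ⟶ G') := MonoidHom.mk' (fun x => x ≫ kk ≫ π) fun x y => MonObj.mul_comp x y (kk ≫ π)
    have hv : Ψ (v ≫ w) = ((v ≫ fW) ≫ qD) ≫ iD := by
      show (v ≫ w) ≫ kk ≫ π = _
      simp only [Category.assoc]
      rw [hqD, reassoc_of% hfW]
    have hzim : Ψ (z ≫ c) = ((v ≫ fW) ≫ qD) ≫ iD := by
      rw [hsv, map_mul, show Ψ (s ≫ iT) = 1 from ?_, _root_.one_mul, hv]
      show (s ≫ iT) ≫ kk ≫ π = 1
      rw [← hπK, ← Category.assoc, Category.assoc s iT πK, hs1, MonObj.one_comp]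
    obtain ⟨d, hd⟩ := hnD pk (Ψ g) ((v ≫ fW) ≫ qD)
    refine ⟨d, ?_⟩
    rw [← hd, ← hzim, ← map_inv, ← map_mul, ← map_mul, hgz]
    rfl
  -- every rational point of the preimage maps into the image of the radical
  haveI : IrreducibleSpace K.left := by
    have hirr := (Grp57.connectedComponent_unit K).1
    rw [PreconnectedSpace.connectedComponent_eq_univ] at hirr
    exact { isPreirreducible_univ := hirr.2, toNonempty := inferInstance }
  have hall : ∀ x : pk ⟶ K, ∃ d : pk ⟶ D, d ≫ iD = x ≫ kk ≫ π := by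
    intro x
    let R : Set K.left := (kk ≫ π).left ⁻¹' Set.range iD.left
    have hR : IsClosed R := iD.left.isClosedEmbedding.isClosed_range.preimage (kk ≫ π).left.continuous
    have hsub : (O : Set K.left) ⊆ R := by
      intro q hq
      by_contra hqR
      haveI : JacobsonSpace K.left := LocallyOfFiniteType.jacobsonSpace K.hom
      obtain ⟨q', ⟨hq'O, hq'R⟩, hq'c⟩ := nonempty_inter_closedPoints (Z := (O : Set K.left) ∩ Rᶜ) ⟨q, hq, hqR⟩
        (O.2.isLocallyClosed.inter hR.isOpen_compl.isLocallyClosed)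
      obtain ⟨p, hp⟩ := ptVal_eq q' hq'c
      obtain ⟨d, hd⟩ := hZ p (hp.symm ▸ hq'O)
      exact hq'R ⟨d.left (IsLocalRing.closedPoint k), by
        rw [← Scheme.Hom.comp_apply, ← Over.comp_left, hd, Over.comp_left, Scheme.Hom.comp_apply, hp]⟩
    have huniv : R = Set.univ :=
      Set.eq_univ_of_univ_subset ((O.2.dense hO).closure_eq.ge.trans (closure_minimal hsub hR))
    obtain ⟨d, hd⟩ := exists_lift_of_range_subset iD (x ≫ kk ≫ π) (by
      rintro _ ⟨z, rfl⟩
      have h : x.left z ∈ R := by rw [huniv]; trivial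
      exact h)
    exact ⟨d, hd⟩
  have hpts : ∀ x : pk ⟶ U', ∃ v : pk ⟶ U, v ≫ qD ≫ fD = x := by
    intro x
    obtain ⟨z, hz⟩ := honto x
    obtain ⟨y', hy'⟩ := hD'pts z
    obtain ⟨d, hd⟩ := hall y'
    obtain ⟨v, hv⟩ := hDpts d
    refine ⟨v, ?_⟩
    rw [← Category.assoc, hv, ← cancel_mono u', Category.assoc, hfD, hd, ← hπK, ← Category.assoc]
    congr 1
    rw [← hz, ← hqD', ← Category.assoc, hy']
  refine ⟨qD ≫ fD, hf, ?_⟩
  let e : Over.mk (Spec.map (CommRingCat.ofHom (algebraMap k k))) ≅ pk := Over.isoMk (Iso.refl _) (by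
    show 𝟙 _ ≫ 𝟙 _ = Spec.map (CommRingCat.ofHom (algebraMap k k))
    rw [Category.id_comp]; exact (Spec.map_id _).symm)
  exact AlgGrp79.surjective_of_pts (K := k) _ fun y => by
    obtain ⟨v, hv⟩ := hpts (e.inv ≫ y)
    exact ⟨e.hom ≫ v, by rw [Category.assoc, hv, Iso.hom_inv_id_assoc]⟩

end Groth.Agent.AGF80.Luna
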