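import Groth.Agent.AGF80.Luna.CentreFinite
import Groth.Agent.AGF80.Luna.RadImage
import Groth.Agent.FibCrit57.GrpField

/-!
Images and isogenies of semisimple and reductive groups.
-/

set_option autoImplicit false
set_option linter.unusedSectionVars false
set_option linter.style.haveILetI false
set_option backward.isDefEq.respectTransparency.types false
set_option synthInstance.maxHeartbeats 200000

universe u

open CategoryTheory MonoidalCategory CartesianMonoidalCategory MonObj GrpObj AlgebraicGeometry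
open Groth.Agent.GMod80

noncomputable section

namespace Groth.Agent.AGF80.Luna

open AlgGrp79

variable {k : Type u} [Field k]

local notation "pk" => 𝟙_ (Over (Spec (CommRingCat.of k)))

/-- The target of a surjective homomorphism from a smooth affine group is affine. -/
theorem isAffine_target {G Q : Over (Spec (CommRingCat.of k))} [GrpObj G] [GrpObj Q] [IsAffine G.left] [Smooth G.hom]
    [Smooth Q.hom] (q : G ⟶ Q) [IsMonHom q] [Surjective q.left] : IsAffine Q.left := by
  haveI := isSeparated_grp Q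
  haveI : IsReduced Q.left := AlgGrp79.isReduced_of_smooth Q.hom
  haveI := FibCrit57.flat_of_surjective_of_reduced q
  haveI : QuasiCompact Q.hom := by
    haveI : QuasiCompact (q.left ≫ Q.hom) := by rw [Over.w q]; infer_instance
    refine ⟨fun U hU hU' => ?_⟩
    rw [← Set.image_preimage_eq (Q.hom ⁻¹' U) q.left.surjective]
    exact (QuasiCompact.isCompact_preimage (f := q.left ≫ Q.hom) U hU hU').image q.left.continuous
  have h1 : IsClosedImmersion (η[Q] : pk ⟶ Q).left :=
    RedPts82.isClosedImmersion_section _ (toUnit _) (toUnit_unique _ _)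
  haveI := h1
  haveI : Mono (η[Q] : pk ⟶ Q) := Over.mono_of_mono_left _
  let N := Limits.pullback q (η[Q] : pk ⟶ Q)
  let i : N ⟶ G := Limits.pullback.fst _ _
  have sq : IsPullback i (toUnit N) q (η[Q] : pk ⟶ Q) := by
    rw [toUnit_unique (toUnit N) (Limits.pullback.snd q (η[Q] : pk ⟶ Q))]; exact IsPullback.of_hasPullback _ _
  haveI : IsClosedImmersion i.left := MorphismProperty.of_isPullback (AlgGrp79.isPullback_left sq).flip h1
  haveI : Mono i := Over.mono_of_mono_left i
  have hone : ∀ (T : Over (Spec (CommRingCat.of k))) (g : T ⟶ G), (∃ n, n ≫ i = g) ↔ g ≫ q = 1 := by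
    intro T g
    refine ⟨fun ⟨n, hn⟩ => ?_, fun h => ⟨sq.lift g (toUnit T) (by rw [h]; rfl), sq.lift_fst _ _ _⟩⟩
    rw [← hn, Category.assoc, sq.w, ← Category.assoc, toUnit_unique (n ≫ toUnit N) (toUnit T)]
    rfl
  obtain ⟨_, _⟩ := AlgGrp79.exists_grpObj_closed i ((hone pk (𝟙 _ ≫ η[G])).2 (by
      rw [Category.id_comp, ← Category.id_comp (η[G] : pk ⟶ G), toUnit_unique (𝟙 pk) (toUnit pk), ← Hom.one_def,
        MonObj.one_comp]) |>.imp fun n hn => by rw [hn]; simp)
    (fun T a b => (hone T _).2 (by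
      rw [MonObj.mul_comp _ _ q, GrpObj.inv_comp, (hone T (a ≫ i)).1 ⟨a, rfl⟩, (hone T (b ≫ i)).1 ⟨b, rfl⟩, inv_one,
        _root_.one_mul]))
  have hn : AlgGrp.IsNormalHom i := fun T g n => by
    obtain ⟨n', hn'⟩ := (hone T (g * (n ≫ i) * g⁻¹)).2 (by
      rw [MonObj.mul_comp _ _ q, MonObj.mul_comp _ _ q, GrpObj.inv_comp, (hone T (n ≫ i)).1 ⟨n, rfl⟩, _root_.mul_one,
        mul_inv_cancel])
    exact ⟨n', hn'.symm⟩
  obtain ⟨Q₀, _, q₀, hq₀, hQa, hQl, hf₀, hs₀, hker₀⟩ := AlgGrp79.AffineQuot.exists_quotient i hn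
  haveI := hq₀
  haveI := hQa
  haveI := hQl
  haveI := hf₀
  haveI := hs₀
  haveI : QuasiCompact Q₀.hom := inferInstance
  have hone₀ : ∀ (T : Over (Spec (CommRingCat.of k))) (g : T ⟶ G), (∃ n, n ≫ i = g) ↔ g ≫ q₀ = 1 := by
    intro T g
    refine ⟨fun ⟨n, hn⟩ => ?_, fun h => ⟨hker₀.lift g (toUnit T) (by rw [h]; rfl), hker₀.lift_fst _ _ _⟩⟩
    rw [← hn, Category.assoc, hker₀.w, ← Category.assoc, toUnit_unique (n ≫ toUnit N) (toUnit T)]
    rfl
  have hp := AlgGrp79.isCov_of_flat_surjective q₀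
  have hq := AlgGrp79.isCov_of_flat_surjective q
  have hfib : ∀ (T : Over (Spec (CommRingCat.of k))) (s t : T ⟶ G), s ≫ q₀ = t ≫ q₀ ↔ s ≫ q = t ≫ q := fun T s t => by
      have key : s⁻¹ * t ≫ 𝟙 G = s⁻¹ * t := by rw [Category.comp_id]
      have h₁ : ∀ {P : Over (Spec (CommRingCat.of k))} [GrpObj P] (f : G ⟶ P) [IsMonHom f],
          s ≫ f = t ≫ f ↔ (s⁻¹ * t) ≫ f = 1 := fun f _ => by
        rw [MonObj.mul_comp _ _ f, GrpObj.inv_comp, inv_mul_eq_one]
      rw [h₁ q₀, h₁ q, ← hone₀, hone]
  obtain ⟨u, hu⟩ := hp.desc q fun T s t e => (hfib T s t).1 e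
  obtain ⟨v, hv⟩ := hq.desc q₀ fun T s t e => (hfib T s t).2 e
  haveI := hp.epi
  haveI := hq.epi
  let e : Q₀ ≅ Q := ⟨u, v, by rw [← cancel_epi q₀, reassoc_of% hu, hv, Category.comp_id],
    by rw [← cancel_epi q, reassoc_of% hv, hu, Category.comp_id]⟩
  haveI : IsIso e.hom.left := ((Over.forget _).mapIso e).isIso_hom
  exact IsAffine.of_isIso (inv e.hom.left)

/-- A homomorphism which is trivial on points from a connected group to a group is finite-kernel trivial. -/
theorem trivial_of_finite_kernel [IsAlgClosed k] {G G' U : Over (Spec (CommRingCat.of k))} [GrpObj G] [GrpObj G']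
    [GrpObj U] [LocallyOfFiniteType G'.hom] [QuasiCompact G'.hom] (φ : G' ⟶ G)
    (hker : Finite ↥(Limits.pullback φ.left (η[G] : pk ⟶ G).left)) (i : U ⟶ G') [IsMonHom i] [Mono i]
    [IsAffine U.left] [Smooth U.hom] [ConnectedSpace U.left] (h : ∀ p : pk ⟶ U, p ≫ i ≫ φ = 1) :
    Red.IsTrivialGrp U := by
  haveI : IsReduced U.left := AlgGrp79.isReduced_of_smooth U.hom
  let P := Limits.pullback φ.left (η[G] : pk ⟶ G).left
  let a : P ⟶ G'.left := Limits.pullback.fst _ _
  have hfin : (Set.univ : Set (pk ⟶ U)).Finite := by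
    refine Set.Finite.of_finite_image (f := fun p => (p ≫ i).left (IsLocalRing.closedPoint k))
      ((Set.finite_range a).subset ?_) fun p _ p' _ e => (cancel_mono i).1 (CAlg6.GrpWord.kpt_ext _ _ _ _ e)
    rintro _ ⟨p, -, rfl⟩
    have e : (p ≫ i).left ≫ φ.left = 𝟙 _ ≫ (η[G] : pk ⟶ G).left := by
      have hp := congrArg (fun m => m.left) (h p)
      rw [Hom.one_def, toUnit_unique (toUnit pk) (𝟙 _)] at hp
      simpa using hp
    refine ⟨(Limits.pullback.lift (p ≫ i).left (𝟙 _) e) (IsLocalRing.closedPoint k), ?_⟩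
    rw [← Scheme.Hom.comp_apply, Limits.pullback.lift_fst]
  haveI := isSeparated_grp U
  haveI : IsClosedImmersion (η[U] : pk ⟶ U).left := BorelFixed.rat_isClosedImmersion η[U]
  refine isTrivialGrp_of_pts fun p => ?_
  obtain ⟨d, hd⟩ := mem_of_cover (η[U] : pk ⟶ U) hfin.toFinset
    (fun x => ⟨x, by simp, 1, by rw [MonObj.one_comp, _root_.mul_one]⟩) p
  rw [← hd, show d = 1 from toUnit_unique _ _, MonObj.one_comp]

set_option maxHeartbeats 800000 in
/-- A group isogenous to a reductive (semisimple) group is reductive (semisimple), over an algebraically closed field. -/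
theorem isogeny_over [IsAlgClosed k] {G G' : Over (Spec (CommRingCat.of k))} [GrpObj G] [GrpObj G'] [IsAffine G'.left]
    [Smooth G'.hom] [ConnectedSpace G'.left] (φ : G' ⟶ G) [IsMonHom φ] [Surjective φ.left]
    (hker : Finite ↥(Limits.pullback φ.left (η[G] : pk ⟶ G).left)) (hG : Red.IsReductiveOver k G) :
    Red.IsReductiveOver k G' ∧ (Red.IsSemisimpleOver k G → Red.IsSemisimpleOver k G') := by
  obtain ⟨hGa, hGs, hGc, hU⟩ := id hG
  haveI := hGa
  haveI := hGs
  haveI := hGc
  haveI : IsReduced G.left := AlgGrp79.isReduced_of_smooth G.hom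
  have image : ∀ (V : Over (Spec (CommRingCat.of k))) [GrpObj V] (i : V ⟶ G') [IsMonHom i] [IsAffine V.left]
      [Smooth V.hom] [ConnectedSpace V.left], AlgGrp.IsNormalHom i →
      ∃ (D : Over (Spec (CommRingCat.of k))) (_ : GrpObj D) (iD : D ⟶ G) (qD : V ⟶ D), IsMonHom iD ∧
        IsClosedImmersion iD.left ∧ Smooth D.hom ∧ ConnectedSpace D.left ∧ qD ≫ iD = i ≫ φ ∧
        AlgGrp.IsNormalHom iD ∧ ∀ d : pk ⟶ D, ∃ x : pk ⟶ V, x ≫ qD = d := by
    intro V _ i _ _ _ _ hn
    obtain ⟨D, _, iD, qD, hiDm, hiDcl, hDs, hDc, hqD, hDpts⟩ := exists_image (i ≫ φ)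
    haveI := hiDm
    haveI := hiDcl
    haveI := hDs
    haveI : IsReduced D.left := AlgGrp79.isReduced_of_smooth D.hom
    refine ⟨D, inferInstance, iD, qD, hiDm, hiDcl, hDs, hDc, hqD, ?_, hDpts⟩
    refine UnipBasic.isNormalHom_of_pts iD fun g d => ?_
    obtain ⟨g', rfl⟩ := BorelImage.exists_pt_lift φ g
    obtain ⟨x, rfl⟩ := hDpts d
    obtain ⟨x', hx'⟩ := hn pk g' x
    refine ⟨x' ≫ qD, ?_⟩
    rw [Category.assoc, Category.assoc, hqD, ← Category.assoc, ← Category.assoc, ← hx', MonObj.mul_comp _ _ φ,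
      MonObj.mul_comp _ _ φ, GrpObj.inv_comp]
  have triv : ∀ (V : Over (Spec (CommRingCat.of k))) [GrpObj V] (i : V ⟶ G') [IsMonHom i] [IsClosedImmersion i.left]
      [Smooth V.hom] [ConnectedSpace V.left] (D : Over (Spec (CommRingCat.of k))) [GrpObj D] (iD : D ⟶ G) [IsMonHom iD]
      (qD : V ⟶ D), qD ≫ iD = i ≫ φ → Red.IsTrivialGrp D → Red.IsTrivialGrp V := by
    intro V _ i _ _ _ _ D _ iD _ qD hqD hD
    haveI : IsAffine V.left := isAffine_of_isAffineHom i.left
    haveI : Mono i := Over.mono_of_mono_left i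
    haveI : IsIso D.hom := hD
    refine trivial_of_finite_kernel φ hker i fun p => ?_
    have h1 : p ≫ qD = 1 := Over.OverMorphism.ext ((cancel_mono D.hom).1 (by simp))
    rw [← hqD, ← Category.assoc, h1, MonObj.one_comp]
  have hred : Red.IsReductiveOver k G' := by
    refine ⟨inferInstance, inferInstance, inferInstance, fun U _ i _ hcl hs hUc hn nU => ?_⟩
    haveI := hcl
    haveI := hs
    haveI := hUc
    haveI : IsAffine U.left := isAffine_of_isAffineHom i.left
    obtain ⟨D, _, iD, qD, hiDm, hiDcl, hDs, hDc, hqD, hnD, hDpts⟩ := image U i hn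
    haveI := hiDm
    haveI := hiDcl
    haveI := hDs
    haveI : IsAffine D.left := isAffine_of_isAffineHom iD.left
    haveI : IsMonHom (i ≫ φ) := inferInstance
    haveI : Mono iD := Over.mono_of_mono_left iD
    haveI := BorelCor.isMonHom_factor qD iD _ hqD
    exact triv U i D iD qD hqD (hU D iD hiDcl hDs hDc hnD (hasNoSubtorus_image nU qD hDpts))
  refine ⟨hred, fun hS => ⟨hred, fun T _ i _ hcl hn hT => ?_⟩⟩
  haveI := hcl
  obtain ⟨hTs, _, hTa, hTc, hTcm⟩ := AlgGrp33.IsogSub.torus_props hT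
  haveI := hTs
  haveI := hTa
  haveI := hTc
  obtain ⟨D, _, iD, qD, hiDm, hiDcl, hDs, hDc, hqD, hnD, hDpts⟩ := image T i hn
  haveI := hiDm
  haveI := hiDcl
  haveI := hDs
  haveI := hDc
  haveI : Mono iD := Over.mono_of_mono_left iD
  haveI : IsAffine D.left := isAffine_of_isAffineHom iD.left
  haveI := BorelCor.isMonHom_factor qD iD _ hqD
  haveI : Group.IsSolvable (pk ⟶ D) :=
    haveI : Group.IsSolvable (pk ⟶ T) := by
      obtain ⟨n, hn'⟩ := BorelCor.isSolvableGrp_torus hT
      exact ⟨⟨n, hn' _⟩⟩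
    solvable_of_surjective (f := MonoidHom.mk' (fun x : pk ⟶ T => x ≫ qD) fun a b => MonObj.mul_comp a b qD) hDpts
  have hsolv := BorelConj.isSolvableGrp_of_pts D
  exact triv T i D iD qD hqD (hS.2 D iD hiDcl hnD (Reductive.normal_solvable_isTorus hG iD hsolv hnD))

/-- The geometric kernel of a homomorphism with finite kernel is finite. -/
theorem finite_bc_kernel {L : Type u} [Field L] (σ : Spec (CommRingCat.of L) ⟶ Spec (CommRingCat.of k))
    {G G' : Over (Spec (CommRingCat.of k))} [GrpObj G] [LocallyOfFiniteType G'.hom] [QuasiCompact G'.hom] (φ : G' ⟶ G)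
    (hker : Finite ↥(Limits.pullback φ.left (η[G] : pk ⟶ G).left)) :
    Finite ↥(Limits.pullback ((Over.pullback σ).map φ).left
      (η[Red.bc σ G] : 𝟙_ (Over (Spec (CommRingCat.of L))) ⟶ Red.bc σ G).left) := by
  haveI := isSeparated_grp G
  let K := Limits.pullback φ (η[G] : pk ⟶ G)
  let a : K ⟶ G' := Limits.pullback.fst _ _
  have sq : IsPullback a (toUnit K) φ (η[G] : pk ⟶ G) := by
    rw [toUnit_unique (toUnit K) (Limits.pullback.snd φ (η[G] : pk ⟶ G))]; exact IsPullback.of_hasPullback _ _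
  haveI : IsClosedImmersion (η[G] : pk ⟶ G).left :=
    RedPts82.isClosedImmersion_section _ (toUnit _) (toUnit_unique _ _)
  haveI : IsClosedImmersion a.left := MorphismProperty.of_isPullback (AlgGrp79.isPullback_left sq).flip inferInstance
  haveI : LocallyOfFiniteType K.hom := by rw [← Over.w a]; infer_instance
  haveI : QuasiCompact K.hom := by rw [← Over.w a]; infer_instance
  haveI : Finite K.left := Finite.of_surjective _ (AlgGrp79.isPullback_left sq).isoPullback.inv.homeomorph.surjective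
  haveI : LocallyQuasiFinite K.hom := locallyQuasiFinite_iff_finite_preimage_singleton.2 fun _ => Set.toFinite _
  haveI : LocallyQuasiFinite (Red.bc σ K).hom := MorphismProperty.pullback_snd (P := @LocallyQuasiFinite) _ _ ‹_›
  haveI : QuasiCompact (Red.bc σ K).hom := MorphismProperty.pullback_snd (P := @QuasiCompact) _ _ ‹_›
  haveI : Finite (Red.bc σ K).left :=
    Set.finite_univ_iff.1 (((Red.bc σ K).hom.finite_preimage_singleton (IsLocalRing.closedPoint L)).subset
      fun z _ => Subsingleton.elim (α := PrimeSpectrum L) _ _)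
  have sq' := sq.map (Over.pullback σ)
  let ε := Functor.LaxMonoidal.ε (Over.pullback σ)
  haveI : IsIso ε := inferInstance
  have e : ε ≫ (Over.pullback σ).map (η[G] : pk ⟶ G) = (η[Red.bc σ G] : 𝟙_ _ ⟶ Red.bc σ G) :=
    (Functor.obj.η_def (F := Over.pullback σ) G).symm
  let P := Limits.pullback ((Over.pullback σ).map φ).left (η[Red.bc σ G] : 𝟙_ _ ⟶ Red.bc σ G).left
  have h := Limits.pullback.condition (f := ((Over.pullback σ).map φ).left)
    (g := (η[Red.bc σ G] : 𝟙_ _ ⟶ Red.bc σ G).left)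
  let l : P ⟶ (Red.bc σ K).left := (AlgGrp79.isPullback_left sq').lift (Limits.pullback.fst _ _)
    (Limits.pullback.snd _ _ ≫ ε.left) (by rw [Category.assoc, ← Over.comp_left, e]; exact h)
  haveI : IsIso ε.left := ((Over.forget _).mapIso (asIso ε)).isIso_hom
  haveI : Mono ε.left := inferInstance
  haveI : IsSeparated (Red.bc σ G).hom := isSeparated_grp _
  haveI : IsClosedImmersion (η[Red.bc σ G] : 𝟙_ _ ⟶ Red.bc σ G).left :=
    RedPts82.isClosedImmersion_section _ (toUnit _) (toUnit_unique _ _)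
  refine Finite.of_injective l fun x y hxy => ?_
  apply (Limits.pullback.fst ((Over.pullback σ).map φ).left
    (η[Red.bc σ G] : 𝟙_ _ ⟶ Red.bc σ G).left).isClosedEmbedding.injective
  rw [← (AlgGrp79.isPullback_left sq').lift_fst (Limits.pullback.fst _ _) (Limits.pullback.snd _ _ ≫ ε.left)
    (by rw [Category.assoc, ← Over.comp_left, e]; exact h)]
  exact congrArg (((Over.pullback σ).map a).left) hxy

/-- A group isogenous to a reductive (semisimple) group is reductive (semisimple). -/
theorem isogeny {G G' : Over (Spec (CommRingCat.of k))} [GrpObj G] [GrpObj G'] [IsAffine G'.left] [Smooth G'.hom]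
    [ConnectedSpace G'.left] (φ : G' ⟶ G) [IsMonHom φ] [Surjective φ.left]
    (hker : Finite ↥(Limits.pullback φ.left (η[G] : pk ⟶ G).left)) (hG : Red.IsReductive G) :
    Red.IsReductive G' ∧ (Red.IsSemisimple G → Red.IsSemisimple G') := by
  have main : ∀ s : Spec (CommRingCat.of k), Red.IsReductiveOver _ (Red.geomFibre s G') ∧
      (Red.IsSemisimpleOver _ (Red.geomFibre s G) → Red.IsSemisimpleOver _ (Red.geomFibre s G')) := by
    intro s
    let σ := Red.geomPt s
    haveI := GeomSub.isAffine_bc σ G'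
    haveI := GeomSub.smooth_bc σ G'
    haveI : ConnectedSpace (Red.bc σ G').left := BorelDesc.connectedSpace_bc σ
    haveI : Surjective ((Over.pullback σ).map φ).left :=
      MorphismProperty.of_isPullback (RedPts82.isPullback_bc_map φ σ) ‹Surjective φ.left›
    refine isogeny_over ((Over.pullback σ).map φ) ?_ (hG.2.2 s)
    exact finite_bc_kernel σ φ hker
  exact ⟨⟨inferInstance, inferInstance, fun s => (main s).1⟩,
    fun hS => ⟨inferInstance, inferInstance, fun s => (main s).2 (hS.2.2 s)⟩⟩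

/-- A smooth quotient of a semisimple group is semisimple. -/
theorem isSemisimple_image {G G' : Over (Spec (CommRingCat.of k))} [GrpObj G] [GrpObj G'] (hG : Red.IsSemisimple G)
    [Smooth G'.hom] (q : G ⟶ G') [IsMonHom q] [Surjective q.left] : Red.IsSemisimple G' := by
  haveI := hG.1
  haveI := hG.2.1
  haveI : IsAffine G.left := isAffine_of_isAffineHom G.hom
  haveI : IsAffine G'.left := isAffine_target q
  refine ⟨inferInstance, inferInstance, fun s => ?_⟩
  let σ := Red.geomPt s
  obtain ⟨hGb, hGbs, hGbc, hU⟩ := (hG.2.2 s).1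
  haveI := hGb
  haveI := hGbs
  haveI := hGbc
  haveI := GeomSub.isAffine_bc σ G'
  haveI := GeomSub.smooth_bc σ G'
  let q' := (Over.pullback σ).map q
  haveI hq' : Surjective q'.left :=
    MorphismProperty.of_isPullback (RedPts82.isPullback_bc_map q σ) ‹Surjective q.left›
  haveI : ConnectedSpace (Red.bc σ G').left := q'.left.surjective.connectedSpace q'.left.continuous
  haveI : IsReduced (Red.bc σ G').left := AlgGrp79.isReduced_of_smooth (Red.bc σ G').hom
  obtain ⟨U, _, u, hum, hucl, hus, huc, hn, nU, hmax⟩ := UnipExist.exists_unipRad (Red.bc σ G)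
  haveI := hum
  haveI := hucl
  haveI := hus
  haveI := huc
  have hUR : Par.IsUnipotentRadical u := UnipBasic.isUnipotentRadical_of_largest u hn nU
    fun V _ v _ h1 h2 h3 h4 h5 => hmax V v h1 h2 h3 h4 h5
  obtain ⟨U', _, u', hum', hucl', hus', huc', hn', nU', hmax'⟩ := UnipExist.exists_unipRad (Red.bc σ G')
  haveI := hum'
  haveI := hucl'
  haveI := hus'
  haveI := huc'
  have hUR' : Par.IsUnipotentRadical u' := UnipBasic.isUnipotentRadical_of_largest u' hn' nU'
    fun V _ v _ h1 h2 h3 h4 h5 => hmax' V v h1 h2 h3 h4 h5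
  obtain ⟨f, hfu, hf⟩ := unipRad_map q' hUR hUR'
  haveI := hf
  haveI : IsAffine U'.left := isAffine_of_isAffineHom u'.left
  haveI : IsAffine U.left := isAffine_of_isAffineHom u.left
  haveI : IsReduced U'.left := AlgGrp79.isReduced_of_smooth U'.hom
  haveI : IsIso U.hom := hU U u hucl hus huc hn nU
  have htriv : Red.IsTrivialGrp U' := isTrivialGrp_of_pts fun p => by
    obtain ⟨a, rfl⟩ := BorelImage.exists_pt_lift f p
    have ha : a = 1 := Over.OverMorphism.ext ((cancel_mono U.hom).1 (by simp))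
    have e : (1 : 𝟙_ _ ⟶ U) ≫ f = 1 := by
      haveI : Mono u' := Over.mono_of_mono_left u'
      rw [← cancel_mono u', Category.assoc, hfu, ← Category.assoc, MonObj.one_comp, MonObj.one_comp, MonObj.one_comp]
    rw [ha, e]
  have hred : Red.IsReductiveOver _ (Red.bc σ G') := by
    refine ⟨inferInstance, inferInstance, inferInstance, fun V _ v _ hcl hs hc hnv nV => ?_⟩
    haveI := hcl
    obtain ⟨g, hg⟩ := hmax' V v hcl hs hc hnv nV
    haveI : Mono v := Over.mono_of_mono_left v
    haveI : Mono (g ≫ u') := by rw [hg]; infer_instance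
    haveI : Mono g := mono_of_mono g u'
    exact Reductive.isTrivialGrp_of_mono g htriv
  refine ⟨hred, fun T _ i _ hcl hn hT => ?_⟩
  haveI := hcl
  haveI : Mono i := Over.mono_of_mono_left i
  obtain ⟨hTs, _, _, _, _⟩ := AlgGrp33.IsogSub.torus_props hT
  haveI := hTs
  haveI : IsReduced T.left := AlgGrp79.isReduced_of_smooth T.hom
  refine isTrivialGrp_of_pts (central_torus_trivial i hT
    (fun t g => Reductive.normal_torus_central hT i hn _ g t) fun t χ hχ => ?_)
  haveI := hχ
  obtain ⟨a, ha⟩ := BorelImage.exists_pt_lift q' (t ≫ i)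
  rw [← Category.assoc, ← ha, Category.assoc, hom_comm_eq_one (hG.2.2 s) (q' ≫ χ), MonObj.comp_one]

end Groth.Agent.AGF80.Luna
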