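import Groth.Agent.AGF80.Luna.Main
import Groth.Agent.AGF80.Luna.Red
import Groth.Agent.AGF80.Reductive
import Groth.Agent.AlgGrp79.TorusPts

/-!
One-parameter subgroups fixed by the Weyl group lie in every Borel subgroup.
-/

set_option autoImplicit false
set_option linter.unusedSectionVars false
set_option linter.style.haveILetI false
set_option backward.isDefEq.respectTransparency.types false
set_option synthInstance.maxHeartbeats 200000

universe u

open CategoryTheory MonoidalCategory CartesianMonoidalCategory MonObj GrpObj AlgebraicGeometry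
open scoped TensorProduct
open LaurentPolynomial WithConv Matrix Groth.Agent.GMod80

noncomputable section

namespace Groth.Agent.AGF80.Luna

open Comod33 Comod33.Mat AlgGrp79

variable {k : Type u} [Field k] [IsAlgClosed k]

local notation "pk" => 𝟙_ (Over (Spec (CommRingCat.of k)))
local notation "𝔾" => sp k (LaurentPolynomial k)

/-- Rational points of the multiplicative group from nonzero scalars. -/
theorem exists_gm_pt {x : k} (hx : x ≠ 0) :
    ∃ s : Conn.Pt k (LaurentPolynomial k), ∀ e : ℤ, s.ofConv (AddMonoidAlgebra.single e 1) = x ^ e := by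
  refine ⟨toConv (AddMonoidAlgebra.lift k k ℤ
    { toFun := fun e => x ^ Multiplicative.toAdd e
      map_one' := by simp
      map_mul' := fun a b => by rw [toAdd_mul, zpow_add₀ hx] }), fun e => ?_⟩
  show AddMonoidAlgebra.lift k k ℤ _ (AddMonoidAlgebra.single e 1) = _
  rw [AddMonoidAlgebra.lift_single, one_smul]
  rfl

/-- Evaluation at a monomial is multiplicative. -/
theorem gm_mul (f g : Conn.Pt k (LaurentPolynomial k)) (e : ℤ) :
    (f * g).ofConv (AddMonoidAlgebra.single e 1) =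
      f.ofConv (AddMonoidAlgebra.single e 1) * g.ofConv (AddMonoidAlgebra.single e 1) := by
  show (f * g) (AddMonoidAlgebra.single e 1) = _
  rw [AlgHom.convMul_apply, (AddMonoidAlgebra.isGroupLikeElem_single_one (R := k) e).comul_eq_tmul_self,
    Algebra.TensorProduct.lift_tmul]

/-- Every rational point of the multiplicative group is a power. -/
theorem exists_pow_eq (s : Conn.Pt k (LaurentPolynomial k)) {m : ℕ} (hm : 0 < m) :
    ∃ r : Conn.Pt k (LaurentPolynomial k), r ^ m = s := by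
  let x : k := s.ofConv (AddMonoidAlgebra.single 1 1)
  have hs0 : s.ofConv (AddMonoidAlgebra.single (0 : ℤ) 1) = 1 := map_one s.ofConv
  have hx : x ≠ 0 := fun h => by
    have : x * s.ofConv (AddMonoidAlgebra.single (-1) 1) = 1 := by
      rw [← map_mul, AddMonoidAlgebra.single_mul_single, add_neg_cancel, _root_.one_mul, hs0]
    rw [h, zero_mul] at this
    exact zero_ne_one this
  obtain ⟨y, hy⟩ := IsAlgClosed.exists_pow_nat_eq x hm
  have hy0 : y ≠ 0 := fun h => hx (by rw [← hy, h, zero_pow hm.ne'])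
  obtain ⟨r, hr⟩ := exists_gm_pt hy0
  refine ⟨r, WithConv.ofConv_injective ?_⟩
  have hpow : ∀ (n : ℕ) (e : ℤ), (r ^ n).ofConv (AddMonoidAlgebra.single e 1) = (y ^ e) ^ n := by
    intro n e
    induction n with
    | zero =>
      rw [pow_zero, pow_zero]
      show algebraMap k k _ = _
      simp
    | succ n ih => rw [pow_succ, pow_succ, gm_mul, ih, hr]
  refine AddMonoidAlgebra.algHom_ext (fun n => ?_) (Subsingleton.elim _ _)
  rw [hpow, ← zpow_natCast, ← _root_.zpow_mul, _root_.mul_comm n, _root_.zpow_mul, zpow_natCast, hy]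
  induction n using Int.induction_on with
  | zero => rw [zpow_zero, hs0]
  | succ n ih =>
    rw [zpow_add_one₀ hx, ih, ← map_mul, AddMonoidAlgebra.single_mul_single, _root_.one_mul]
  | pred n ih =>
    refine mul_right_cancel₀ hx ?_
    rw [← zpow_add_one₀ hx, sub_add_cancel, ih, ← map_mul, AddMonoidAlgebra.single_mul_single, sub_add_cancel,
      _root_.one_mul]

variable {G T : Over (Spec (CommRingCat.of k))} [GrpObj G] [GrpObj T]

set_option maxHeartbeats 800000 in
/-- A one-parameter subgroup of a maximal torus which is fixed by the normalizer lies in every Borel subgroup. -/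
theorem invariant_mem_borel [IsAffine G.left] [Smooth G.hom] [ConnectedSpace G.left] {iT : T ⟶ G}
    (hT : AGF.IsMaxTorus iT) {B : Over (Spec (CommRingCat.of k))} [GrpObj B] {iB : B ⟶ G}
    (hB : Red.IsBorelOver k iB) (t : T ⟶ B) (ht : t ≫ iB = iT) (lam : 𝔾 ⟶ T) [IsMonHom lam]
    (hlam : ∀ (n : pk ⟶ G) (σ : T ⟶ T), σ ≫ iT = AGF.conjBy n iT → lam ≫ σ = lam) (g : pk ⟶ G) (x : pk ⟶ 𝔾) :
    ∃ b : pk ⟶ B, b ≫ iB = g * (x ≫ lam ≫ iT) * g⁻¹ := by
  classical
  obtain ⟨hTm, hTmono, hTt, -⟩ := id hT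
  haveI := hTm
  haveI := hTmono
  obtain ⟨hTs, _, hTa, hTc, hTcm⟩ := AlgGrp33.IsogSub.torus_props hTt
  haveI := hTs
  haveI := hTa
  haveI : IsClosedImmersion iT.left := BorelCor.isClosedImmersion_torus G hTt iT
  obtain ⟨_, _, _, _, hsB, -⟩ := id hB
  haveI : IsAffine B.left := isAffine_of_isAffineHom iB.left
  haveI : Mono iB := Over.mono_of_mono_left iB
  obtain ⟨A, _, _, ψ, _⟩ := exists_coord G
  obtain ⟨A', _, _, ψB, _⟩ := exists_coord B
  obtain ⟨D, _, _, ψT, _⟩ := exists_coord T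
  haveI : Algebra.FiniteType k A := GMod80.finiteType ψ
  haveI : Algebra.FiniteType k D := GMod80.finiteType ψT
  haveI : IsDomain D := by
    haveI := Hopf35.TorDom.isDomain_tensor ψT hTt k
    exact (Algebra.TensorProduct.lid k D).symm.toMulEquiv.isDomain _
  have hD : HopfRep.IsDiagonalizable k D := by
    obtain ⟨hco, hprim⟩ := (Groth.Agent.S7979.result k D).1 (AlgGrp33.isDiagonalizable_of_isTorus ψT hTt)
    haveI := hco
    exact Comod33.Diag.isDiagonalizable_of_no_prim fun x hx => hprim x hx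
  haveI : IsReduced G.left := isReduced_of_smooth G.hom
  haveI : IrreducibleSpace G.left := by
    have hirr := (Grp57.connectedComponent_unit G).1
    rw [PreconnectedSpace.connectedComponent_eq_univ] at hirr
    exact { isPreirreducible_univ := hirr.2, toNonempty := inferInstance }
  haveI : IsIntegral G.left := isIntegral_of_irreducibleSpace_of_isReduced _
  haveI : IsDomain A := (fn ψ).toMulEquiv.isDomain _
  let φB := pullBialg ψ ψB iB
  let τ := pullBialg ψ ψT iT
  obtain ⟨N, c, v, ℓ, hc, hv, hspan, hdiag, hstab⟩ := exists_rep hD φB (pull_surjective ψ ψB iB) τ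
  have hstab' : ∀ g : Conn.Pt k A, (∃ b : pk ⟶ B, b ≫ iB = ToriConj.ev ψ g) ↔ ∃ a : k, mat c g *ᵥ v = a • v := by
    intro g
    refine Iff.trans ⟨?_, ?_⟩ (hstab g)
    · rintro ⟨b, hb⟩
      obtain ⟨h, rfl⟩ := ToriConj.ev_surjective ψB b
      exact ⟨h, ToriConj.ev_injective ψ ((CentTorus.ev_comp ψ ψB iB h).symm.trans hb)⟩
    · rintro ⟨h, rfl⟩
      exact ⟨_, CentTorus.ev_comp ψ ψB iB h⟩
  let S : Set (Conn.Pt k A) := Set.range (HopfFlat.restrPts τ)
  have hcl : ConeClosed c v := coneClosed ψ iB hB hc hv fun g hg => (hstab' g).1 hg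
  -- the weights of the one-parameter subgroup
  let ψ0 : sp k (LaurentPolynomial k) ≅ 𝔾 := Iso.refl _
  haveI : IsMonHom ψ0.hom := inferInstanceAs (IsMonHom (𝟙 _))
  let L : D →ₐc[k] LaurentPolynomial k := pullBialg ψT ψ0 lam
  let lp : Conn.Pt k (LaurentPolynomial k) → Conn.Pt k A := fun s => HopfFlat.restrPts τ (HopfFlat.restrPts L s)
  have hlp : ∀ s, ToriConj.ev ψ (lp s) = ToriConj.ev ψ0 s ≫ lam ≫ iT := fun s => by
    rw [← Category.assoc, CentTorus.ev_comp ψT ψ0 lam, CentTorus.ev_comp ψ ψT iT]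
  have hoff : ∀ i l, i ≠ l → τ (c i l) = 0 := by
    intro i l hil
    refine Conn.eq_zero_of_forall_point (k := k) (A := D) fun p => ?_
    obtain ⟨d, hd, -⟩ := hdiag.diag _ ⟨p, rfl⟩
    show mat c (HopfFlat.restrPts τ p) i l = 0
    rw [hd, Matrix.diagonal_apply_ne _ hil]
  have hgl : ∀ l, IsGroupLikeElem k (τ (c l l)) := fun l => by
    constructor
    · exact (CoalgHomClass.counit_comp_apply τ _).trans ((hc.counit l l).trans (if_pos rfl))
    · refine (CoalgHomClass.map_comp_comul_apply τ _).symm.trans ?_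
      rw [hc.comul, map_sum, Finset.sum_eq_single l]
      · rfl
      · intro m _ hm
        show τ (c l m) ⊗ₜ[k] τ (c m l) = 0
        rw [hoff l m hm.symm, TensorProduct.zero_tmul]
      · simp
  have he : ∀ l, ∃ e : ℤ, L (τ (c l l)) = AddMonoidAlgebra.single e 1 := fun l => by
    obtain ⟨e, he⟩ := AddMonoidAlgebra.isGroupLikeElem_iff_mem_range_single_one.1 ((hgl l).map L)
    exact ⟨e, he.symm⟩
  choose e he using he
  have hmat : ∀ s, mat c (lp s) = diagonal fun i => s.ofConv (AddMonoidAlgebra.single (e i) 1) := by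
    intro s
    ext i l
    show s.ofConv (L (τ (c i l))) = _
    rw [Matrix.diagonal_apply]
    split_ifs with h
    · rw [h, he]
    · rw [hoff i l h, map_zero, map_zero]
  have hcur : ∀ s : k, s ≠ 0 → ∃ p : Conn.Pt k A, mat c p = diagonal fun i => s ^ e i := fun s hs => by
    obtain ⟨r, hr⟩ := exists_gm_pt hs
    exact ⟨lp r, by rw [hmat]; simp only [hr]⟩
  have hcur' : ∀ s : k, s ≠ 0 → ∃ p : Conn.Pt k A, mat c p = diagonal fun i => s ^ (-e i) := fun s hs => by
    obtain ⟨r, hr⟩ := exists_gm_pt (inv_ne_zero hs)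
    exact ⟨lp r, by rw [hmat]; simp only [hr, _root_.inv_zpow, _root_.zpow_neg]⟩
  obtain ⟨Idx, _, n, hn, hrep⟩ := exists_normalizer_reps G hT hB t ht
  choose nn hnn using fun i => ToriConj.ev_surjective ψ (n i)
  have hcomm : ∀ i s, lp s * nn i = nn i * lp s := by
    intro i s
    obtain ⟨σ, hσ⟩ := hn i
    have h : lam ≫ iT = lam ≫ AGF.conjBy (n i) iT := by rw [← hσ, ← Category.assoc, hlam (n i) σ.hom hσ]
    refine ToriConj.ev_injective ψ ?_
    rw [map_mul, map_mul, hnn, hlp]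
    conv_lhs => rw [h, ← Category.assoc, BorelTori.pt_comp_conjBy, Category.assoc]
    group
  have hline : ∀ z ∈ Orb c v, z ≠ 0 → ∀ w : ℤ, (∀ i, z i ≠ 0 → ℓ i = w) →
      ∃ i, ∃ a : k, z = a • (mat c (nn i) *ᵥ v) := by
    rintro z ⟨g, s, rfl⟩ hz0 w hsupp
    have hs : s ≠ 0 := fun h => hz0 (by rw [h, zero_smul])
    obtain ⟨i, b, hb⟩ := hrep (ToriConj.ev ψ g) fun p => by
      obtain ⟨p, rfl⟩ := ToriConj.ev_surjective ψT p
      obtain ⟨a, ha⟩ := hdiag.eigen w hsupp (HopfFlat.restrPts τ p) ⟨p, rfl⟩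
      rw [Matrix.mulVec_smul, smul_comm a s] at ha
      have h1 := congrArg (mat c g⁻¹ *ᵥ ·) (smul_right_injective (Fin (N + 1) → k) hs ha)
      simp only [Matrix.mulVec_smul, Matrix.mulVec_mulVec, ← mat_mul hc] at h1
      rw [inv_mul_cancel, mat_one hc, Matrix.one_mulVec, ← _root_.mul_assoc] at h1
      obtain ⟨b, hb⟩ := (hstab' _).2 ⟨a, h1⟩
      exact ⟨b, by rw [hb, map_mul, map_mul, map_inv, CentTorus.ev_comp ψ ψT iT]⟩
    obtain ⟨h, hh⟩ := ToriConj.ev_surjective ψ (b ≫ iB)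
    obtain ⟨a, ha⟩ := (hstab' h).1 ⟨b, hh.symm⟩
    refine ⟨i, s * a, ?_⟩
    rw [show g = nn i * h from ToriConj.ev_injective ψ (by rw [map_mul, hnn, hh, hb]), mat_mul hc,
      ← Matrix.mulVec_mulVec, ha, Matrix.mulVec_smul, smul_smul]
  have hv_eig : ∀ s, ∃ a : k, mat c (lp s) *ᵥ v = a • v := fun s =>
    (hstab' _).1 ⟨ToriConj.ev ψ0 s ≫ lam ≫ t, by rw [hlp, Category.assoc, Category.assoc, ht]⟩
  choose a ha using hv_eig
  -- fixed lines all have the same eigenvalue
  have heig : ∀ i s, mat c (lp s) *ᵥ (mat c (nn i) *ᵥ v) = a s • (mat c (nn i) *ᵥ v) := fun i s => by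
    rw [Matrix.mulVec_mulVec, ← mat_mul hc, hcomm, mat_mul hc, ← Matrix.mulVec_mulVec, ha, Matrix.mulVec_smul]
  have hfin : ∀ z ∈ Orb c v, ∀ m : ℤ, z ≠ 0 → (∀ i, z i ≠ 0 → e i = m) →
      ∀ s, s.ofConv (AddMonoidAlgebra.single m 1) = a s := by
    intro z hz m hz0 hm
    obtain ⟨i₁, hi₁⟩ := Function.ne_iff.1 hz0
    obtain ⟨i₂, hi₂, hmin⟩ := (Finset.univ.filter fun i => z i ≠ 0).exists_min_image ℓ ⟨i₁, by simpa using hi₁⟩
    have hi₂' : z i₂ ≠ 0 := (Finset.mem_filter.1 hi₂).2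
    have hlim := limit_mem hc hcl ℓ (fun s hs => let ⟨t, _, ht⟩ := hdiag.curve s hs; ⟨t, ht⟩) hz (ℓ i₂)
      fun i hi => hmin i (by simp [hi])
    obtain ⟨j, b, hb⟩ := hline _ hlim (fun h => hi₂' (by simpa using congrFun h i₂)) (ℓ i₂) fun i hi => by
      by_contra h
      exact hi (by simp [h])
    intro s
    have h1 := congrArg (mat c (lp s) *ᵥ ·) hb
    simp only [Matrix.mulVec_smul, heig] at h1
    rw [smul_comm, ← hb, hmat] at h1
    have h2 := congrFun h1 i₂
    rw [mulVec_diagonal, Pi.smul_apply, smul_eq_mul, if_pos rfl, hm i₂ hi₂'] at h2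
    exact mul_right_cancel₀ hi₂' h2
  -- all the weights are equal
  have hall : ∀ i s, s.ofConv (AddMonoidAlgebra.single (e i) 1) = a s := by
    intro i
    obtain ⟨g, hg⟩ : ∃ g : Conn.Pt k A, (mat c g *ᵥ v) i ≠ 0 := by
      by_contra h
      push Not at h
      have := hspan (Pi.single i 1) fun g => by rw [single_one_dotProduct]; exact h g
      simpa using congrFun this i
    let z := mat c g *ᵥ v
    have hz : z ∈ Orb c v := ⟨g, 1, (one_smul _ _).symm⟩
    have hne : (Finset.univ.filter fun l => z l ≠ 0).Nonempty := ⟨i, by simpa using hg⟩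
    obtain ⟨i₂, hi₂, hmin⟩ := (Finset.univ.filter fun l => z l ≠ 0).exists_min_image e hne
    obtain ⟨i₃, hi₃, hmax⟩ := (Finset.univ.filter fun l => z l ≠ 0).exists_max_image e hne
    have hi₂' : z i₂ ≠ 0 := (Finset.mem_filter.1 hi₂).2
    have hi₃' : z i₃ ≠ 0 := (Finset.mem_filter.1 hi₃).2
    have h₂ := hfin _ (limit_mem hc hcl e hcur hz (e i₂) fun l hl => hmin l (by simp [hl])) (e i₂)
      (fun h => hi₂' (by simpa using congrFun h i₂)) (fun l hl => by by_contra h; exact hl (if_neg h))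
    have h₃ := hfin _ (limit_mem hc hcl (fun l => -e l) hcur' hz (-e i₃)
      fun l hl => neg_le_neg (hmax l (by simp [hl]))) (e i₃)
      (fun h => hi₃' (by simpa using congrFun h i₃))
      (fun l hl => by by_contra h; exact hl (if_neg fun h' => h (neg_inj.1 h')))
    have h23 : e i₂ = e i₃ := eq_of_zpow_eq (k := k) fun s hs => by
      obtain ⟨r, hr⟩ := exists_gm_pt hs
      rw [← hr, ← hr, h₂, h₃]
    have hii : e i = e i₂ := le_antisymm ((hmax i (by simpa using hg)).trans h23.ge) (hmin i (by simpa using hg))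
    intro s
    rw [hii, h₂]
  obtain ⟨g', hg'⟩ := ToriConj.ev_surjective ψ g
  obtain ⟨s, rfl⟩ := ToriConj.ev_surjective ψ0 x
  obtain ⟨b, hb⟩ := (hstab' (g' * lp s * g'⁻¹)).2 ⟨a s, by
    rw [mat_mul hc, mat_mul hc, ← Matrix.mulVec_mulVec, ← Matrix.mulVec_mulVec, hmat]
    rw [show (diagonal fun i => s.ofConv (AddMonoidAlgebra.single (e i) 1)) *ᵥ (mat c g'⁻¹ *ᵥ v)
      = a s • (mat c g'⁻¹ *ᵥ v) from funext fun i => by rw [mulVec_diagonal, hall, Pi.smul_apply, smul_eq_mul]]
    rw [Matrix.mulVec_smul, Matrix.mulVec_mulVec, ← mat_mul hc, mul_inv_cancel, mat_one hc, Matrix.one_mulVec]⟩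
  exact ⟨b, by rw [hb, map_mul, map_mul, map_inv, hg', hlp]⟩

set_option maxHeartbeats 800000 in
/-- In a semisimple group such a one-parameter subgroup is trivial. -/
theorem invariant_eq_one (hG : Red.IsSemisimpleOver k G) {iT : T ⟶ G} (hT : AGF.IsMaxTorus iT)
    (lam : 𝔾 ⟶ T) [IsMonHom lam]
    (hlam : ∀ (n : pk ⟶ G) (σ : T ⟶ T), σ ≫ iT = AGF.conjBy n iT → lam ≫ σ = lam) (x : pk ⟶ 𝔾) :
    x ≫ lam = 1 := by
  obtain ⟨hred, hnot⟩ := hG
  obtain ⟨hGa, hGs, hGc, -⟩ := id hred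
  haveI := hGa
  haveI := hGs
  haveI := hGc
  obtain ⟨hTm, hTmono, hTt, -⟩ := id hT
  haveI := hTm
  haveI := hTmono
  obtain ⟨hTs, _, hTa, hTc, hTcm⟩ := AlgGrp33.IsogSub.torus_props hTt
  haveI := hTs
  haveI := hTa
  haveI := hTc
  haveI : IsClosedImmersion iT.left := BorelCor.isClosedImmersion_torus G hTt iT
  obtain ⟨B, _, iB, t, hB, ht⟩ := BorelCor.exists_borel_ge G iT (BorelCor.isSolvableGrp_torus hTt)
  obtain ⟨_, _, _, _, hsB, -⟩ := id hB
  haveI : IsAffine B.left := isAffine_of_isAffineHom iB.left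
  haveI : Mono iB := Over.mono_of_mono_left iB
  let gam : 𝔾 ⟶ G := lam ≫ iT
  haveI : IsReduced G.left := isReduced_of_smooth G.hom
  haveI : IrreducibleSpace G.left := by
    have hirr := (Grp57.connectedComponent_unit G).1
    rw [PreconnectedSpace.connectedComponent_eq_univ] at hirr
    exact { isPreirreducible_univ := hirr.2, toNonempty := inferInstance }
  haveI : IsDomain (LaurentPolynomial k) := inferInstance
  haveI : LocallyOfFiniteType (𝔾).hom := by
    show LocallyOfFiniteType (Spec.map (CommRingCat.ofHom (algebraMap k (LaurentPolynomial k))))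
    rw [HasRingHomProperty.Spec_iff (P := @LocallyOfFiniteType)]
    exact RingHom.finiteType_algebraMap.2 inferInstance
  haveI : QuasiCompact (𝔾).hom :=
    inferInstanceAs (QuasiCompact (Spec.map (CommRingCat.ofHom (algebraMap k (LaurentPolynomial k)))))
  haveI : IrreducibleSpace (𝔾).left := inferInstanceAs (IrreducibleSpace (PrimeSpectrum (LaurentPolynomial k)))
  haveI : IsReduced (𝔾).left := inferInstanceAs (IsReduced (Spec (CommRingCat.of (LaurentPolynomial k))))
  haveI := AlgGrp79.lft_prod G 𝔾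
  haveI := AlgGrp79.reduced_prod G 𝔾
  let F : AlgGrp79.Fam G :=
    { X := G ⊗ 𝔾
      f := fst G 𝔾 * (snd G 𝔾 ≫ gam) * (fst G 𝔾)⁻¹
      x := lift 1 1
      hx := by simp [gam, MonObj.comp_mul, GrpObj.comp_inv, MonObj.one_comp]
      red := inferInstance
      irr := AlgGrp79.irreducible_prod G 𝔾
      lft := inferInstance
      qc := AlgGrp79.qc_prod G 𝔾 }
  have hFpts : ∀ a, a ∈ F.pts ↔ ∃ (g : pk ⟶ G) (p : pk ⟶ 𝔾), a = g * (p ≫ gam) * g⁻¹ := by
    intro a
    constructor
    · rintro ⟨q, rfl⟩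
      exact ⟨q ≫ fst G 𝔾, q ≫ snd G 𝔾, by simp [F, MonObj.comp_mul, GrpObj.comp_inv]⟩
    · rintro ⟨g, p, rfl⟩
      exact ⟨lift g p, by simp [F, MonObj.comp_mul, GrpObj.comp_inv]⟩
  obtain ⟨D, _, iD, _, _, _, hDirr, hDpts⟩ := AlgGrp79.exists_generated F
  haveI := hDirr
  haveI : IsAffine D.left := isAffine_of_isAffineHom iD.left
  haveI : IsReduced D.left := isReduced_of_smooth D.hom
  haveI : Mono iD := Over.mono_of_mono_left iD
  let ΦB : (pk ⟶ B) →* (pk ⟶ G) := MonoidHom.mk' (fun w => w ≫ iB) fun x y => MonObj.mul_comp x y iB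
  obtain ⟨fD, hfD⟩ := BorelCor.exists_factor_of_pts iD iB fun d => by
    have hd : d ≫ iD ∈ Subgroup.closure F.pts := hDpts.le ⟨d, rfl⟩
    have hle : Subgroup.closure F.pts ≤ ΦB.range := (Subgroup.closure_le _).2 fun a ha => by
      obtain ⟨g, p, rfl⟩ := (hFpts a).1 ha
      exact invariant_mem_borel hT hB t ht lam hlam g p
    exact hle hd
  haveI := BorelCor.isMonHom_factor fD iB iD hfD
  haveI : Mono (fD ≫ iB) := by rw [hfD]; infer_instance
  haveI : Mono fD := mono_of_mono fD iB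
  have hsD : Red.IsSolvableGrp D := by
    obtain ⟨n, hn⟩ := hsB
    refine ⟨n, fun X => ?_⟩
    have h := map_derivedSeries_le_derivedSeries (IsMonHom.monoidHom fD X) n
    rw [hn X, le_bot_iff] at h
    exact (Subgroup.map_eq_bot_iff_of_injective _ fun a b hab => (cancel_mono fD).1 hab).1 h
  have hnormD : AlgGrp.IsNormalHom iD := UnipBasic.isNormalHom_of_pts iD fun g d => by
    have hd : d ≫ iD ∈ Subgroup.closure F.pts := hDpts.le ⟨d, rfl⟩
    haveI : (Subgroup.closure F.pts).Normal := by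
      refine ⟨fun x hx g => ?_⟩
      induction hx using Subgroup.closure_induction with
      | mem a ha =>
        obtain ⟨g', p, rfl⟩ := (hFpts a).1 ha
        refine Subgroup.subset_closure ((hFpts _).2 ⟨g * g', p, ?_⟩)
        group
      | one => simp [one_mem]
      | mul a b _ _ ha hb =>
        rw [show g * (a * b) * g⁻¹ = g * a * g⁻¹ * (g * b * g⁻¹) by group]
        exact mul_mem ha hb
      | inv a _ ha =>
        rw [show g * a⁻¹ * g⁻¹ = (g * a * g⁻¹)⁻¹ by group]
        exact inv_mem ha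
    obtain ⟨d', hd'⟩ := hDpts.ge (Subgroup.Normal.conj_mem inferInstance _ hd g)
    exact ⟨d', hd'.symm⟩
  have hDT : Red.IsTorus D := Reductive.normal_solvable_isTorus hred iD hsD hnormD
  have hDtriv := hnot D iD inferInstance hnormD hDT
  obtain ⟨d, hd⟩ := hDpts.ge (Subgroup.subset_closure ((hFpts _).2 ⟨1, x, rfl⟩))
  haveI := hDtriv
  have hd1 : d = 1 := by
    haveI : IsIso D.hom := hDtriv
    exact Over.OverMorphism.ext ((cancel_mono D.hom).1 (by simp))
  rw [← cancel_mono iT, MonObj.one_comp, Category.assoc, show x ≫ gam = 1 from ?_]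
  simp only [hd1, MonObj.one_comp] at hd
  simpa using hd.symm

set_option maxHeartbeats 800000 in
/-- A homomorphism on the points of a maximal torus of a semisimple group invariant under the normalizer is trivial. -/
theorem invariant_hom_eq_one {M : Type u} [CommGroup M] (hG : Red.IsSemisimpleOver k G) {iT : T ⟶ G}
    (hT : AGF.IsMaxTorus iT) (φ : (pk ⟶ T) →* M)
    (hφ : ∀ (n : pk ⟶ G) (σ : T ⟶ T), σ ≫ iT = AGF.conjBy n iT → ∀ s, φ (s ≫ σ) = φ s) : φ = 1 := by
  classical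
  obtain ⟨hred, -⟩ := id hG
  obtain ⟨hGa, hGs, hGc, -⟩ := id hred
  haveI := hGa
  haveI := hGs
  haveI := hGc
  obtain ⟨hTm, hTmono, hTt, -⟩ := id hT
  haveI := hTm
  haveI := hTmono
  obtain ⟨hTs, _, hTa, hTc, hTcm⟩ := AlgGrp33.IsogSub.torus_props hTt
  haveI := hTs
  haveI := hTa
  haveI : IsClosedImmersion iT.left := BorelCor.isClosedImmersion_torus G hTt iT
  haveI : IsReduced T.left := isReduced_of_smooth T.hom
  obtain ⟨B, _, iB, t, hB, ht⟩ := BorelCor.exists_borel_ge G iT (BorelCor.isSolvableGrp_torus hTt)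
  obtain ⟨_, _, _, _, hsB, -⟩ := id hB
  haveI : IsAffine B.left := isAffine_of_isAffineHom iB.left
  haveI : Mono iB := Over.mono_of_mono_left iB
  obtain ⟨Idx, _, n, hn, hrep⟩ := exists_normalizer_reps G hT hB t ht
  let W : Set (T ⟶ T) := {σ | ∃ n : pk ⟶ G, σ ≫ iT = AGF.conjBy n iT}
  have hWfin : W.Finite := by
    refine Set.Finite.subset (Set.finite_range fun i => (hn i).choose.hom) ?_
    rintro σ ⟨g, hg⟩
    haveI : IsMonHom (AGF.conjBy g iT) := BorelConj.isMonHom_conjBy g iT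
    haveI : IsMonHom σ := BorelCor.isMonHom_factor σ iT _ hg
    haveI : IsClosedImmersion σ.left := by
      haveI := BorelConj.isClosedImmersion_conjBy g iT
      have : IsClosedImmersion (σ.left ≫ iT.left) := by rw [← Over.comp_left, hg]; infer_instance
      exact IsClosedImmersion.of_comp σ.left iT.left
    haveI := Var76.FibreBound.noetherianSpace T.hom
    haveI := BorelConj.surjective_endo σ.left
    haveI := BorelConj.isIso_of_surj σ
    have hinv : AGF.conjBy g⁻¹ iT = inv σ ≫ iT := by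
      have := congrArg (fun m => inv σ ≫ AGF.conjBy g⁻¹ m) hg
      simpa [BorelConj.comp_conjBy, BorelConj.conjBy_conjBy, BorelConj.conjBy_one] using this
    obtain ⟨i, b, hb⟩ := hrep g fun s => ⟨(s ≫ inv σ) ≫ t, by
      rw [Category.assoc, ht, Category.assoc, ← hinv, BorelTori.pt_comp_conjBy, _root_.inv_inv]⟩
    have hτ := (hn i).choose_spec
    refine ⟨i, (cancel_mono iT).1 ?_⟩
    have hb' : AGF.conjBy (b ≫ iB) iT = (σ ≫ (hn i).choose.inv) ≫ iT := by
      have h1 : AGF.conjBy (n i) (AGF.conjBy (b ≫ iB) iT) = σ ≫ iT := by rw [BorelConj.conjBy_conjBy, ← hb, hg]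
      have h2 := congrArg (fun m => AGF.conjBy (n i)⁻¹ m) h1
      simp only [BorelConj.conjBy_conjBy, ← _root_.mul_assoc, inv_mul_cancel, _root_.one_mul] at h2
      rw [h2, ← BorelConj.comp_conjBy, Category.assoc]
      congr 1
      rw [← cancel_epi (hn i).choose.hom, Iso.hom_inv_id_assoc, BorelConj.comp_conjBy, hτ, BorelConj.conjBy_conjBy,
        inv_mul_cancel, BorelConj.conjBy_one]
    haveI : IsSeparated G.hom := inferInstance
    have hb1 : AGF.conjBy (b ≫ iB) iT = iT :=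
      BorelTori.conjBy_eq_of_comm _ iT fun s => BorelTori.comm_of_normalizes hB hT t ht b _ hb'.symm s
    show (hn i).choose.hom ≫ iT = σ ≫ iT
    rw [hτ, hg, hb, ← BorelConj.conjBy_conjBy, hb1]
  let Wf : Finset (T ⟶ T) := hWfin.toFinset
  haveI := hTcm
  obtain ⟨D, _, _, ψT, _⟩ := exists_coord T
  haveI : Algebra.FiniteType k D := GMod80.finiteType ψT
  have hD : HopfRep.IsDiagonalizable k D := by
    obtain ⟨hco, hprim⟩ := (Groth.Agent.S7979.result k D).1 (AlgGrp33.isDiagonalizable_of_isTorus ψT hTt)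
    haveI := hco
    exact Comod33.Diag.isDiagonalizable_of_no_prim fun x hx => hprim x hx
  haveI : IsDomain D := by
    haveI := Hopf35.TorDom.isDomain_tensor ψT hTt k
    exact (Algebra.TensorProduct.lid k D).symm.toMulEquiv.isDomain _
  obtain ⟨r, ⟨E⟩⟩ := AlgGrp33.exists_equiv_split hD
  refine MonoidHom.ext fun s₀ => ?_
  obtain ⟨p₀, rfl⟩ := ToriConj.ev_surjective ψT s₀
  show (φ.comp (ToriConj.ev ψT)) p₀ = 1
  rw [← MonoidHom.mem_ker]
  refine CentTorusPts.mem_of_coord hD E _ (fun i s => MonoidHom.mem_ker.2 ?_) p₀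
  let Lc : D →ₐc[k] LaurentPolynomial k := (CentTorusPts.coordBialg i).comp E.toBialgHom
  let ψ0 : sp k (LaurentPolynomial k) ≅ 𝔾 := Iso.refl _
  haveI : IsMonHom ψ0.hom := inferInstanceAs (IsMonHom (𝟙 _))
  let muT : 𝔾 ⟶ T := spHom Lc ≫ ψT.hom
  haveI : IsMonHom muT := inferInstanceAs (IsMonHom (spHom Lc ≫ ψT.hom))
  have hev : ∀ s, ToriConj.ev ψ0 s ≫ muT = ToriConj.ev ψT (HopfFlat.restrPts Lc s) := fun s => by
    show (ToriConj.pt0 ≫ Spec.mapMulEquiv s ≫ 𝟙 _) ≫ spHom Lc ≫ ψT.hom =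
      ToriConj.pt0 ≫ Spec.mapMulEquiv _ ≫ ψT.hom
    rw [Category.comp_id, Category.assoc]
    exact (congrArg (ToriConj.pt0 ≫ ·) (Category.assoc _ _ _).symm).trans
      (congrArg (fun x => ToriConj.pt0 ≫ x ≫ ψT.hom) (comp_spHom Lc s))
  let lam : 𝔾 ⟶ T := ∏ σ ∈ Wf, muT ≫ σ
  have hmem : ∀ σ ∈ Wf, ∃ n : pk ⟶ G, σ ≫ iT = AGF.conjBy n iT := fun σ hσ => hWfin.mem_toFinset.1 hσ
  have hmon : ∀ σ ∈ Wf, IsMonHom σ := fun σ hσ => by
    obtain ⟨g, hg⟩ := hmem σ hσ
    haveI : IsMonHom (AGF.conjBy g iT) := BorelConj.isMonHom_conjBy g iT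
    exact BorelCor.isMonHom_factor σ iT _ hg
  haveI : IsMonHom lam := Finset.prod_induction _ (fun f => IsMonHom f) (fun a b ha hb => by
      haveI := ha; haveI := hb
      exact AlgGrp79.isMonHom_of_forall _ fun X x y => by
        rw [MonObj.comp_mul, MonObj.comp_mul, MonObj.comp_mul, MonObj.mul_comp _ _ a, MonObj.mul_comp _ _ b]
        exact mul_mul_mul_comm _ _ _ _) inferInstance fun σ hσ => by
    haveI := hmon σ hσ
    infer_instance
  have hlam : ∀ (g : pk ⟶ G) (τ : T ⟶ T), τ ≫ iT = AGF.conjBy g iT → lam ≫ τ = lam := by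
    intro g τ hτ
    haveI : IsMonHom (AGF.conjBy g iT) := BorelConj.isMonHom_conjBy g iT
    haveI : IsMonHom τ := BorelCor.isMonHom_factor τ iT _ hτ
    haveI : Mono τ := by
      haveI : IsClosedImmersion (AGF.conjBy g iT).left := BorelConj.isClosedImmersion_conjBy g iT
      haveI : Mono (τ ≫ iT) := by rw [hτ]; exact Over.mono_of_mono_left _
      exact mono_of_mono τ iT
    have himg : Wf.image (fun σ => σ ≫ τ) = Wf := by
      refine Finset.eq_of_subset_of_card_le (fun x hx => ?_) ?_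
      · obtain ⟨σ, hσ, rfl⟩ := Finset.mem_image.1 hx
        obtain ⟨g', hg'⟩ := hmem σ hσ
        exact hWfin.mem_toFinset.2 ⟨g * g', by
          rw [Category.assoc, hτ, BorelConj.comp_conjBy, hg', BorelConj.conjBy_conjBy]⟩
      · rw [Finset.card_image_of_injective _ fun a b hab => (cancel_mono τ).1 hab]
    let R : (𝔾 ⟶ T) →* (𝔾 ⟶ T) := MonoidHom.mk' (fun f => f ≫ τ) fun a b => MonObj.mul_comp a b τ
    show R (∏ σ ∈ Wf, muT ≫ σ) = ∏ σ ∈ Wf, muT ≫ σ
    rw [map_prod]
    conv_rhs => rw [← himg, Finset.prod_image fun a _ b _ hab => (cancel_mono τ).1 hab]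
    exact Finset.prod_congr rfl fun σ _ => show (muT ≫ σ) ≫ τ = muT ≫ σ ≫ τ from Category.assoc _ _ _
  have hcard : 0 < Wf.card := Finset.card_pos.2 ⟨𝟙 T, hWfin.mem_toFinset.2 ⟨1, by
    rw [Category.id_comp, BorelConj.conjBy_one]⟩⟩
  obtain ⟨s', rfl⟩ := exists_pow_eq s hcard
  show φ (ToriConj.ev ψT (HopfFlat.restrPts Lc (s' ^ Wf.card))) = 1
  rw [map_pow, map_pow, map_pow, ← hev]
  let P : (𝔾 ⟶ T) →* (pk ⟶ T) := MonoidHom.mk' (fun f => ToriConj.ev ψ0 s' ≫ f) fun a b => MonObj.comp_mul _ a b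
  have h1 : φ (P lam) = 1 := by
    show φ (ToriConj.ev ψ0 s' ≫ lam) = 1
    rw [invariant_eq_one hG hT lam hlam, map_one]
  rw [← h1]
  simp only [lam, map_prod]
  rw [Finset.prod_congr rfl fun σ hσ => ?_, Finset.prod_const]
  show φ (ToriConj.ev ψ0 s' ≫ muT ≫ σ) = φ (ToriConj.ev ψ0 s' ≫ muT)
  rw [← Category.assoc]
  obtain ⟨g, hg⟩ := hmem σ hσ
  exact hφ g σ hg _

end Groth.Agent.AGF80.Luna
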