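import Groth.Agent.AGF80.Luna.Constant
import Groth.Agent.AGF80.Luna.Cone
import Groth.Agent.AGF80.Luna.Setup
import Groth.Agent.AGF80.UnipExist
import Groth.Agent.AGF80.UnipRad
import Groth.Agent.AGF80.BorelCor2
import Groth.Agent.AlgGrp79.BorelTori
import Groth.Agent.AlgGrp79.ToriConj

/-!
A smooth connected subgroup of the unipotent radicals of all Borel subgroups containing a maximal torus lies in the
unipotent radical.
-/

set_option autoImplicit false
set_option linter.unusedSectionVars false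
set_option linter.style.haveILetI false
set_option backward.isDefEq.respectTransparency.types false
set_option synthInstance.maxHeartbeats 200000

universe u

open CategoryTheory MonoidalCategory CartesianMonoidalCategory MonObj GrpObj AlgebraicGeometry
open scoped TensorProduct
open WithConv Matrix Groth.Agent.GMod80

noncomputable section

namespace Groth.Agent.AGF80.Luna

open Comod33 Comod33.Mat AlgGrp79

variable {k : Type u} [Field k] [IsAlgClosed k]

local notation "pk" => 𝟙_ (Over (Spec (CommRingCat.of k)))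

theorem conjBy_factor {G X Y : Over (Spec (CommRingCat.of k))} [GrpObj G] (g : pk ⟶ G) (i : X ⟶ G) (j : Y ⟶ G)
    [IsClosedImmersion j.left] [LocallyOfFiniteType X.hom] [IsReduced X.left]
    (h : ∀ s : pk ⟶ X, ∃ b : pk ⟶ Y, b ≫ j = g * (s ≫ i) * g⁻¹) : ∃ f : X ⟶ Y, f ≫ j = AGF.conjBy g i :=
  BorelCor.exists_factor_of_pts _ _ fun s => by
    obtain ⟨b, hb⟩ := h s
    exact ⟨b, by rw [hb, BorelTori.pt_comp_conjBy]⟩

/-- Finitely many normalising points represent the conjugators of a maximal torus into a Borel subgroup. -/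
theorem exists_normalizer_reps (G : Over (Spec (CommRingCat.of k))) [GrpObj G] [IsAffine G.left] [Smooth G.hom]
    [ConnectedSpace G.left] {T B : Over (Spec (CommRingCat.of k))} [GrpObj T] [GrpObj B] {iT : T ⟶ G} {iB : B ⟶ G}
    (hT : AGF.IsMaxTorus iT) (hB : Red.IsBorelOver k iB) (t : T ⟶ B) (ht : t ≫ iB = iT) :
    ∃ (Idx : Type u) (_ : Finite Idx) (n : Idx → (pk ⟶ G)),
      (∀ i, ∃ τ : T ≅ T, τ.hom ≫ iT = AGF.conjBy (n i) iT) ∧
      ∀ g : pk ⟶ G, (∀ s : pk ⟶ T, ∃ b : pk ⟶ B, b ≫ iB = g⁻¹ * (s ≫ iT) * g) →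
        ∃ (i : Idx) (b : pk ⟶ B), g = n i * (b ≫ iB) := by
  classical
  obtain ⟨hTm, hTmono, hTt, -⟩ := id hT
  haveI := hTm
  obtain ⟨_, _, _, _, -⟩ := id hB
  haveI : IsAffine B.left := isAffine_of_isAffineHom iB.left
  haveI : Mono iB := Over.mono_of_mono_left iB
  obtain ⟨hTs, _, _, _, _⟩ := AlgGrp33.IsogSub.torus_props hTt
  haveI := hTs
  haveI : IsReduced T.left := isReduced_of_smooth T.hom
  obtain ⟨ℓ, N, -, hfin, hdet⟩ := BorelTori.exists_detect iT hTt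
  let F := {s : pk ⟶ T | s ^ (ℓ ^ N) = 1}
  haveI : Finite F := hfin.to_subtype
  let Idx := {f : F → F // ∃ (n : pk ⟶ G) (τ : T ≅ T), τ.hom ≫ iT = AGF.conjBy n iT ∧ ∀ s : F, (f s).1 = s.1 ≫ τ.hom}
  choose n τ hτ hτf using fun i : Idx => i.2
  refine ⟨Idx, inferInstance, n, fun i => ⟨τ i, hτ i⟩, fun g hg => ?_⟩
  obtain ⟨t', ht'⟩ := conjBy_factor g⁻¹ iT iB fun s => by
    obtain ⟨b, hb⟩ := hg s
    exact ⟨b, by rw [hb, _root_.inv_inv]⟩
  obtain ⟨b, f, hf⟩ := ToriConj.maxTorus_conj B T T t' t (BorelTori.isMaxTorus_lift hT g⁻¹ t' ht')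
    (BorelTori.isMaxTorus_lift' hT t ht)
  have h1 : f.hom ≫ iT = AGF.conjBy ((b ≫ iB) * g⁻¹) iT := by
    rw [← ht, ← Category.assoc, hf, ht]
    have hc : AGF.conjBy b t' ≫ iB = AGF.conjBy (b ≫ iB) (t' ≫ iB) := by
      simp only [AGF.conjBy, MonObj.mul_comp, GrpObj.inv_comp, Category.assoc]
    rw [hc, ht', BorelConj.conjBy_conjBy]
  let m : pk ⟶ G := ((b ≫ iB) * g⁻¹)⁻¹
  have h2 : f.inv ≫ iT = AGF.conjBy m iT := by
    have e : iT = AGF.conjBy ((b ≫ iB) * g⁻¹) (f.inv ≫ iT) := by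
      rw [← BorelConj.comp_conjBy, ← h1, Iso.inv_hom_id_assoc]
    conv_rhs => rw [e, BorelConj.conjBy_conjBy, show m * ((b ≫ iB) * g⁻¹) = 1 from inv_mul_cancel _, BorelConj.conjBy_one]
  have hF : ∀ s : F, (s.1 ≫ f.inv) ^ (ℓ ^ N) = 1 := by
    intro s
    let Φ : (pk ⟶ T) →* (pk ⟶ G) := MonoidHom.mk' (fun u => u ≫ iT) fun u v => MonObj.mul_comp u v iT
    refine (cancel_mono iT).1 ?_
    show Φ ((s.1 ≫ f.inv) ^ (ℓ ^ N)) = Φ 1
    rw [map_pow, map_one]
    show ((s.1 ≫ f.inv) ≫ iT) ^ (ℓ ^ N) = 1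
    rw [Category.assoc, h2, BorelTori.pt_comp_conjBy, conj_pow, show s.1 ≫ iT = Φ s.1 from rfl, ← map_pow,
      show s.1 ^ (ℓ ^ N) = 1 from s.2, map_one, _root_.mul_one, mul_inv_cancel]
  let i : Idx := ⟨fun s => ⟨s.1 ≫ f.inv, hF s⟩, m, f.symm, h2, fun s => rfl⟩
  obtain ⟨b', hb'⟩ := BorelTori.cent_mem hB hT t ht ((n i)⁻¹ * m) fun s => hdet _ (fun s hs => by
    have h := congrArg (fun u => u ≫ iT) (hτf i ⟨s, hs⟩)
    simp only [i, Category.assoc, hτ, h2, BorelTori.pt_comp_conjBy] at h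
    calc (n i)⁻¹ * m * (s ≫ iT) = (n i)⁻¹ * (m * (s ≫ iT) * m⁻¹) * m := by group
      _ = (n i)⁻¹ * (n i * (s ≫ iT) * (n i)⁻¹) * m := by rw [h]
      _ = (s ≫ iT) * ((n i)⁻¹ * m) := by group) s
  refine ⟨i, b' * b, ?_⟩
  rw [MonObj.mul_comp _ _ iB, hb']
  simp only [m]
  group

variable {N : ℕ} {A : Type u} [CommRing A] [HopfAlgebra k A] {c : Fin (N + 1) → Fin (N + 1) → A}

/-- A Borel subgroup fixes some line. -/
theorem exists_fixed_line {G B : Over (Spec (CommRingCat.of k))} [GrpObj G] [GrpObj B] [IsAffine B.left]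
    [Smooth B.hom] [ConnectedSpace B.left] (hs : Red.IsSolvableGrp B) (iB : B ⟶ G) [IsMonHom iB] (ψ : sp k A ≅ G)
    [IsMonHom ψ.hom] (hc : IsRep (k := k) c) :
    ∃ et : Fin (N + 1) → k, et ≠ 0 ∧
      ∀ g : Conn.Pt k A, (∃ b, b ≫ iB = ToriConj.ev ψ g) → ∃ a : k, mat c g *ᵥ et = a • et := by
  haveI : Group.IsSolvable (pk ⟶ B) := by
    obtain ⟨n, hn⟩ := hs
    exact ⟨⟨n, hn _⟩⟩
  haveI : IsProper (QuotSub.PN k N).hom := Curves2.ProjLine.isProper_toSpec k N
  haveI : Nonempty (QuotSub.PN k N).left :=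
    ⟨(ProjAct.lineO (k := k) (fun i => if i = 0 then (1 : k) else 0)
      (ProjAct.span_of_isUnit (j := 0) (by simp))).left (IsLocalRing.closedPoint k)⟩
  obtain ⟨x, hx⟩ := BorelFixed.exists_fixedPt B (QuotSub.PN k N)
    (actRestrict (actRestrict (ProjAct.action hc) ψ.inv) iB)
  obtain ⟨et, hspan, het⟩ := ProjAct.exists_lineO_field (inv (ToriConj.pt0 (k := k)) ≫ x)
  have het0 : et ≠ 0 := fun h => by
    have : (1 : k) ∈ Ideal.span (Set.range et) := by rw [hspan]; trivial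
    simp [h] at this
  refine ⟨et, het0, fun g ⟨b, hb⟩ => ?_⟩
  have hx' : x = ToriConj.pt0 ≫ ProjAct.lineO et (span_top_of_ne_zero het0) :=
    ((IsIso.hom_inv_id_assoc (ToriConj.pt0 (k := k)) x).symm).trans (congrArg (ToriConj.pt0 ≫ ·) het)
  have h := hx pk b
  change lift b (toUnit pk ≫ x) ≫ (iB ▷ _) ≫ _ = toUnit pk ≫ x at h
  rw [lift_whiskerRight_assoc, hb, ← AGF80.Orbit.comp_orbitMap, toUnit_unique (toUnit pk) (𝟙 _), Category.id_comp, hx',
    orbit_pt ψ hc het0] at h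
  have hcross := (ProjAct.lineO_eq_iff _ _ _ _).1 ((cancel_epi (ToriConj.pt0 (k := k))).1 h)
  obtain ⟨l, hl⟩ : ∃ l, et l ≠ 0 := by
    by_contra h'
    push Not at h'
    exact het0 (funext h')
  refine ⟨(mat c g *ᵥ et) l / et l, funext fun i => ?_⟩
  rw [Pi.smul_apply, smul_eq_mul, div_mul_eq_mul_div, eq_div_iff hl]
  linear_combination hcross i l

/-- A line of the orbit of a line stable under a Borel subgroup, which is stable under a maximal torus, is stable under a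
Borel subgroup containing that torus. -/
theorem exists_borel_fix {G T B : Over (Spec (CommRingCat.of k))} [GrpObj G] [GrpObj T] [GrpObj B] [IsAffine G.left]
    [Smooth G.hom] [ConnectedSpace G.left] {iT : T ⟶ G} {iB : B ⟶ G} (hT : AGF.IsMaxTorus iT)
    (hB : Red.IsBorelOver k iB) (t : T ⟶ B) (ht : t ≫ iB = iT) (ψ : sp k A ≅ G) [IsMonHom ψ.hom] (hc : IsRep (k := k) c)
    {et r : Fin (N + 1) → k} (het : ∀ g : Conn.Pt k A, (∃ b, b ≫ iB = ToriConj.ev ψ g) → ∃ a : k, mat c g *ᵥ et = a • et)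
    (hr : r ≠ 0) (hrO : r ∈ Orb c et)
    (hrT : ∀ g : Conn.Pt k A, (∃ s, s ≫ iT = ToriConj.ev ψ g) → ∃ a : k, mat c g *ᵥ r = a • r) :
    ∃ (m : pk ⟶ G) (t' : T ⟶ B), t' ≫ AGF.conjBy m iB = iT ∧
      ∀ g : Conn.Pt k A, (∃ b, b ≫ AGF.conjBy m iB = ToriConj.ev ψ g) → ∃ a : k, mat c g *ᵥ r = a • r := by
  obtain ⟨hTm, hTmono, hTt, -⟩ := id hT
  haveI := hTm
  obtain ⟨_, _, _, _, -⟩ := id hB
  haveI : IsReduced B.left := isReduced_of_smooth B.hom
  obtain ⟨hTs, _, _, _, hTcon⟩ := AlgGrp33.IsogSub.torus_props hTt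
  haveI := hTs
  haveI := hTcon
  haveI : IsReduced T.left := isReduced_of_smooth T.hom
  haveI : IsProper (QuotSub.PN k N).hom := Curves2.ProjLine.isProper_toSpec k N
  let a : AlgGrp.Action G (QuotSub.PN k N) := actRestrict (ProjAct.action hc) ψ.inv
  let y : pk ⟶ QuotSub.PN k N := ToriConj.pt0 ≫ ProjAct.lineO r (span_top_of_ne_zero hr)
  have hline : ∀ g : Conn.Pt k A,
      ToriConj.ev ψ g ≫ a.orbitMap y = y ↔ ∃ e : k, mat c g *ᵥ r = e • r := by
    intro g
    rw [orbit_pt ψ hc hr, cancel_epi, ProjAct.lineO_eq_iff]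
    constructor
    · intro hcross
      obtain ⟨l, hl⟩ : ∃ l, r l ≠ 0 := by
        by_contra h'
        push Not at h'
        exact hr (funext h')
      refine ⟨(mat c g *ᵥ r) l / r l, funext fun i => ?_⟩
      rw [Pi.smul_apply, smul_eq_mul, div_mul_eq_mul_div, eq_div_iff hl]
      linear_combination hcross i l
    · rintro ⟨e, he⟩ i l
      rw [he, Pi.smul_apply, Pi.smul_apply, smul_eq_mul, smul_eq_mul]
      ring
  have hfixpts : ∀ {X : Over (Spec (CommRingCat.of k))} [LocallyOfFiniteType X.hom] [IsReduced X.left] (i : X ⟶ G),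
      (∀ g : Conn.Pt k A, (∃ s, s ≫ i = ToriConj.ev ψ g) → ∃ e : k, mat c g *ᵥ r = e • r) →
        i ≫ a.orbitMap y = toUnit X ≫ y := by
    intro X _ _ i hi
    refine BorelFixed.hom_ext_pts _ _ fun s => ?_
    obtain ⟨g, hg⟩ := ToriConj.ev_surjective ψ (s ≫ i)
    rw [← Category.assoc, ← hg, (hline g).2 (hi g ⟨s, hg.symm⟩), ← Category.assoc,
      toUnit_unique (s ≫ toUnit X) (𝟙 _), Category.id_comp]
  obtain ⟨g₀, s₀, hr₀⟩ := hrO
  have hs₀ : s₀ ≠ 0 := fun h => hr (by rw [hr₀, h, zero_smul])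
  let m₀ : pk ⟶ G := ToriConj.ev ψ g₀
  haveI : IsMonHom (AGF.conjBy m₀ iB) := BorelConj.isMonHom_conjBy m₀ iB
  have hBfix : ∀ g : Conn.Pt k A, (∃ b, b ≫ AGF.conjBy m₀ iB = ToriConj.ev ψ g) → ∃ e : k, mat c g *ᵥ r = e • r := by
    rintro g ⟨b, hb⟩
    obtain ⟨h, hh⟩ := ToriConj.ev_surjective ψ (b ≫ iB)
    obtain ⟨e, he⟩ := het h ⟨b, hh.symm⟩
    have hg : g = g₀ * h * g₀⁻¹ := ToriConj.ev_injective ψ (by
      rw [← hb, BorelTori.pt_comp_conjBy, map_mul, map_mul, map_inv, hh])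
    refine ⟨e, ?_⟩
    rw [hr₀, Matrix.mulVec_smul, Matrix.mulVec_mulVec, ← mat_mul hc, hg, inv_mul_cancel_right, mat_mul hc,
      ← Matrix.mulVec_mulVec, he, Matrix.mulVec_smul, smul_comm]
  obtain ⟨Hx, _, i, _, _, sq⟩ := BorelFixed.exists_isotropy a y
  haveI : LocallyOfFiniteType Hx.hom := by rw [← Over.w i]; infer_instance
  haveI : QuasiCompact Hx.hom := by rw [← Over.w i]; infer_instance
  haveI : Mono i := Over.mono_of_mono_left i
  obtain ⟨K, _, u, _, _, _, _, hu⟩ := UnipPart.exists_smooth_component Hx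
  haveI : IsClosedImmersion (u ≫ i).left := inferInstanceAs (IsClosedImmersion (u.left ≫ i.left))
  haveI : IsAffine K.left := isAffine_of_isAffineHom (u ≫ i).left
  haveI : Mono (u ≫ i) := Over.mono_of_mono_left (u ≫ i)
  obtain ⟨tH, htH⟩ : ∃ tH : T ⟶ Hx, tH ≫ i = iT := ⟨sq.lift iT (toUnit T) (hfixpts iT hrT), sq.lift_fst _ _ _⟩
  obtain ⟨bH, hbH⟩ : ∃ bH : B ⟶ Hx, bH ≫ i = AGF.conjBy m₀ iB :=
    ⟨sq.lift _ (toUnit B) (hfixpts _ hBfix), sq.lift_fst _ _ _⟩
  haveI := BorelCor.isMonHom_factor tH i iT htH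
  haveI := BorelCor.isMonHom_factor bH i _ hbH
  obtain ⟨tK, htK⟩ := UnipExist.exists_factor_component tH u hu
  obtain ⟨bK, hbK⟩ := UnipExist.exists_factor_component bH u hu
  have htK' : tK ≫ u ≫ i = iT := by rw [← Category.assoc, htK, htH]
  have hbK' : bK ≫ u ≫ i = AGF.conjBy m₀ iB := by rw [← Category.assoc, hbK, hbH]
  obtain ⟨b, f, hf⟩ := ToriConj.maxTorus_conj K T T (t ≫ bK) tK
    (BorelTori.isMaxTorus_lift (iB := u ≫ i) hT m₀ _ (by rw [Category.assoc, hbK', BorelConj.comp_conjBy, ht]))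
    (BorelTori.isMaxTorus_lift' (iB := u ≫ i) hT tK htK')
  let mc : pk ⟶ G := b ≫ u ≫ i
  have hc' : AGF.conjBy b (t ≫ bK) ≫ u ≫ i = AGF.conjBy mc (AGF.conjBy m₀ iT) := by
    have e : AGF.conjBy b (t ≫ bK) ≫ u ≫ i = AGF.conjBy (b ≫ u ≫ i) ((t ≫ bK) ≫ u ≫ i) := by
      simp only [AGF.conjBy, MonObj.mul_comp _ _ (u ≫ i), GrpObj.inv_comp, Category.assoc]
    rw [e, Category.assoc, hbK', BorelConj.comp_conjBy, ht]
  have h1 : f.hom ≫ iT = AGF.conjBy (mc * m₀) iT := by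
    rw [← BorelConj.conjBy_conjBy, ← hc', ← hf, Category.assoc, htK']
  refine ⟨mc * m₀, f.inv ≫ t, ?_, fun g ⟨b', hb'⟩ => ?_⟩
  · rw [Category.assoc, BorelConj.comp_conjBy, ht, ← h1, Iso.inv_hom_id_assoc]
  · obtain ⟨h, hh⟩ := ToriConj.ev_surjective ψ (b' ≫ AGF.conjBy m₀ iB)
    obtain ⟨gc, hgc⟩ := ToriConj.ev_surjective ψ mc
    have hg : g = gc * h * gc⁻¹ := ToriConj.ev_injective ψ (by
      rw [map_mul, map_mul, map_inv, hgc, hh, ← hb', BorelTori.pt_comp_conjBy, BorelTori.pt_comp_conjBy]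
      group)
    obtain ⟨e, he⟩ := hBfix h ⟨b', hh.symm⟩
    obtain ⟨e', he'⟩ : ∃ e' : k, mat c gc *ᵥ r = e' • r := (hline gc).1 (by
      rw [hgc]
      show (b ≫ u ≫ i) ≫ a.orbitMap y = y
      simp only [Category.assoc, sq.w]
      rw [← Category.assoc, ← Category.assoc, toUnit_unique ((b ≫ u) ≫ toUnit Hx) (𝟙 _), Category.id_comp])
    have he'0 : e' ≠ 0 := fun h0 => by
      rw [h0, zero_smul] at he'
      exact mat_mulVec_ne_zero hc gc hr he'
    have hinv : mat c gc⁻¹ *ᵥ r = e'⁻¹ • r := by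
      have h2 := congrArg (mat c gc⁻¹ *ᵥ ·) he'
      simp only [Matrix.mulVec_mulVec, ← mat_mul hc, inv_mul_cancel, mat_one hc, Matrix.one_mulVec, Matrix.mulVec_smul] at h2
      conv_rhs => rw [h2, smul_smul, inv_mul_cancel₀ he'0, one_smul]
    refine ⟨e, ?_⟩
    rw [hg, mat_mul hc, mat_mul hc, ← Matrix.mulVec_mulVec, ← Matrix.mulVec_mulVec, hinv, Matrix.mulVec_smul, he,
      Matrix.mulVec_smul, Matrix.mulVec_smul, he', smul_smul, smul_smul]
    congr 1
    field_simp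

/-- A connected unipotent group fixes every vector on a line it stabilises. -/
theorem fixed_of_unipotent {Q : Type u} [CommRing Q] [HopfAlgebra k Q] [Algebra.FiniteType k Q] [_root_.IsReduced Q]
    (hQ : HopfRep.IsUnipotent k Q) (π : A →ₐc[k] Q) (hc : IsRep (k := k) c) {r : Fin (N + 1) → k}
    (h : ∀ g : Conn.Pt k Q, ∃ a : k, mat c (HopfFlat.restrPts π g) *ᵥ r = a • r) (g : Conn.Pt k Q) :
    mat c (HopfFlat.restrPts π g) *ᵥ r = r := by
  by_cases hr : r = 0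
  · simp [hr]
  let c' : Fin (N + 1) → Fin (N + 1) → Q := fun i l => π (c i l)
  have hc' : IsRep (k := k) c' :=
    { comul := fun i j => by
        refine (CoalgHomClass.map_comp_comul_apply π _).symm.trans ?_
        rw [hc.comul, map_sum]
        rfl
      counit := fun i j => (CoalgHomClass.counit_comp_apply π _).trans (hc.counit i j) }
  letI : HopfRep.Comod k Q (Fin (N + 1) → k) := comod hc'
  have hact : ∀ (g : Conn.Pt k Q) (w : Fin (N + 1) → k) (a : k),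
      g.ofConv.toLinearMap.lTensor _ (repCoact (k := k) c' w) = w ⊗ₜ[k] a ↔
        mat c (HopfFlat.restrPts π g) *ᵥ w = a • w := fun g w a => by
    rw [lTensor_repCoact_eq_iff, funext_iff]
    simp only [Algebra.algebraMap_self, RingHom.id_apply, Pi.smul_apply, smul_eq_mul]
    rfl
  have hW : HopfRep.IsSubcomod (k := k) (A := Q) (k ∙ r) := Conn.isSubcomod_of_forall_point _ fun g u hu => by
    obtain ⟨x, rfl⟩ := Submodule.mem_span_singleton.1 hu
    obtain ⟨a, ha⟩ := h g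
    refine Submodule.mem_span_singleton.2 ⟨x * a, ?_⟩
    have e : actHom k Q (Fin (N + 1) → k) g r = a • r := by
      show TensorProduct.rid k _ (g.ofConv.toLinearMap.lTensor _ (repCoact (k := k) c' r)) = _
      rw [(hact g r a).2 ha, TensorProduct.rid_tmul]
    rw [map_smul, e, smul_smul]
  letI cW := ComodSub.Comod.restr (comod hc') (k ∙ r) hW
  haveI : Nontrivial (k ∙ r) := ⟨⟨⟨r, Submodule.mem_span_singleton_self r⟩, 0, fun e => hr (congrArg Subtype.val e)⟩⟩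
  obtain ⟨x, hx, hx0⟩ := Submodule.exists_mem_ne_zero_of_ne_bot (hQ (k ∙ r) inferInstance inferInstance)
  have hfix : repCoact (k := k) c' (x : Fin (N + 1) → k) = (x : Fin (N + 1) → k) ⊗ₜ[k] (1 : Q) := by
    have h1 : cW.coact x = x ⊗ₜ[k] (1 : Q) := hx
    have h2 := congrArg ((k ∙ r).subtype.rTensor Q) h1
    rw [ComodSub.restr_coact_coe, LinearMap.rTensor_tmul] at h2
    exact h2
  obtain ⟨y, hy⟩ := Submodule.mem_span_singleton.1 x.2
  have hy0 : y ≠ 0 := fun e => hx0 (Subtype.ext (by rw [← hy, e, zero_smul]; rfl))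
  have h3 := (hact g (x : Fin (N + 1) → k) 1).1 (by rw [hfix, LinearMap.lTensor_tmul, AlgHom.toLinearMap_apply, map_one])
  rw [one_smul, ← hy, Matrix.mulVec_smul] at h3
  exact smul_right_injective _ hy0 h3

set_option maxHeartbeats 800000 in
/-- A smooth connected subgroup in the unipotent radicals of all Borel subgroups containing a maximal torus lies in the
unipotent radical. -/
theorem le_unipRad (G : Over (Spec (CommRingCat.of k))) [GrpObj G] [IsAffine G.left] [Smooth G.hom] [ConnectedSpace G.left]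
    {U : Over (Spec (CommRingCat.of k))} [GrpObj U] {u : U ⟶ G} (hU : Par.IsUnipotentRadical u)
    {T : Over (Spec (CommRingCat.of k))} [GrpObj T] {iT : T ⟶ G} (hT : AGF.IsMaxTorus iT)
    {H : Over (Spec (CommRingCat.of k))} [GrpObj H] (j : H ⟶ G) [IsMonHom j] [IsClosedImmersion j.left]
    [Smooth H.hom] [ConnectedSpace H.left]
    (hH : ∀ (B : Over (Spec (CommRingCat.of k))) [GrpObj B] (iB : B ⟶ G) (t : T ⟶ B), Red.IsBorelOver k iB → t ≫ iB = iT →
      ∀ (V : Over (Spec (CommRingCat.of k))) [GrpObj V] (v : V ⟶ B), Par.IsUnipotentRadical v → ∃ f : H ⟶ V, f ≫ v ≫ iB = j) :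
    ∃ g : H ⟶ U, g ≫ u = j := by
  classical
  obtain ⟨hTm, hTmono, hTt, -⟩ := id hT
  haveI := hTm
  haveI := hTmono
  obtain ⟨hTs, _, hTa, _, hTc⟩ := AlgGrp33.IsogSub.torus_props hTt
  haveI := hTs
  haveI := hTa
  haveI : IsClosedImmersion iT.left := BorelCor.isClosedImmersion_torus G hTt iT
  haveI : IsReduced T.left := isReduced_of_smooth T.hom
  obtain ⟨B, _, iB, t, hB, ht⟩ := BorelCor.exists_borel_ge G iT (BorelCor.isSolvableGrp_torus hTt)
  obtain ⟨_, _, _, _, hsB, -⟩ := id hB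
  haveI : IsAffine B.left := isAffine_of_isAffineHom iB.left
  haveI : Mono iB := Over.mono_of_mono_left iB
  haveI : IsAffine H.left := isAffine_of_isAffineHom j.left
  haveI : Mono j := Over.mono_of_mono_left j
  haveI : IsReduced H.left := isReduced_of_smooth H.hom
  obtain ⟨W, _, iW, _, _, _, _, nW, hnW, hmW, -⟩ := UnipPart.exists_unipPart B hsB
  haveI : Mono iW := Over.mono_of_mono_left iW
  have hW : Par.IsUnipotentRadical iW := UnipBasic.isUnipotentRadical_of_largest iW hnW nW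
    fun V' _ v' _ h1 h2 h3 _ h5 => hmW V' v' h1 h2 h3 h5
  haveI : IsAffine W.left := isAffine_of_isAffineHom iW.left
  obtain ⟨fW, hfW⟩ := hH B iB t hB ht W iW hW
  haveI := BorelCor.isMonHom_factor fW (iW ≫ iB) j hfW
  haveI : Mono (fW ≫ iW ≫ iB) := by rw [hfW]; infer_instance
  haveI : Mono fW := mono_of_mono fW (iW ≫ iB)
  obtain ⟨QW, _, _, _, ψW, _, hQW⟩ := UnipBasic.exists_unip_coord W nW
  have nH : Red.HasNoSubtorus k H := UnipBasic.hasNoSubtorus_of_unipotent hQW ψW fW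
  obtain ⟨Q, _, _, _, ψH, _, hQ⟩ := UnipBasic.exists_unip_coord H nH
  obtain ⟨A, _, _, ψ, _⟩ := exists_coord G
  obtain ⟨A', _, _, ψB, _⟩ := exists_coord B
  obtain ⟨D, _, _, ψT, _⟩ := exists_coord T
  haveI : Algebra.FiniteType k A := GMod80.finiteType ψ
  haveI : Algebra.FiniteType k D := GMod80.finiteType ψT
  haveI : IsDomain D := by
    haveI := Hopf35.TorDom.isDomain_tensor ψT hTt k
    exact (Algebra.TensorProduct.lid k D).symm.toMulEquiv.isDomain _
  have hD : HopfRep.IsDiagonalizable k D := by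
    obtain ⟨hco, hprim⟩ := (Groth.Agent.S7979.result k D).1 (AlgGrp33.isDiagonalizable_of_isTorus ψT hTt)
    haveI := hco
    exact Comod33.Diag.isDiagonalizable_of_no_prim fun x hx => hprim x hx
  haveI : IsReduced G.left := isReduced_of_smooth G.hom
  haveI : IrreducibleSpace G.left := by
    have hirr := (Grp57.connectedComponent_unit G).1
    rw [PreconnectedSpace.connectedComponent_eq_univ] at hirr
    exact { isPreirreducible_univ := hirr.2, toNonempty := inferInstance }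
  haveI : IsIntegral G.left := isIntegral_of_irreducibleSpace_of_isReduced _
  haveI : IsDomain A := (fn ψ).toMulEquiv.isDomain _
  haveI : IrreducibleSpace H.left := by
    have hirr := (Grp57.connectedComponent_unit H).1
    rw [PreconnectedSpace.connectedComponent_eq_univ] at hirr
    exact { isPreirreducible_univ := hirr.2, toNonempty := inferInstance }
  haveI : IsIntegral H.left := isIntegral_of_irreducibleSpace_of_isReduced _
  haveI : IsDomain Q := (fn ψH).toMulEquiv.isDomain _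
  let φB := pullBialg ψ ψB iB
  let τ := pullBialg ψ ψT iT
  let π := pullBialg ψ ψH j
  obtain ⟨N, c, v, ℓ, hc, hv, hspan, hdiag, hstab⟩ := exists_rep hD φB (pull_surjective ψ ψB iB) τ
  have hmemB : ∀ g : Conn.Pt k A, (∃ h, HopfFlat.restrPts φB h = g) ↔ ∃ b : pk ⟶ B, b ≫ iB = ToriConj.ev ψ g := by
    intro g
    constructor
    · rintro ⟨h, rfl⟩
      exact ⟨_, CentTorus.ev_comp ψ ψB iB h⟩
    · rintro ⟨b, hb⟩
      obtain ⟨h, rfl⟩ := ToriConj.ev_surjective ψB b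
      exact ⟨h, ToriConj.ev_injective ψ ((CentTorus.ev_comp ψ ψB iB h).symm.trans hb)⟩
  have hstab' : ∀ g : Conn.Pt k A, (∃ b : pk ⟶ B, b ≫ iB = ToriConj.ev ψ g) ↔ ∃ a : k, mat c g *ᵥ v = a • v :=
    fun g => (hmemB g).symm.trans (hstab g)
  let S : Set (Conn.Pt k A) := Set.range (HopfFlat.restrPts τ)
  have hS : ∀ g : Conn.Pt k A, g ∈ S ↔ ∃ s : pk ⟶ T, s ≫ iT = ToriConj.ev ψ g := by
    intro g
    constructor
    · rintro ⟨h, rfl⟩
      exact ⟨_, CentTorus.ev_comp ψ ψT iT h⟩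
    · rintro ⟨b, hb⟩
      obtain ⟨h, rfl⟩ := ToriConj.ev_surjective ψT b
      exact ⟨h, ToriConj.ev_injective ψ ((CentTorus.ev_comp ψ ψT iT h).symm.trans hb)⟩
  have hcl : ConeClosed c v := coneClosed ψ iB hB hc hv fun g hg => (hstab' g).1 hg
  obtain ⟨et, het0, het⟩ := exists_fixed_line hsB iB ψ (isRep_dual hc)
  have hcl' : ConeClosed (dual (k := k) c) et := coneClosed ψ iB hB (isRep_dual hc) het0 het
  obtain ⟨Idx, _, n, hn, hrep⟩ := exists_normalizer_reps G hT hB t ht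
  choose nn hnn using fun i => ToriConj.ev_surjective ψ (n i)
  have hnorm : ∀ i, ∀ s ∈ S, nn i * s * (nn i)⁻¹ ∈ S ∧ (nn i)⁻¹ * s * nn i ∈ S := by
    intro i s hs
    obtain ⟨σ, hσ⟩ := hn i
    obtain ⟨p, hp⟩ := (hS s).1 hs
    refine ⟨(hS _).2 ⟨p ≫ σ.hom, ?_⟩, (hS _).2 ⟨p ≫ σ.inv, ?_⟩⟩
    · rw [map_mul, map_mul, map_inv, hnn, Category.assoc, hσ, BorelTori.pt_comp_conjBy, hp]
    · have h1 : (p ≫ σ.inv) ≫ σ.hom ≫ iT = n i * ((p ≫ σ.inv) ≫ iT) * (n i)⁻¹ := by
        rw [hσ, BorelTori.pt_comp_conjBy]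
      rw [Category.assoc, Iso.inv_hom_id_assoc, hp] at h1
      rw [map_mul, map_mul, map_inv, hnn, h1]
      group
  have hfix : ∀ g : Conn.Pt k A, (∀ s ∈ S, ∃ a : k, mat c (g⁻¹ * s * g) *ᵥ v = a • v) →
      ∃ i, ∃ a : k, mat c g *ᵥ v = a • (mat c (nn i) *ᵥ v) := by
    intro g hg
    obtain ⟨i, b, hb⟩ := hrep (ToriConj.ev ψ g) fun s => by
      obtain ⟨s', rfl⟩ := ToriConj.ev_surjective ψT s
      obtain ⟨b, hb⟩ := (hstab' _).2 (hg _ ⟨s', rfl⟩)
      exact ⟨b, by rw [hb, map_mul, map_mul, map_inv, CentTorus.ev_comp ψ ψT iT]⟩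
    obtain ⟨h, hh⟩ := ToriConj.ev_surjective ψ (b ≫ iB)
    obtain ⟨a, ha⟩ := (hstab' h).1 ⟨b, hh.symm⟩
    refine ⟨i, a, ?_⟩
    rw [show g = nn i * h from ToriConj.ev_injective ψ (by rw [map_mul, hnn, hh, hb]), mat_mul hc,
      ← Matrix.mulVec_mulVec, ha, Matrix.mulVec_smul]
  have hcov : ∀ z ∈ Orb c v, z ≠ 0 → ∃ r : Fin (N + 1) → k, r ⬝ᵥ z ≠ 0 ∧
      ∀ h, r ᵥ* mat c (HopfFlat.restrPts π h) = r := by
    intro z hz hz0
    obtain ⟨r, hrz, hrO, hrT⟩ := exists_covectors hc hspan het0 hcl hcl' hdiag nn hnorm hfix z hz hz0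
    refine ⟨r, hrz, ?_⟩
    have hr0 : r ≠ 0 := fun e => hrz (by rw [e, zero_dotProduct])
    obtain ⟨m, t', ht', hfixr⟩ := exists_borel_fix hT hB t ht ψ (isRep_dual hc) het hr0 hrO fun g hg => by
      obtain ⟨s, hs⟩ := (hS g).2 hg
      obtain ⟨a, ha⟩ := hrT g⁻¹ ⟨s⁻¹, by rw [map_inv, hs]⟩
      exact ⟨a, by rw [mat_dual_mulVec, ha]⟩
    obtain ⟨f, hf⟩ := hH B (AGF.conjBy m iB) t' (BorelOps.isBorelOver_conjBy hB m) ht' W iW hW
    have hstabH : ∀ h : Conn.Pt k Q, ∃ a : k, mat (dual (k := k) c) (HopfFlat.restrPts π h) *ᵥ r = a • r := fun h =>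
      hfixr _ ⟨ToriConj.ev ψH h ≫ f ≫ iW, by
        rw [Category.assoc, Category.assoc, hf, CentTorus.ev_comp ψ ψH j]⟩
    intro h
    have h1 := fixed_of_unipotent hQ π (isRep_dual hc) hstabH h⁻¹
    rwa [mat_dual_mulVec, map_inv, _root_.inv_inv] at h1
  have hfixall : ∀ (g : Conn.Pt k A) (h : Conn.Pt k Q),
      mat c (HopfFlat.restrPts π h) *ᵥ (mat c g *ᵥ v) = mat c g *ᵥ v := fun g h => orbit_fixed hc π hcov hcl g h
  have hconj : ∀ (g : pk ⟶ G) (p : pk ⟶ H), ∃ w : pk ⟶ W, w ≫ iW ≫ iB = g * (p ≫ j) * g⁻¹ := by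
    intro g
    obtain ⟨fB, hfB⟩ := conjBy_factor g j iB fun p => by
      obtain ⟨g', hg'⟩ := ToriConj.ev_surjective ψ g
      obtain ⟨h, rfl⟩ := ToriConj.ev_surjective ψH p
      obtain ⟨b, hb⟩ := (hstab' (g' * HopfFlat.restrPts π h * g'⁻¹)).2 ⟨1, by
        rw [one_smul, mat_mul hc, mat_mul hc, ← Matrix.mulVec_mulVec, ← Matrix.mulVec_mulVec, hfixall g'⁻¹ h,
          Matrix.mulVec_mulVec, ← mat_mul hc, mul_inv_cancel, mat_one hc, Matrix.one_mulVec]⟩
      exact ⟨b, by rw [hb, map_mul, map_mul, map_inv, hg', CentTorus.ev_comp ψ ψH j]⟩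
    haveI := BorelConj.isMonHom_conjBy g j
    haveI := BorelConj.isClosedImmersion_conjBy g j
    haveI := BorelCor.isMonHom_factor fB iB _ hfB
    haveI : IsClosedImmersion fB.left := by
      have : IsClosedImmersion (fB.left ≫ iB.left) := by rw [← Over.comp_left, hfB]; infer_instance
      exact IsClosedImmersion.of_comp fB.left iB.left
    obtain ⟨fW', hfW'⟩ := hmW H fB inferInstance inferInstance inferInstance nH
    exact fun p => ⟨p ≫ fW', by rw [Category.assoc, reassoc_of% hfW', hfB, BorelTori.pt_comp_conjBy]⟩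
  haveI := AlgGrp79.lft_prod G H
  haveI := AlgGrp79.reduced_prod G H
  let F : AlgGrp79.Fam G :=
    { X := G ⊗ H
      f := fst G H * (snd G H ≫ j) * (fst G H)⁻¹
      x := lift 1 1
      hx := by simp [MonObj.comp_mul, GrpObj.comp_inv, MonObj.one_comp]
      red := inferInstance
      irr := AlgGrp79.irreducible_prod G H
      lft := inferInstance
      qc := AlgGrp79.qc_prod G H }
  have hFpts : ∀ a, a ∈ F.pts ↔ ∃ (g : pk ⟶ G) (p : pk ⟶ H), a = g * (p ≫ j) * g⁻¹ := by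
    intro a
    constructor
    · rintro ⟨q, rfl⟩
      exact ⟨q ≫ fst G H, q ≫ snd G H, by simp [F, MonObj.comp_mul, GrpObj.comp_inv]⟩
    · rintro ⟨g, p, rfl⟩
      exact ⟨lift g p, by simp [F, MonObj.comp_mul, GrpObj.comp_inv]⟩
  obtain ⟨D', _, iD, _, _, _, _, hDpts⟩ := AlgGrp79.exists_generated F
  haveI : IsAffine D'.left := isAffine_of_isAffineHom iD.left
  haveI : IsReduced D'.left := isReduced_of_smooth D'.hom
  haveI : Mono iD := Over.mono_of_mono_left iD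
  let ΦW : (pk ⟶ W) →* (pk ⟶ G) := MonoidHom.mk' (fun w => w ≫ iW ≫ iB) fun x y => MonObj.mul_comp x y (iW ≫ iB)
  haveI : IsClosedImmersion (iW ≫ iB).left := inferInstanceAs (IsClosedImmersion (iW.left ≫ iB.left))
  obtain ⟨fD, hfD⟩ := BorelCor.exists_factor_of_pts iD (iW ≫ iB) fun d => by
    have hd : d ≫ iD ∈ Subgroup.closure F.pts := hDpts.le ⟨d, rfl⟩
    have hle : Subgroup.closure F.pts ≤ ΦW.range := (Subgroup.closure_le _).2 fun a ha => by
      obtain ⟨g, p, rfl⟩ := (hFpts a).1 ha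
      exact hconj g p
    exact hle hd
  haveI := BorelCor.isMonHom_factor fD (iW ≫ iB) iD hfD
  haveI : Mono (fD ≫ iW ≫ iB) := by rw [hfD]; infer_instance
  haveI : Mono fD := mono_of_mono fD (iW ≫ iB)
  have nD : Red.HasNoSubtorus k D' := UnipBasic.hasNoSubtorus_of_unipotent hQW ψW fD
  have hnormD : AlgGrp.IsNormalHom iD := UnipBasic.isNormalHom_of_pts iD fun g d => by
    have hd : d ≫ iD ∈ Subgroup.closure F.pts := hDpts.le ⟨d, rfl⟩
    haveI : (Subgroup.closure F.pts).Normal := by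
      refine ⟨fun x hx g => ?_⟩
      induction hx using Subgroup.closure_induction with
      | mem a ha =>
        obtain ⟨g', p, rfl⟩ := (hFpts a).1 ha
        refine Subgroup.subset_closure ((hFpts _).2 ⟨g * g', p, ?_⟩)
        group
      | one => simp [one_mem]
      | mul a b _ _ ha hb =>
        rw [show g * (a * b) * g⁻¹ = g * a * g⁻¹ * (g * b * g⁻¹) by group]
        exact mul_mem ha hb
      | inv a _ ha =>
        rw [show g * a⁻¹ * g⁻¹ = (g * a * g⁻¹)⁻¹ by group]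
        exact inv_mem ha
    obtain ⟨d', hd'⟩ := hDpts.ge (Subgroup.Normal.conj_mem inferInstance _ hd g)
    exact ⟨d', hd'.symm⟩
  obtain ⟨QD, _, _, _, ψD, _, hQD⟩ := UnipBasic.exists_unip_coord D' nD
  obtain ⟨_, hUci, -, -, -, -, hUmax⟩ := id hU
  haveI := hUci
  obtain ⟨eD, heD⟩ := hUmax D' iD inferInstance hnormD inferInstance inferInstance fun s => by
    refine ⟨?_, UnipBasic.hasNoSubtorus_bc hQD ψD _⟩
    haveI := GMod80.isIso_geomPt (k := k) s
    haveI : IsIso (Limits.pullback.fst D'.hom (Red.geomPt s)) := inferInstance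
    exact (Limits.pullback.fst D'.hom (Red.geomPt s)).homeomorph.symm.surjective.connectedSpace
      (Scheme.Hom.homeomorph _).symm.continuous
  obtain ⟨fj, hfj⟩ := BorelCor.exists_factor_of_pts j iD fun p =>
    hDpts.ge (Subgroup.subset_closure ((hFpts _).2 ⟨1, p, by simp⟩))
  exact ⟨fj ≫ eD, by rw [Category.assoc, heD, hfj]⟩

end Groth.Agent.AGF80.Luna
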