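import Groth.Agent.AGF80.Luna.SplitBC
import Groth.Agent.AGF80.Luna.Perfect
import Groth.Agent.RootDat34.Main
import Groth.Agent.AlgGrp79.DSHomField

/-!
The line of a root in the lattice and the normalizer of the torus inside the centralizer of its kernel.
-/

set_option autoImplicit false
set_option linter.unusedSectionVars false
set_option linter.style.haveILetI false
set_option backward.isDefEq.respectTransparency.types false
set_option synthInstance.maxHeartbeats 200000

universe u

open CategoryTheory MonoidalCategory CartesianMonoidalCategory MonObj GrpObj AlgebraicGeometry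
open Groth.Agent.RedPts82 Groth.Agent.RootDat34

noncomputable section

namespace Groth.Agent.AGF80.Luna

/-- A nonzero vector of a lattice is a positive multiple of a vector split off by a functional. -/
theorem exists_line {M : Type} [AddCommGroup M] [Module.Free ℤ M] [Module.Finite ℤ M] {α : M} (hα : α ≠ 0) :
    ∃ (a₀ : M) (d : ℕ) (lam : M →+ ℤ) (r : ℕ) (q : M →+ (Fin r → ℤ)) (sec : (Fin r → ℤ) →+ M),
      d ≠ 0 ∧ α = d • a₀ ∧ lam a₀ = 1 ∧ q a₀ = 0 ∧ Function.Surjective q ∧ ∀ m, m = sec (q m) + lam m • a₀ := by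
  classical
  let b := Module.Free.chooseBasis ℤ M
  haveI : Fintype (Module.Free.ChooseBasisIndex ℤ M) := inferInstance
  let ev : Module.Dual ℤ M →ₗ[ℤ] ℤ := Module.Dual.eval ℤ M α
  let g : ℤ := Submodule.IsPrincipal.generator (LinearMap.range ev)
  obtain ⟨f₀, hf₀⟩ : g ∈ LinearMap.range ev := Submodule.IsPrincipal.generator_mem _
  have hdvd : ∀ f : Module.Dual ℤ M, g ∣ f α := fun f => by
    obtain ⟨c, hc⟩ := (Submodule.mem_span_singleton).1 (by
      rw [Submodule.IsPrincipal.span_singleton_generator]; exact ⟨f, rfl⟩ :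
      f α ∈ Submodule.span ℤ ({g} : Set ℤ))
    exact ⟨c, by rw [← hc, smul_eq_mul, mul_comm]⟩
  have hg0 : g ≠ 0 := fun h => hα (b.repr.injective (Finsupp.ext fun i => by
    have := hdvd (b.coord i)
    rw [h, zero_dvd_iff] at this
    simpa using this))
  choose c hc using fun i => hdvd (b.coord i)
  let a' : M := ∑ i, c i • b i
  have ha' : α = g • a' := by
    conv_lhs => rw [← b.sum_repr α]
    simp only [a', Finset.smul_sum, smul_smul]
    exact Finset.sum_congr rfl fun i _ => by rw [show b.repr α i = b.coord i α from rfl, hc i]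
  let σ : ℤ := Int.sign g
  have hσ : σ * σ = 1 := by
    rcases lt_or_gt_of_ne hg0 with h | h
    · simp [σ, Int.sign_eq_neg_one_of_neg h]
    · simp [σ, Int.sign_eq_one_of_pos h]
  let lam : M →+ ℤ := (σ • f₀ : Module.Dual ℤ M).toAddMonoidHom
  let a₀ : M := σ • a'
  have hαd : α = g.natAbs • a₀ := by
    rw [← natCast_zsmul, smul_smul, show (g.natAbs : ℤ) * σ = g from by
      rw [mul_comm]; exact Int.sign_mul_natAbs g, ha']
  have hlam : lam a₀ = 1 := by
    have h1 : lam α = σ * g := by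
      show (σ • f₀ : Module.Dual ℤ M) α = _
      rw [LinearMap.smul_apply, smul_eq_mul, show f₀ α = g from hf₀]
    rw [hαd, map_nsmul, nsmul_eq_mul] at h1
    refine mul_left_cancel₀ (a := (g.natAbs : ℤ)) (by simpa using hg0) ?_
    rw [h1, _root_.mul_one]
    exact Int.sign_mul_self_eq_natAbs g
  let e := (Module.finBasis ℤ (LinearMap.ker lam.toIntLinearMap)).equivFun
  let p : M →ₗ[ℤ] LinearMap.ker lam.toIntLinearMap :=
    LinearMap.codRestrict _ (LinearMap.id - LinearMap.smulRight lam.toIntLinearMap a₀) fun m => by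
      rw [LinearMap.mem_ker]
      show lam (m - lam m • a₀) = 0
      rw [map_sub, map_zsmul, hlam, smul_eq_mul, _root_.mul_one, sub_self]
  refine ⟨a₀, g.natAbs, lam, _, (e.toLinearMap.comp p).toAddMonoidHom,
    ((LinearMap.ker lam.toIntLinearMap).subtype.comp e.symm.toLinearMap).toAddMonoidHom,
    by simpa using hg0, hαd, hlam, ?_, ?_, fun m => ?_⟩
  · show e (p a₀) = 0
    rw [show p a₀ = 0 from Subtype.ext (by show a₀ - lam a₀ • a₀ = 0; rw [hlam, one_smul, sub_self]), map_zero]
  · intro y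
    refine ⟨(e.symm y : M), ?_⟩
    show e (p _) = y
    rw [show p (e.symm y : M) = e.symm y from Subtype.ext (by
      have h : lam (e.symm y : M) = 0 := (e.symm y).2
      show (e.symm y : M) - lam (e.symm y : M) • a₀ = _
      rw [h, zero_smul, sub_zero]), LinearEquiv.apply_symm_apply]
  · show m = ((e.symm (e (p m))) : M) + lam m • a₀
    rw [LinearEquiv.symm_apply_apply]
    show m = m - lam m • a₀ + lam m • a₀
    rw [sub_add_cancel]

variable {k : Type u} [Field k] [IsAlgClosed k] {G : Over (Spec (CommRingCat.of k))} [GrpObj G]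
  (D : Red.SplitRed G)

local notation "Sk" => Spec (CommRingCat.of k)

/-- The characters of a diagonalisable group over a field are distinct. -/
theorem DSmap_injective {M N : Type} [AddCommGroup M] [AddCommGroup N] {f g : M →+ N}
    (h : Red.DSmap Sk f = Red.DSmap Sk g) : f = g := by
  obtain ⟨t, ht⟩ := AlgGrp79.exists_taut (k := k) N
  refine AddMonoidHom.ext fun m => ht ?_
  rw [← dsFn_DSmap, ← dsFn_DSmap, h]

/-- A section fixing the torus of the lattice is a point of the torus. -/
theorem mem_torus_of_conj_id (n : 𝟙_ (Over Sk) ⟶ G) (hn : Conj D D n (AddMonoidHom.id D.M)) :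
    ∃ s : 𝟙_ (Over Sk) ⟶ D.T, s ≫ D.i = n := by
  refine exists_factor_of_comm (isReductiveOver_of D.reductive) (isMaxTorus_of D.maximalTorus) n fun X x s => ?_
  have e := hn X (s ≫ D.split.hom.hom.hom)
  rw [pt_DSmap_id, ← i_eq_tpt] at e
  rw [show x ≫ n = np n X from congrArg (· ≫ n) (toUnit_unique x (toUnit X))]
  exact mul_inv_eq_iff_eq_mul.1 e

/-- A section normalising the torus and fixing a subtorus of corank one is in the torus or reflects. -/
theorem normalizer_line {a₀ : D.M} {d : ℕ} {lam : D.M →+ ℤ} {r : ℕ} {q : D.M →+ (Fin r → ℤ)}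
    {sec : (Fin r → ℤ) →+ D.M} {a : D.idx} (hd : d ≠ 0) (hαd : D.P.root a = d • a₀) (hlam : lam a₀ = 1)
    (hq : q a₀ = 0) (hdec : ∀ m, m = sec (q m) + lam m • a₀) (n₀ : 𝟙_ (Over Sk) ⟶ G)
    (hn₀ : Conj D D n₀ (D.P.reflection a).toLinearMap.toAddMonoidHom) (n : 𝟙_ (Over Sk) ⟶ G)
    (hn : ∀ (X : Over Sk) (t : X ⟶ D.T), ∃ t' : X ⟶ D.T, np n X * (t ≫ D.i) * (np n X)⁻¹ = t' ≫ D.i)
    (hS : ∀ (X : Over Sk) (s : X ⟶ Red.DS Sk (Fin r → ℤ)),
      np n X * tpt D (s ≫ Red.DSmap Sk q) = tpt D (s ≫ Red.DSmap Sk q) * np n X) :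
    ∃ s : 𝟙_ (Over Sk) ⟶ D.T, n = s ≫ D.i ∨ n₀ * n = s ≫ D.i := by
  obtain ⟨φ, hφ⟩ := exists_conj D D n hn
  have hqφ : q.comp φ = q := by
    refine DSmap_injective (k := k) ?_
    rw [← comp_DSmap_DSmap]
    have e := hφ _ (𝟙 _ ≫ Red.DSmap Sk q)
    rw [hS _ (𝟙 _), mul_inv_cancel_right, Category.id_comp] at e
    exact (tpt_injective e).symm
  have hdec' : ∀ m, φ m = m + (lam (φ m - m)) • a₀ := fun m => by
    have h := hdec (φ m - m)
    rw [map_sub, show q (φ m) = q m from DFunLike.congr_fun hqφ m, sub_self, map_zero, zero_add] at h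
    rw [← h, add_sub_cancel]
  have hfix : ∀ (g : 𝟙_ (Over Sk) ⟶ G) (θ : D.M →+ D.M), Conj D D g θ → (∀ m, q (θ m) = q m) → θ a₀ = a₀ →
      ∃ s : 𝟙_ (Over Sk) ⟶ D.T, g = s ≫ D.i := by
    intro g θ hg hqθ hθa
    let h : D.M →+ ℤ := lam.comp (θ - AddMonoidHom.id D.M)
    have hθ : θ = shear a₀ h := AddMonoidHom.ext fun m => by
      have e := hdec (θ m - m)
      rw [map_sub q, hqθ, sub_self, map_zero, zero_add] at e
      rw [shear_apply, show h m = lam (θ m - m) from rfl, ← e, add_sub_cancel]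
    have hh : h = 0 := eq_zero_of_conj D g a₀ (fun e => by simp [e] at hlam) h
      (by show lam (θ a₀ - a₀) = 0; rw [hθa, sub_self, map_zero]) (hθ ▸ hg)
    obtain ⟨s, hs⟩ := mem_torus_of_conj_id D g (by
      rw [show AddMonoidHom.id D.M = θ from AddMonoidHom.ext fun m => by
        rw [hθ, shear_apply, hh]; simp]
      exact hg)
    exact ⟨s, hs.symm⟩
  obtain ⟨y, hy⟩ := surjective_of_conj hφ a₀
  have hy0 : q y = 0 := by rw [← show q (φ y) = q y from DFunLike.congr_fun hqφ y, hy, hq]
  have hyl : y = lam y • a₀ := by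
    have h := hdec y
    rwa [hy0, map_zero, zero_add] at h
  have hunit : lam (φ a₀) * lam y = 1 := by
    have h := congrArg lam hy
    rw [hyl, map_zsmul, map_zsmul, hlam, smul_eq_mul] at h
    rw [_root_.mul_comm]
    exact h
  rcases Int.eq_one_or_neg_one_of_mul_eq_one hunit with h1 | h1
  · obtain ⟨s, hs⟩ := hfix n φ hφ (fun m => DFunLike.congr_fun hqφ m) (by
      rw [hdec' a₀, map_sub, h1, hlam, sub_self, zero_smul, add_zero])
    exact ⟨s, Or.inl hs⟩
  · have hφa : φ a₀ = -a₀ := by
      rw [hdec' a₀, map_sub, h1, hlam]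
      module
    let ρ := (D.P.reflection a).toLinearMap.toAddMonoidHom
    have hρq : ∀ m, q (ρ m) = q m := fun m => by
      show q (D.P.reflection a m) = _
      rw [D.P.reflection_apply, hαd, map_sub, map_zsmul, map_nsmul, hq, smul_zero, smul_zero, sub_zero]
    have hρa : ρ a₀ = -a₀ := by
      have h := (D.P.reflection_apply_self a : D.P.reflection a (D.P.root a) = -D.P.root a)
      rw [hαd, map_nsmul, ← smul_neg] at h
      haveI := Roots36.isAddTorsionFree_M D.P
      exact nsmul_right_injective hd h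
    obtain ⟨s, hs⟩ := hfix (n₀ * n) (φ.comp ρ) (hφ.comp hn₀)
      (fun m => (DFunLike.congr_fun hqφ (ρ m)).trans (hρq m))
      (by rw [AddMonoidHom.comp_apply, hρa, map_neg, hφa, neg_neg])
    exact ⟨s, Or.inr hs⟩

end Groth.Agent.AGF80.Luna
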