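import Groth.Agent.AGF80.Luna.DerivedGrp

/-!
Perfect reductive groups are semisimple; central tori meet the derived group in finite groups.
-/

set_option autoImplicit false
set_option linter.unusedSectionVars false
set_option linter.style.haveILetI false
set_option backward.isDefEq.respectTransparency.types false
set_option synthInstance.maxHeartbeats 200000

universe u

open CategoryTheory MonoidalCategory CartesianMonoidalCategory MonObj GrpObj AlgebraicGeometry
open Groth.Agent.GMod80

noncomputable section

namespace Groth.Agent.AGF80.Luna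

open AlgGrp79

variable {k : Type u} [Field k]

local notation "pk" => 𝟙_ (Over (Spec (CommRingCat.of k)))

/-- A scheme of finite type over an algebraically closed field with finitely many rational points is finite. -/
theorem finite_of_finite_pts [IsAlgClosed k] (X : Over (Spec (CommRingCat.of k))) [LocallyOfFiniteType X.hom]
    (h : (Set.univ : Set (pk ⟶ X)).Finite) : Finite X.left := by
  haveI : JacobsonSpace X.left := LocallyOfFiniteType.jacobsonSpace X.hom
  have hsub : closedPoints X.left ⊆ (fun p : pk ⟶ X => p.left (IsLocalRing.closedPoint k)) '' Set.univ := fun z hz => by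
    obtain ⟨p, hp⟩ := ptVal_eq z hz
    exact ⟨p, trivial, hp⟩
  have hfin : (closedPoints X.left).Finite := (h.image _).subset hsub
  have hcl : IsClosed (closedPoints X.left) := by
    rw [← Set.biUnion_of_singleton (closedPoints X.left)]
    exact hfin.isClosed_biUnion fun z hz => hz
  exact Set.finite_univ_iff.1 ((hcl.closure_eq.symm.trans closure_closedPoints) ▸ hfin)

/-- A torus with one rational point is trivial. -/
theorem isTrivialGrp_of_pts [IsAlgClosed k] {T : Over (Spec (CommRingCat.of k))} [GrpObj T] [IsReduced T.left]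
    [LocallyOfFiniteType T.hom] (h : ∀ s : pk ⟶ T, s = 1) : Red.IsTrivialGrp T := by
  haveI := isSeparated_grp T
  haveI : IsClosedImmersion (η[T] : pk ⟶ T).left := BorelFixed.rat_isClosedImmersion η[T]
  haveI : JacobsonSpace T.left := LocallyOfFiniteType.jacobsonSpace T.hom
  have hsub : closedPoints T.left ⊆ Set.range (η[T] : pk ⟶ T).left := fun z hz => by
    obtain ⟨p, hp⟩ := ptVal_eq z hz
    rw [h p, Hom.one_def, toUnit_unique (toUnit _) (𝟙 pk), Category.id_comp] at hp
    exact ⟨_, hp⟩
  haveI : Surjective (η[T] : pk ⟶ T).left := ⟨fun z => Set.eq_univ_iff_forall.1 (Set.eq_univ_of_univ_subset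
    (closure_closedPoints.ge.trans (closure_minimal hsub
      (η[T] : pk ⟶ T).left.isClosedEmbedding.isClosed_range))) z⟩
  haveI := BorelConj.isIso_of_surj (η[T] : pk ⟶ T)
  haveI : IsIso (η[T] : pk ⟶ T).left := ((Over.forget _).mapIso (asIso η[T])).isIso_hom
  have hw : (η[T] : pk ⟶ T).left ≫ T.hom = 𝟙 _ := Over.w _
  show IsIso T.hom
  rw [show T.hom = inv (η[T] : pk ⟶ T).left by rw [← cancel_epi (η[T] : pk ⟶ T).left, hw, IsIso.hom_inv_id]]
  infer_instance

/-- A perfect reductive group is semisimple. -/
theorem isSemisimple_of_perfect {G : Over (Spec (CommRingCat.of k))} [GrpObj G] (hG : Red.IsReductive G)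
    (hperf : ∀ (H : Over (Spec (CommRingCat.of k))) [GrpObj H] [IsCommMonObj H] (f : G ⟶ H) [IsMonHom f],
      f = toUnit G ≫ η[H]) : Red.IsSemisimple G := by
  obtain ⟨hGa, hGs, hGf⟩ := id hG
  haveI := hGa
  haveI := hGs
  haveI : IsAffine G.left := isAffine_of_isAffineHom G.hom
  refine ⟨hGa, hGs, fun s => ⟨hGf s, fun T _ i _ hcl hn hT => ?_⟩⟩
  obtain ⟨hGb, hGbs, hGbc, -⟩ := hGf s
  haveI := hGb
  haveI := hGbs
  haveI := hGbc
  haveI : ConnectedSpace (Limits.pullback G.hom (Red.geomPt s) :) := hGbc
  haveI : ConnectedSpace G.left :=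
    (show Surjective (Limits.pullback.fst G.hom (Red.geomPt s)) from by
      haveI : Subsingleton ↥(Spec (CommRingCat.of k)) := inferInstanceAs (Subsingleton (PrimeSpectrum k))
      exact MorphismProperty.pullback_fst _ _ ⟨fun y => ⟨IsLocalRing.closedPoint _, Subsingleton.elim _ _⟩⟩).surj.connectedSpace
      (Limits.pullback.fst G.hom (Red.geomPt s)).continuous
  haveI := hcl
  haveI : Mono i := Over.mono_of_mono_left i
  obtain ⟨hTs, _, hTa, _, _⟩ := AlgGrp33.IsogSub.torus_props hT
  haveI := hTs
  haveI : IsReduced T.left := AlgGrp79.isReduced_of_smooth T.hom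
  obtain ⟨K, _, j, Q, _, _, q, hjm, hqm, _, _, _, hker, hkill⟩ := exists_abelianization G
  haveI := hqm
  obtain ⟨e, he, -⟩ : ∃ e : G ⟶ K, e ≫ j = 𝟙 G ∧ e ≫ toUnit K = toUnit G :=
    ⟨hker.lift (𝟙 G) (toUnit G) (by rw [Category.id_comp]; exact hperf Q q), hker.lift_fst _ _ _, hker.lift_snd _ _ _⟩
  refine isTrivialGrp_of_pts (central_torus_trivial i hT
    (fun t g => Reductive.normal_torus_central hT i hn _ g t) fun t χ hχ => ?_)
  haveI := hχ
  have h := hkill _ (Red.geomPt s) _ χ ((t ≫ i) ≫ (Over.pullback (Red.geomPt s)).map e)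
  rwa [Category.assoc (t ≫ i), ← Functor.map_comp_assoc, he, CategoryTheory.Functor.map_id, Category.id_comp,
    Category.assoc] at h

/-- A central torus meets the derived group in a finite scheme. -/
theorem finite_central_derived {G T D : Over (Spec (CommRingCat.of k))} [GrpObj G] [GrpObj T] [GrpObj D]
    [IsAffine G.left] [Smooth G.hom] [ConnectedSpace G.left] (t : T ⟶ G) [IsMonHom t] [IsClosedImmersion t.left]
    (hT : Red.IsTorus T)
    (hcen : ∀ (X : Over (Spec (CommRingCat.of k))) (g : X ⟶ G) (s : X ⟶ T), g * (s ≫ t) = (s ≫ t) * g)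
    (d : D ⟶ G) [IsClosedImmersion d.left]
    (hmin : ∀ (H : Over (Spec (CommRingCat.of k))) [GrpObj H] [IsCommMonObj H] [LocallyOfFiniteType H.hom]
      [QuasiCompact H.hom] (f : G ⟶ H) [IsMonHom f], d ≫ f = toUnit D ≫ η[H]) :
    Finite ↥(Limits.pullback t.left d.left) := by
  obtain ⟨K, _, j, Q, _, _, q, hjm, hqm, _, _, _, hker, hkill⟩ := exists_abelianization G
  haveI := hqm
  let s : Spec (CommRingCat.of k) := IsLocalRing.closedPoint k
  let σ := Red.geomPt s
  let fD : D ⟶ K := hker.lift d (toUnit D) (hmin Q q)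
  haveI := GeomSub.isClosedImmersion_bc σ t
  haveI := GeomSub.smooth_bc σ G
  haveI : ConnectedSpace (Red.bc σ G).left := BorelDesc.connectedSpace_bc σ
  haveI : IsAffine (Red.bc σ G).left := GeomSub.isAffine_bc σ G
  let P := Limits.pullback t d
  let p₁ : P ⟶ T := Limits.pullback.fst t d
  let p₂ : P ⟶ D := Limits.pullback.snd t d
  have sq : IsPullback p₁ p₂ t d := IsPullback.of_hasPullback t d
  have hsq : IsPullback p₁.left p₂.left t.left d.left := AlgGrp79.isPullback_left sq
  haveI : IsClosedImmersion p₁.left := MorphismProperty.of_isPullback hsq.flip inferInstance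
  haveI := GeomSub.isClosedImmersion_bc σ p₁
  haveI : Mono ((Over.pullback σ).map p₁) := Over.mono_of_mono_left _
  have hT' : Red.IsTorus (Red.bc σ T) := AlgGrp79.TorusBC.isTorus_bc σ hT
  obtain ⟨hTs, _, _, _, _⟩ := AlgGrp33.IsogSub.torus_props hT'
  haveI := hTs
  have hfin := finite_central_kill ((Over.pullback σ).map t) hT' fun x g => by
    refine RedPts82.toBase_injective σ ?_
    simp only [RedPts82.toBase_mul, RedPts82.toBase_comp_map]
    exact hcen _ _ _
  haveI : LocallyOfFiniteType (Red.bc σ T).hom := inferInstance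
  haveI : LocallyOfFiniteType (Red.bc σ P).hom := by
    rw [← Over.w ((Over.pullback σ).map p₁)]; infer_instance
  have hP : (Set.univ : Set (𝟙_ (Over (Spec (CommRingCat.of (AlgebraicClosure
      ((Spec (CommRingCat.of k)).residueField s))))) ⟶ Red.bc σ P)).Finite := by
    refine Set.Finite.of_finite_image (f := fun x => x ≫ (Over.pullback σ).map p₁) (hfin.subset ?_)
      fun a _ b _ h => (cancel_mono _).1 h
    rintro _ ⟨x, -, rfl⟩ χ hχ
    haveI := hχ
    have h := hkill _ σ _ χ ((x ≫ (Over.pullback σ).map p₂) ≫ (Over.pullback σ).map fD)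
    rw [← h]
    simp only [Category.assoc]
    rw [← Functor.map_comp_assoc, sq.w, ← Functor.map_comp_assoc (Over.pullback σ) fD j, hker.lift_fst,
      Functor.map_comp_assoc]
  haveI := finite_of_finite_pts (Red.bc σ P) hP
  haveI : Surjective σ := GeomSub.surjective_spec σ
  haveI : Surjective (Limits.pullback.fst P.hom σ) := MorphismProperty.pullback_fst _ _ inferInstance
  haveI : Finite (Limits.pullback P.hom σ :) := ‹Finite (Red.bc σ P).left›
  haveI : Finite P.left := Finite.of_surjective _ (Limits.pullback.fst P.hom σ).surjective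
  exact Finite.of_surjective _ hsq.isoPullback.hom.homeomorph.surjective

end Groth.Agent.AGF80.Luna
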