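import Groth.Agent.AGF80.Luna.ExtField
import Groth.Agent.AlgGrp79.DSHomField
import Groth.Agent.AlgGrp79.SepDense
import Groth.Agent.RedPts82.SplitSub
import Groth.Agent.RedPts82.HomExtendMult
import Groth.Agent.RedPts82.SplitNormal
import Groth.Agent.GIT36.Mu.TorusChars
import Groth.Agent.CAlg6.GenConn
import Groth.Agent.GMod80.NoTorus

/-!
Split tori over separably closed fields, cocharacters, and base change of maximal tori.
-/

set_option autoImplicit false
set_option linter.unusedSectionVars false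
set_option linter.style.haveILetI false
set_option backward.isDefEq.respectTransparency.types false
set_option synthInstance.maxHeartbeats 200000

universe u

open CategoryTheory MonoidalCategory CartesianMonoidalCategory MonObj GrpObj AlgebraicGeometry
open Groth.Agent.GMod80

noncomputable section

namespace Groth.Agent.AGF80.Luna

open AlgGrp79

variable {k : Type u} [Field k]

local notation "pk" => 𝟙_ (Over (Spec (CommRingCat.of k)))

/-- A torus is split by some field extension. -/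
theorem exists_split_ext {T : Over (Spec (CommRingCat.of k))} [GrpObj T] (hT : Red.IsTorus T) :
    ∃ (n : ℕ) (L : Type u) (_ : Field L) (_ : Algebra k L),
      Red.IsSplitTorusWith (Fin n → ℤ) (Red.bc (Spec.map (CommRingCat.ofHom (algebraMap k L))) T) := by
  obtain ⟨S', f, -, hsurj, -, hloc⟩ := hT
  obtain ⟨s', -⟩ := hsurj.surj (Nonempty.some (inferInstance : Nonempty (PrimeSpectrum k)))
  obtain ⟨U, hU, r, ⟨e⟩⟩ := hloc s'
  let p := U.toScheme.fromSpecResidueField ⟨s', hU⟩
  let L : Type u := U.toScheme.residueField ⟨s', hU⟩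
  let φ : CommRingCat.of k ⟶ U.toScheme.residueField ⟨s', hU⟩ := Spec.preimage (p ≫ U.ι ≫ f)
  letI : Field L := inferInstanceAs (Field (U.toScheme.residueField ⟨s', hU⟩))
  letI : Algebra k L := φ.hom.toAlgebra
  refine ⟨r, L, inferInstance, inferInstance, ?_⟩
  have hg : p ≫ (U.ι ≫ f) = Spec.map (CommRingCat.ofHom (algebraMap k L)) := (Spec.map_preimage _).symm
  have key : ∀ σ' : Spec (CommRingCat.of L) ⟶ Spec (CommRingCat.of k), p ≫ U.ι ≫ f = σ' →
      Red.IsSplitTorusWith (Fin r → ℤ) (Red.bc σ' T) := by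
    rintro _ rfl
    exact RedPts82.split_bc (U.ι ≫ f) p ⟨e⟩
  exact key _ hg

/-- A morphism of diagonalisable groups is a monomorphism when the map of characters is surjective. -/
theorem mono_DSmap {S : Scheme.{u}} {M N : Type} [AddCommGroup M] [AddCommGroup N] (φ : M →+ N)
    (hφ : Function.Surjective φ) : Mono (Red.DSmap S φ) :=
  ⟨fun t t' h => RedPts82.dsFn_injective fun n => by
    obtain ⟨m, rfl⟩ := hφ n
    rw [← RedPts82.dsFn_DSmap, h, RedPts82.dsFn_DSmap]⟩

/-- The character group of a diagonalisable group over a field is determined by the group. -/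
theorem addEquiv_of_grpIso {M N : Type} [AddCommGroup M] [AddCommGroup N]
    (e : Grp.mk (Red.DS (Spec (CommRingCat.of k)) M) ≅ Grp.mk (Red.DS (Spec (CommRingCat.of k)) N)) :
    Nonempty (M ≃+ N) := by
  haveI : IsMonHom e.hom.hom.hom := e.hom.hom.isMonHom_hom
  haveI : IsMonHom e.inv.hom.hom := e.inv.hom.isMonHom_hom
  obtain ⟨φ, hφ⟩ := exists_eq_DSmap (k := k) e.hom.hom.hom
  obtain ⟨ψ, hψ⟩ := exists_eq_DSmap (k := k) e.inv.hom.hom
  have h1 : e.hom.hom.hom ≫ e.inv.hom.hom = 𝟙 _ := congrArg (fun f => f.hom.hom) e.hom_inv_id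
  have h2 : e.inv.hom.hom ≫ e.hom.hom.hom = 𝟙 _ := congrArg (fun f => f.hom.hom) e.inv_hom_id
  rw [hφ, hψ] at h1 h2
  obtain ⟨t, ht⟩ := exists_taut (k := k) M
  obtain ⟨t', ht'⟩ := exists_taut (k := k) N
  refine ⟨{ toFun := ψ, invFun := φ, left_inv := fun m => ?_, right_inv := fun n => ?_, map_add' := map_add ψ }⟩
  · refine ht ?_
    conv_rhs => rw [← Category.comp_id t, ← h1, ← Category.assoc, RedPts82.dsFn_DSmap, RedPts82.dsFn_DSmap]
  · refine ht' ?_
    conv_rhs => rw [← Category.comp_id t', ← h2, ← Category.assoc, RedPts82.dsFn_DSmap, RedPts82.dsFn_DSmap]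

/-- Tori over separably closed fields are split. -/
theorem isSplit_of_sepClosed [IsSepClosed k] {T : Over (Spec (CommRingCat.of k))} [GrpObj T] (hT : Red.IsTorus T) :
    ∃ r : ℕ, Red.IsSplitTorusWith (Fin r → ℤ) T := by
  obtain ⟨V, h, v, M, _, -, hh, -, he⟩ :=
    RedPts82.HomExt.exists_etale_split_fg (RedPts82.isMultTypeFT_of_isTorus hT) (IsLocalRing.closedPoint k)
  haveI := hh
  haveI : Nonempty V := ⟨v⟩
  obtain ⟨p, s, hs, -⟩ := (dense_secPts_of_smooth (K := k) h).nonempty
  have h1 : Red.IsSplitTorusWith M T := RedPts82.split_self (by rw [← hs]; exact RedPts82.split_bc h s he)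
  obtain ⟨n, L, _, _, hL⟩ := exists_split_ext hT
  obtain ⟨ε⟩ := addEquiv_of_grpIso ((RedPts82.bc_split _ h1).some.symm ≪≫ hL.some)
  refine ⟨n, ?_⟩
  haveI : IsMonHom (Red.DSmap (Spec (CommRingCat.of k)) ε.symm.toAddMonoidHom) := RedPts82.isMonHom_DSmap _
  let i : Red.DS (Spec (CommRingCat.of k)) M ≅ Red.DS (Spec (CommRingCat.of k)) (Fin n → ℤ) :=
    ⟨Red.DSmap _ ε.symm.toAddMonoidHom, Red.DSmap _ ε.toAddMonoidHom,
      RedPts82.dsFn_injective fun m => by
        conv_lhs => rw [← Category.id_comp (Red.DSmap _ ε.symm.toAddMonoidHom), Category.assoc,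
          ← Category.assoc, RedPts82.dsFn_DSmap, RedPts82.dsFn_DSmap]
        simp,
      RedPts82.dsFn_injective fun m => by
        conv_lhs => rw [← Category.id_comp (Red.DSmap _ ε.toAddMonoidHom), Category.assoc,
          ← Category.assoc, RedPts82.dsFn_DSmap, RedPts82.dsFn_DSmap]
        simp⟩
  haveI : IsMonHom i.hom := ‹_›
  exact ⟨h1.some ≪≫ Grp.mkIso' i⟩

/-- The multiplicative group is not trivial. -/
theorem not_isTrivialGrp_Gm : ¬ Red.IsTrivialGrp (Red.Gm (Spec (CommRingCat.of k))) := by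
  intro h
  haveI : IsIso (Red.Gm (Spec (CommRingCat.of k))).hom := h
  obtain ⟨t, ht⟩ := exists_taut (k := k) ℤ
  have e : t ≫ Red.DSmap (Spec (CommRingCat.of k)) (0 : ℤ →+ ℤ) = t :=
    Over.OverMorphism.ext ((cancel_mono (Red.Gm (Spec (CommRingCat.of k))).hom).1 ((Over.w _).trans (Over.w t).symm))
  have h1 : RedPts82.dsFn t (0 : ℤ) = RedPts82.dsFn t (1 : ℤ) := by
    conv_rhs => rw [← e, RedPts82.dsFn_DSmap]
    rfl
  exact zero_ne_one (ht h1)

/-- A nontrivial torus over an algebraically closed field contains a copy of the multiplicative group. -/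
theorem exists_mono_Gm [IsAlgClosed k] {T : Over (Spec (CommRingCat.of k))} [GrpObj T] (hT : Red.IsTorus T)
    (hne : ¬ Red.IsTrivialGrp T) : ∃ c : Red.Gm (Spec (CommRingCat.of k)) ⟶ T, IsMonHom c ∧ Mono c := by
  obtain ⟨r, ⟨e⟩⟩ := isSplit_of_sepClosed hT
  rcases r with _ | r
  · refine absurd ?_ hne
    haveI : IsMonHom e.hom.hom.hom := e.hom.hom.isMonHom_hom
    haveI : IsReduced T.left := by
      obtain ⟨hs, _, _, _, _⟩ := AlgGrp33.IsogSub.torus_props hT
      haveI := hs
      exact AlgGrp79.isReduced_of_smooth T.hom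
    haveI : LocallyOfFiniteType T.hom := by
      obtain ⟨hs, _, _, _, _⟩ := AlgGrp33.IsogSub.torus_props hT
      haveI := hs
      infer_instance
    refine isTrivialGrp_of_pts fun s => ?_
    haveI : Mono e.hom.hom.hom := by
      haveI : IsIso e.hom.hom.hom := ⟨e.inv.hom.hom, congrArg (fun f => f.hom.hom) e.hom_inv_id,
        congrArg (fun f => f.hom.hom) e.inv_hom_id⟩
      infer_instance
    rw [← cancel_mono e.hom.hom.hom, MonObj.one_comp]
    refine RedPts82.dsFn_injective fun m => ?_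
    rw [show m = (0 : Fin 0 → ℤ) from Subsingleton.elim _ _, RedPts82.dsFn_zero, RedPts82.dsFn_zero]
  · let φ : (Fin (r + 1) → ℤ) →+ ℤ := Pi.evalAddMonoidHom (fun _ => ℤ) 0
    haveI : Mono (Red.DSmap (Spec (CommRingCat.of k)) φ) := mono_DSmap φ fun n => ⟨fun _ => n, rfl⟩
    haveI : IsMonHom (Red.DSmap (Spec (CommRingCat.of k)) φ) := RedPts82.isMonHom_DSmap _
    haveI : IsMonHom e.inv.hom.hom := e.inv.hom.isMonHom_hom
    haveI : IsIso e.inv.hom.hom := ⟨e.hom.hom.hom, congrArg (fun f => f.hom.hom) e.inv_hom_id,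
      congrArg (fun f => f.hom.hom) e.hom_inv_id⟩
    exact ⟨Red.DSmap _ φ ≫ e.inv.hom.hom, inferInstance, inferInstance⟩

/-- Cocharacters of a split torus do not change under field extensions. -/
theorem exists_cochar_descend {K : Type u} [Field K] (σ : Spec (CommRingCat.of K) ⟶ Spec (CommRingCat.of k))
    {T : Over (Spec (CommRingCat.of k))} [GrpObj T] {M : Type} [AddCommGroup M] (hT : Red.IsSplitTorusWith M T)
    (c : Red.Gm (Spec (CommRingCat.of K)) ⟶ Red.bc σ T) [IsMonHom c] :
    ∃ (l : Red.Gm (Spec (CommRingCat.of k)) ⟶ T)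
      (a : Red.Gm (Spec (CommRingCat.of K)) ⟶ Red.bc σ (Red.Gm (Spec (CommRingCat.of k)))),
      IsMonHom l ∧ IsIso a ∧ a ≫ (Over.pullback σ).map l = c := by
  obtain ⟨e⟩ := hT
  let eh : T ⟶ Red.DS (Spec (CommRingCat.of k)) M := e.hom.hom.hom
  let ei : Red.DS (Spec (CommRingCat.of k)) M ⟶ T := e.inv.hom.hom
  haveI : IsMonHom eh := e.hom.hom.isMonHom_hom
  haveI : IsMonHom ei := e.inv.hom.isMonHom_hom
  obtain ⟨aM, haMm, haMi, haM⟩ := RedPts82.exists_ds_bc σ M
  obtain ⟨aZ, haZm, haZi, haZ⟩ := RedPts82.exists_ds_bc σ ℤ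
  haveI := haMm
  haveI := haMi
  haveI : IsMonHom (inv aM) := RedPts82.isMonHom_of_points (inv aM) fun X x y => by
    rw [← cancel_mono aM, MonObj.mul_comp _ _ aM]
    simp only [Category.assoc, IsIso.inv_hom_id, Category.comp_id]
  haveI : IsMonHom (c ≫ (Over.pullback σ).map eh ≫ inv aM) := inferInstance
  obtain ⟨φ, hφ⟩ := exists_eq_DSmap (k := K) (c ≫ (Over.pullback σ).map eh ≫ inv aM)
  haveI : IsMonHom (Red.DSmap (Spec (CommRingCat.of k)) φ) := RedPts82.isMonHom_DSmap _
  refine ⟨Red.DSmap _ φ ≫ ei, aZ, inferInstance, haZi, ?_⟩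
  have hm : aZ ≫ (Over.pullback σ).map (Red.DSmap _ φ) = Red.DSmap _ φ ≫ aM := by
    refine RedPts82.toBase_injective σ (RedPts82.dsFn_injective fun m => ?_)
    rw [haM, RedPts82.toBase_comp_map, RedPts82.dsFn_DSmap, ← Category.id_comp aZ, haZ,
      ← Category.id_comp (Red.DSmap _ φ), RedPts82.dsFn_DSmap]
  rw [Functor.map_comp, ← Category.assoc, hm, ← hφ]
  simp only [Category.assoc, IsIso.inv_hom_id_assoc]
  rw [← Functor.map_comp, show eh ≫ ei = 𝟙 T from congrArg (fun f => f.hom.hom) e.hom_inv_id, CategoryTheory.Functor.map_id,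
    Category.comp_id]

/-- An algebraically closed extension of a field receives the algebraic closure. -/
theorem exists_geomPt_factor {K : Type u} [Field K] [IsAlgClosed K]
    (σ : Spec (CommRingCat.of K) ⟶ Spec (CommRingCat.of k)) (s : Spec (CommRingCat.of k)) :
    ∃ τ : Spec (CommRingCat.of K) ⟶ Spec (CommRingCat.of (AlgebraicClosure ((Spec (CommRingCat.of k)).residueField s))),
      τ ≫ Red.geomPt s = σ := by
  obtain ⟨e, he⟩ := CAlg6.GenConn.exists_factor_residue K σ s (Subsingleton.elim (α := PrimeSpectrum k) _ _)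
  obtain ⟨ψ, rfl⟩ := Spec.map_surjective e
  letI : Algebra ((Spec (CommRingCat.of k)).residueField s) K := ψ.hom.toAlgebra
  let l : AlgebraicClosure ((Spec (CommRingCat.of k)).residueField s) →ₐ[(Spec (CommRingCat.of k)).residueField s] K :=
    IsAlgClosed.lift
  refine ⟨Spec.map (CommRingCat.ofHom l.toRingHom), ?_⟩
  rw [← he]
  show Spec.map _ ≫ Spec.map _ ≫ _ = _
  rw [← Category.assoc, ← Spec.map_comp]
  congr 2
  ext x
  exact l.commutes x

/-- Reductive groups stay reductive over any algebraically closed extension. -/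
theorem isReductiveOver_ext {G : Over (Spec (CommRingCat.of k))} [GrpObj G] (hG : Red.IsReductive G)
    {K : Type u} [Field K] [IsAlgClosed K] (σ : Spec (CommRingCat.of K) ⟶ Spec (CommRingCat.of k)) :
    Red.IsReductiveOver K (Red.bc σ G) := by
  let s₀ : Spec (CommRingCat.of k) := IsLocalRing.closedPoint k
  obtain ⟨τ, rfl⟩ := exists_geomPt_factor σ s₀
  obtain ⟨e, -, he⟩ := RedPts82.exists_bc_comp_iso (Red.geomPt s₀) τ
  haveI := (he G).2
  haveI : IsMonHom (e G).symm.hom := ‹IsMonHom (e G).inv›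
  exact isReductiveOver_of_grpIso (e G).symm (isReductiveOver_bc τ (hG.2.2 s₀))

/-- A maximal torus of a reductive group is its own centralizer, over any field. -/
theorem exists_factor_maximalTorus {G T : Over (Spec (CommRingCat.of k))} [GrpObj G] [GrpObj T]
    (hG : Red.IsReductive G) {iT : T ⟶ G} (hT : Red.IsMaximalTorus iT) {X : Over (Spec (CommRingCat.of k))}
    (g : X ⟶ G) (hg : ∀ (X' : Over (Spec (CommRingCat.of k))) (x : X' ⟶ X) (s : X' ⟶ T),
      (x ≫ g) * (s ≫ iT) = (s ≫ iT) * (x ≫ g)) : ∃ f : X ⟶ T, f ≫ iT = g := by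
  haveI := hT.2.1
  haveI := hG.1
  haveI := hG.2.1
  let s₀ : Spec (CommRingCat.of k) := IsLocalRing.closedPoint k
  let F := Over.pullback (Red.geomPt s₀)
  obtain ⟨hcl, hmax⟩ := isMaxTorus_geom hT s₀
  obtain ⟨f, hf⟩ := exists_factor_of_comm (hG.2.2 s₀) hmax (F.map g) fun X' x s => by
    refine RedPts82.toBase_injective _ ?_
    rw [RedPts82.toBase_mul, RedPts82.toBase_mul, RedPts82.toBase_comp_map, RedPts82.toBase_comp_map]
    exact hg _ _ _
  have sq := IsPullback.of_hasPullback iT g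
  let P := Limits.pullback iT g
  haveI : Mono (F.map iT) := Over.mono_of_mono_left _
  haveI : Mono (F.map (Limits.pullback.snd iT g)) :=
    MorphismProperty.of_isPullback (P := MorphismProperty.monomorphisms _) (sq.map F) ‹Mono (F.map iT)›
  haveI : IsSplitEpi (F.map (Limits.pullback.snd iT g)) :=
    ⟨⟨⟨(sq.map F).lift f (𝟙 _) (by rw [hf, Category.id_comp]), (sq.map F).lift_snd _ _ _⟩⟩⟩
  haveI := isIso_of_mono_of_isSplitEpi (F.map (Limits.pullback.snd iT g))
  haveI := isIso_of_bc (Red.geomPt s₀) (Limits.pullback.snd iT g)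
  exact ⟨inv (Limits.pullback.snd iT g) ≫ Limits.pullback.fst iT g, by
    rw [Category.assoc, sq.w, IsIso.inv_hom_id_assoc]⟩

/-- A maximal torus of a reductive group stays maximal over any field extension. -/
theorem isMaxTorus_ext {G T : Over (Spec (CommRingCat.of k))} [GrpObj G] [GrpObj T] (hG : Red.IsReductive G)
    {iT : T ⟶ G} (hT : Red.IsMaximalTorus iT) {K : Type u} [Field K]
    (σ : Spec (CommRingCat.of K) ⟶ Spec (CommRingCat.of k)) : AGF.IsMaxTorus ((Over.pullback σ).map iT) := by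
  obtain ⟨hTm, hTmono, hTt, -⟩ := id hT
  haveI := hTm
  haveI := hTmono
  let F := Over.pullback σ
  haveI : Mono (F.map iT) := by
    refine ⟨fun a b hab => RedPts82.toBase_injective σ ?_⟩
    rw [← cancel_mono iT, ← RedPts82.toBase_comp_map, ← RedPts82.toBase_comp_map, hab]
  refine ⟨inferInstance, inferInstance, AlgGrp79.TorusBC.isTorus_bc σ hTt, fun T' _ j _ _ f hT' hf => ?_⟩
  obtain ⟨f', hf'⟩ := exists_factor_maximalTorus hG hT (RedPts82.toBase σ j) fun X'' x s => by
    let X''' : Over (Spec (CommRingCat.of K)) := Over.mk (x.left ≫ T'.hom)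
    let ι' : (Over.map σ).obj X''' ⟶ X'' := Over.homMk (𝟙 _) (by
      show 𝟙 _ ≫ X''.hom = (x.left ≫ T'.hom) ≫ σ
      rw [Category.id_comp, Category.assoc]
      exact (Over.w x).symm)
    let κ : X'' ⟶ (Over.map σ).obj X''' := Over.homMk (𝟙 _) (by
      show 𝟙 _ ≫ (x.left ≫ T'.hom) ≫ σ = X''.hom
      rw [Category.id_comp, Category.assoc]
      exact Over.w x)
    let x' : X''' ⟶ T' := Over.homMk x.left rfl
    let s' : X''' ⟶ Red.bc σ T := RedPts82.ofBase σ (ι' ≫ s)
    have h0 : RedPts82.toBase σ (x' ≫ j) * RedPts82.toBase σ (s' ≫ F.map iT) =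
        RedPts82.toBase σ (s' ≫ F.map iT) * RedPts82.toBase σ (x' ≫ j) := by
      rw [← RedPts82.toBase_mul, ← RedPts82.toBase_mul, ← hf, ← Category.assoc s' f j, ← MonObj.mul_comp _ _ j,
        ← MonObj.mul_comp _ _ j, RedPts82.isTorus_points_comm hT']
    have ej : κ ≫ RedPts82.toBase σ (x' ≫ j) = x ≫ RedPts82.toBase σ j := by
      rw [RedPts82.toBase_comp, ← Category.assoc,
        show κ ≫ (Over.map σ).map x' = x from Over.OverMorphism.ext (Category.id_comp _)]
    have es : κ ≫ RedPts82.toBase σ (s' ≫ F.map iT) = s ≫ iT := by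
      rw [RedPts82.toBase_comp_map, RedPts82.toBase_ofBase, ← Category.assoc, ← Category.assoc,
        show κ ≫ ι' = 𝟙 X'' from Over.OverMorphism.ext (Category.id_comp _), Category.id_comp]
    rw [← ej, ← es, ← MonObj.comp_mul κ, ← MonObj.comp_mul κ, h0]
  let g : T' ⟶ Red.bc σ T := RedPts82.ofBase σ f'
  have hg : g ≫ F.map iT = j := RedPts82.toBase_injective σ (by
    rw [RedPts82.toBase_comp_map, RedPts82.toBase_ofBase, hf'])
  exact ⟨g, by rw [← cancel_mono (F.map iT), Category.assoc, hg, hf, Category.id_comp],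
    by rw [← cancel_mono j, Category.assoc, hf, hg, Category.id_comp]⟩

end Groth.Agent.AGF80.Luna
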