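import Groth.Agent.AlgGrp79.FiniteFixed
import Mathlib.RingTheory.Nullstellensatz

/-!
Orbits of lines in a representation: limits under one-parameter subgroups, extremal weights, fixed covectors.
-/

set_option autoImplicit false
set_option linter.unusedSectionVars false
set_option linter.style.haveILetI false
set_option backward.isDefEq.respectTransparency.types false

universe u

open WithConv Matrix
open scoped TensorProduct

noncomputable section

namespace Groth.Agent.AGF80.Luna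

open Comod33 Comod33.Mat

variable {k : Type u} [Field k] {A : Type u} [CommRing A] [HopfAlgebra k A] {n : ℕ}

/-- The matrix of a rational point. -/
abbrev mat (c : Fin n → Fin n → A) (g : Conn.Pt k A) : Matrix (Fin n) (Fin n) k := ev g.ofConv c

theorem mat_mul {c : Fin n → Fin n → A} (hc : IsRep (k := k) c) (g h : Conn.Pt k A) :
    mat c (g * h) = mat c g * mat c h := by
  rw [mat, mat, mat, ← ev_mul hc]

theorem mat_one {c : Fin n → Fin n → A} (hc : IsRep (k := k) c) : mat c (1 : Conn.Pt k A) = 1 := ev_one hc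

/-- The cone over the orbit of a line. -/
def Orb (c : Fin n → Fin n → A) (v : Fin n → k) : Set (Fin n → k) :=
  {z | ∃ (g : Conn.Pt k A) (s : k), z = s • (mat c g *ᵥ v)}

/-- The cone over the orbit is Zariski closed. -/
def ConeClosed (c : Fin n → Fin n → A) (v : Fin n → k) : Prop :=
  ∀ z, (∀ f : MvPolynomial (Fin n) k, (∀ w ∈ Orb c v, MvPolynomial.eval w f = 0) → MvPolynomial.eval z f = 0) →
    z ∈ Orb c v

theorem smul_mem_orb {c : Fin n → Fin n → A} {v w : Fin n → k} (hw : w ∈ Orb c v) (a : k) : a • w ∈ Orb c v := by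
  obtain ⟨g, s, rfl⟩ := hw
  exact ⟨g, a * s, smul_smul a s _⟩

theorem mat_mem_orb {c : Fin n → Fin n → A} (hc : IsRep (k := k) c) {v w : Fin n → k} (hw : w ∈ Orb c v)
    (g : Conn.Pt k A) : mat c g *ᵥ w ∈ Orb c v := by
  obtain ⟨h, s, rfl⟩ := hw
  exact ⟨g * h, s, by rw [Matrix.mulVec_smul, Matrix.mulVec_mulVec, ← mat_mul hc]⟩

theorem self_mem_orb {c : Fin n → Fin n → A} (hc : IsRep (k := k) c) (v : Fin n → k) : v ∈ Orb c v :=
  ⟨1, 1, by rw [mat_one hc, Matrix.one_mulVec, one_smul]⟩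

/-- The extremal component of a point of a closed cone belongs to it. -/
theorem limit_mem [IsAlgClosed k] {c : Fin n → Fin n → A} (hc : IsRep (k := k) c) {v : Fin n → k} (hcl : ConeClosed c v)
    (ℓ : Fin n → ℤ) (hcur : ∀ s : k, s ≠ 0 → ∃ t : Conn.Pt k A, mat c t = diagonal fun i => s ^ ℓ i)
    {w : Fin n → k} (hw : w ∈ Orb c v) (μ : ℤ) (hμ : ∀ i, w i ≠ 0 → μ ≤ ℓ i) :
    (fun i => if ℓ i = μ then w i else 0) ∈ Orb c v := by
  refine hcl _ fun f hf => ?_
  let row : Fin n → Polynomial k := fun i => Polynomial.C (w i) * Polynomial.X ^ (ℓ i - μ).toNat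
  let p : Polynomial k := MvPolynomial.aeval row f
  have hev : ∀ s : k, p.eval s = MvPolynomial.eval (fun i => (row i).eval s) f := fun s => by
    have h := DFunLike.congr_fun (MvPolynomial.comp_aeval (R := k) row (Polynomial.aeval s)) f
    simp only [AlgHom.comp_apply, Polynomial.coe_aeval_eq_eval] at h
    rw [show p.eval s = (MvPolynomial.aeval row f).eval s from rfl, h]
    rfl
  have hp : p = 0 := by
    refine Polynomial.eq_zero_of_infinite_isRoot p (Set.Infinite.mono ?_ (Set.finite_singleton (0 : k)).infinite_compl)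
    intro s hs
    have hs0 : s ≠ 0 := hs
    show p.eval s = 0
    rw [hev]
    obtain ⟨t, ht⟩ := hcur s hs0
    have e : (fun i => (row i).eval s) = (s ^ (-μ)) • (mat c t *ᵥ w) := by
      funext i
      rw [Pi.smul_apply, ht, mulVec_diagonal, smul_eq_mul, ← _root_.mul_assoc, ← zpow_add₀ hs0]
      simp only [row, Polynomial.eval_mul, Polynomial.eval_C, Polynomial.eval_pow, Polynomial.eval_X]
      by_cases hi : w i = 0
      · simp [hi]
      · rw [← zpow_natCast, Int.toNat_of_nonneg (by linarith [hμ i hi]), neg_add_eq_sub, _root_.mul_comm]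
    rw [e]
    exact hf _ (smul_mem_orb (mat_mem_orb hc hw t) _)
  have e0 : (fun i => (row i).eval (0 : k)) = fun i => if ℓ i = μ then w i else 0 := by
    funext i
    simp only [row, Polynomial.eval_mul, Polynomial.eval_C, Polynomial.eval_pow, Polynomial.eval_X]
    by_cases hi : w i = 0
    · simp [hi]
    have := hμ i hi
    split_ifs with h
    · simp [h]
    · rw [zero_pow (by omega), mul_zero]
  rw [← e0, ← hev, hp, Polynomial.eval_zero]

/-- Equal powers of all scalars have equal exponents. -/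
theorem eq_of_zpow_eq [IsAlgClosed k] {a b : ℤ} (h : ∀ s : k, s ≠ 0 → s ^ a = s ^ b) : a = b := by
  wlog hab : b ≤ a generalizing a b
  · exact (this (fun s hs => (h s hs).symm) (le_of_not_ge hab)).symm
  by_contra hne
  have hp : (Polynomial.X ^ (a - b).toNat - 1 : Polynomial k) = 0 := by
    refine Polynomial.eq_zero_of_infinite_isRoot _ (Set.Infinite.mono ?_ (Set.finite_singleton (0 : k)).infinite_compl)
    intro s hs
    have hs0 : s ≠ 0 := hs
    show Polynomial.eval s _ = 0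
    rw [Polynomial.eval_sub, Polynomial.eval_pow, Polynomial.eval_X, Polynomial.eval_one, ← zpow_natCast,
      Int.toNat_of_nonneg (by omega), zpow_sub₀ hs0, h s hs0, div_self (zpow_ne_zero _ hs0), sub_self]
  have := congrArg (Polynomial.eval (0 : k)) hp
  rw [Polynomial.eval_sub, Polynomial.eval_pow, Polynomial.eval_X, Polynomial.eval_one, Polynomial.eval_zero,
    zero_pow (by omega), zero_sub, neg_eq_zero] at this
  exact one_ne_zero this

/-- The contragredient matrix. -/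
def dual (c : Fin n → Fin n → A) : Fin n → Fin n → A :=
  fun i l => HopfAlgebraStruct.antipode (R := k) (c l i)

theorem ev_dual (c : Fin n → Fin n → A) {R : Type u} [CommRing R] [Algebra k R] (f : WithConv (A →ₐ[k] R)) :
    ev f.ofConv (dual (k := k) c) = (ev f⁻¹.ofConv c)ᵀ := rfl

theorem isRep_dual {c : Fin n → Fin n → A} (hc : IsRep (k := k) c) : IsRep (k := k) (dual (k := k) c) where
  comul i j := by
    let f : WithConv (A →ₐ[k] A ⊗[k] A) := toConv Algebra.TensorProduct.includeLeft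
    let g : WithConv (A →ₐ[k] A ⊗[k] A) := toConv Algebra.TensorProduct.includeRight
    have h1 : ev (f * g).ofConv (dual (k := k) c) = ev f.ofConv (dual (k := k) c) * ev g.ofConv (dual (k := k) c) := by
      rw [ev_dual, ev_dual, ev_dual, _root_.mul_inv_rev, ← Matrix.transpose_mul]
      exact congrArg Matrix.transpose (ev_mul hc g⁻¹.ofConv f⁻¹.ofConv)
    have h2 := congrFun (congrFun h1 i) j
    rw [Matrix.mul_apply] at h2
    simp only [f, g, ev_apply, toConv_ofConv, Algebra.TensorProduct.includeLeft_apply,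
      Algebra.TensorProduct.includeRight_apply, Algebra.TensorProduct.tmul_mul_tmul, _root_.one_mul, _root_.mul_one] at h2
    rw [← GMod80.comulAlgHom_eq_lr] at h2
    exact h2
  counit i j := by
    have h1 : ev ((1 : WithConv (A →ₐ[k] k))).ofConv (dual (k := k) c) = 1 := by
      rw [ev_dual, inv_one, ev_one hc, Matrix.transpose_one]
    have h2 := congrFun (congrFun h1 i) j
    rw [Matrix.one_apply] at h2
    exact h2

theorem mat_dual_mulVec (c : Fin n → Fin n → A) (g : Conn.Pt k A) (r : Fin n → k) :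
    mat (dual (k := k) c) g *ᵥ r = r ᵥ* mat c g⁻¹ := by
  rw [mat, ev_dual, Matrix.mulVec_transpose]

/-- A point with all the weights on one class. -/
theorem class_of_eigen [IsAlgClosed k] (ℓ : Fin n → ℤ) {z : Fin n → k}
    (h : ∀ s : k, s ≠ 0 → ∃ a : k, ∀ i, z i * s ^ ℓ i = a * z i) {i l : Fin n} (hi : z i ≠ 0) (hl : z l ≠ 0) :
    ℓ i = ℓ l := by
  refine eq_of_zpow_eq (k := k) fun s hs => ?_
  obtain ⟨a, ha⟩ := h s hs
  rw [mul_left_cancel₀ hi ((ha i).trans (_root_.mul_comm a _)), mul_left_cancel₀ hl ((ha l).trans (_root_.mul_comm a _))]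

variable [IsAlgClosed k]

/-- The torus data of a representation. -/
structure Diag (c : Fin n → Fin n → A) (S : Set (Conn.Pt k A)) (ℓ : Fin n → ℤ) : Prop where
  diag : ∀ t ∈ S, ∃ d : Fin n → k, mat c t = diagonal d ∧ ∀ i l, ℓ i = ℓ l → d i = d l
  curve : ∀ s : k, s ≠ 0 → ∃ t ∈ S, mat c t = diagonal fun i => s ^ ℓ i

theorem Diag.eigen {c : Fin n → Fin n → A} {S : Set (Conn.Pt k A)} {ℓ : Fin n → ℤ} (hd : Diag c S ℓ) {z : Fin n → k}
    (μ : ℤ) (hz : ∀ i, z i ≠ 0 → ℓ i = μ) (t : Conn.Pt k A) (ht : t ∈ S) : ∃ a : k, mat c t *ᵥ z = a • z := by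
  obtain ⟨d, hd1, hd2⟩ := hd.diag t ht
  by_cases hex : ∃ i, z i ≠ 0
  · obtain ⟨i₀, hi₀⟩ := hex
    refine ⟨d i₀, funext fun i => ?_⟩
    rw [hd1, mulVec_diagonal, Pi.smul_apply, smul_eq_mul]
    by_cases hi : z i = 0
    · simp [hi]
    · rw [hd2 i i₀ ((hz i hi).trans (hz i₀ hi₀).symm)]
  · push Not at hex
    refine ⟨0, funext fun i => ?_⟩
    rw [hd1, mulVec_diagonal, Pi.smul_apply, hex i]
    simp

/-- Every orbit point meets a fixed covector which is a translate of an extremal one. -/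
theorem exists_covectors [Algebra.FiniteType k A] [IsDomain A] {c : Fin n → Fin n → A} (hc : IsRep (k := k) c)
    {v : Fin n → k} (hspan : ∀ f : Fin n → k, (∀ g, f ⬝ᵥ (mat c g *ᵥ v) = 0) → f = 0)
    {η : Fin n → k} (hη : η ≠ 0) (hcl : ConeClosed c v) (hcl' : ConeClosed (dual (k := k) c) η)
    {S : Set (Conn.Pt k A)} {ℓ : Fin n → ℤ} (hd : Diag c S ℓ)
    {ι : Type*} [Finite ι] (nn : ι → Conn.Pt k A)
    (hnn : ∀ i, ∀ t ∈ S, nn i * t * (nn i)⁻¹ ∈ S ∧ (nn i)⁻¹ * t * nn i ∈ S)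
    (hfix : ∀ g : Conn.Pt k A, (∀ t ∈ S, ∃ a : k, mat c (g⁻¹ * t * g) *ᵥ v = a • v) →
      ∃ i, ∃ a : k, mat c g *ᵥ v = a • (mat c (nn i) *ᵥ v)) :
    ∀ z ∈ Orb c v, z ≠ 0 → ∃ r : Fin n → k, r ⬝ᵥ z ≠ 0 ∧ r ∈ Orb (dual (k := k) c) η ∧
      ∀ t ∈ S, ∃ a : k, r ᵥ* mat c t = a • r := by
  classical
  haveI : Fintype ι := Fintype.ofFinite ι
  -- a fixed point is one of finitely many lines
  have hline : ∀ z ∈ Orb c v, z ≠ 0 → ∀ μ : ℤ, (∀ i, z i ≠ 0 → ℓ i = μ) →
      ∃ i, ∃ a : k, z = a • (mat c (nn i) *ᵥ v) := by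
    rintro z ⟨g, s, rfl⟩ hz0 μ hsupp
    have hs : s ≠ 0 := fun h => hz0 (by rw [h, zero_smul])
    obtain ⟨i, a, ha⟩ := hfix g fun t ht => by
      obtain ⟨a, ha⟩ := hd.eigen μ hsupp t ht
      refine ⟨a, ?_⟩
      rw [Matrix.mulVec_smul, smul_comm a s] at ha
      have h1 := congrArg (mat c g⁻¹ *ᵥ ·) (smul_right_injective (Fin n → k) hs ha)
      simp only [Matrix.mulVec_smul, Matrix.mulVec_mulVec, ← mat_mul hc] at h1
      rwa [inv_mul_cancel, mat_one hc, Matrix.one_mulVec, ← _root_.mul_assoc] at h1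
    exact ⟨i, s * a, by rw [ha, smul_smul]⟩
  -- the orbit function of a covector
  let φ : (Fin n → k) → A := fun f => ∑ i, f i • ∑ l, v l • c i l
  have hφ : ∀ (f : Fin n → k) (g : Conn.Pt k A), g.ofConv (φ f) = f ⬝ᵥ (mat c g *ᵥ v) := fun f g => by
    simp only [φ, map_sum, map_smul, smul_eq_mul, dotProduct, Matrix.mulVec, ev_apply]
    exact Finset.sum_congr rfl fun i _ => congrArg (f i * ·) (Finset.sum_congr rfl fun l _ => _root_.mul_comm _ _)
  have hφ0 : ∀ f, φ f = 0 → f = 0 := fun f hf => hspan f fun g => by rw [← hφ, hf, map_zero]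
  haveI : Nonempty (Fin n) := by
    by_contra h
    exact hη (funext fun i => absurd ⟨i⟩ h)
  obtain ⟨i₀, hi₀⟩ := Finite.exists_min ℓ
  have hsingle : ∀ i, (Pi.single i 1 : Fin n → k) ≠ 0 := fun i h => by
    have := congrFun h i
    simp at this
  -- the extremal weight has multiplicity one
  have hone : ∀ i, ℓ i = ℓ i₀ → i = i₀ := by
    intro i₁ hi₁
    by_contra hne
    let L : ι → Fin n → k := fun j => mat c (nn j) *ᵥ v
    let P : ι → Prop := fun j => ∃ a, ℓ a = ℓ i₀ ∧ L j a ≠ 0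
    have hF : ∀ j, P j → ∃ a b, ℓ a = ℓ i₀ ∧ ℓ b = ℓ i₀ ∧
        φ (Pi.single a (L j b) - Pi.single b (L j a)) ≠ 0 := by
      intro j hj
      obtain ⟨a, ha, haL⟩ := hj
      obtain ⟨b, hb, hab⟩ : ∃ b, ℓ b = ℓ i₀ ∧ a ≠ b := by
        by_cases h : a = i₀
        · exact ⟨i₁, hi₁, fun e => hne (e.symm.trans h)⟩
        · exact ⟨i₀, rfl, h⟩
      refine ⟨a, b, ha, hb, fun h => haL ?_⟩
      have := congrFun (hφ0 _ h) b
      simpa [hab, hab.symm] using this
    choose fa fb hfa hfb hF using hF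
    let F : A := φ (Pi.single i₀ 1) *
      ∏ j : {j // P j}, φ (Pi.single (fa j.1 j.2) (L j.1 (fb j.1 j.2)) - Pi.single (fb j.1 j.2) (L j.1 (fa j.1 j.2)))
    have hF0 : F ≠ 0 := mul_ne_zero (fun h => hsingle i₀ (hφ0 _ h))
      (Finset.prod_ne_zero_iff.2 fun j _ => hF j.1 j.2)
    obtain ⟨g, hg⟩ : ∃ g : Conn.Pt k A, g.ofConv F ≠ 0 := by
      by_contra h
      push Not at h
      exact hF0 (Conn.eq_zero_of_forall_point h)
    rw [map_mul, map_prod, mul_ne_zero_iff, Finset.prod_ne_zero_iff, hφ, single_one_dotProduct] at hg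
    have hw : mat c g *ᵥ v ∈ Orb c v := ⟨g, 1, (one_smul _ _).symm⟩
    have hlim := limit_mem hc hcl ℓ (fun s hs => let ⟨t, _, ht⟩ := hd.curve s hs; ⟨t, ht⟩) hw (ℓ i₀) fun i _ => hi₀ i
    obtain ⟨j, a, ha⟩ := hline _ hlim (fun h => hg.1 (by simpa using congrFun h i₀)) (ℓ i₀) fun i hi => by
      by_contra h
      exact hi (by simp [h])
    have hj : P j := ⟨i₀, rfl, fun h => hg.1 (by
      have := congrFun ha i₀
      simpa [L, h] using this)⟩
    refine hg.2 ⟨j, hj⟩ (Finset.mem_univ _) ?_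
    have ea := congrFun ha (fa j hj)
    have eb := congrFun ha (fb j hj)
    simp only [hfa j hj, hfb j hj, if_true, Pi.smul_apply, smul_eq_mul] at ea eb
    rw [hφ, sub_dotProduct, single_dotProduct, single_dotProduct, ea, eb]
    simp only [L]
    ring
  -- the extremal line is in the orbit
  obtain ⟨j₀, a₀, ha₀, ha₀'⟩ : ∃ j, ∃ a : k, a ≠ 0 ∧ (Pi.single i₀ 1 : Fin n → k) = a • (mat c (nn j) *ᵥ v) := by
    obtain ⟨g, hg⟩ : ∃ g : Conn.Pt k A, (mat c g *ᵥ v) i₀ ≠ 0 := by
      by_contra h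
      push Not at h
      exact hsingle i₀ (hspan _ fun g => by rw [single_one_dotProduct]; exact h g)
    have hw : mat c g *ᵥ v ∈ Orb c v := ⟨g, 1, (one_smul _ _).symm⟩
    have hlim := limit_mem hc hcl ℓ (fun s hs => let ⟨t, _, ht⟩ := hd.curve s hs; ⟨t, ht⟩) hw (ℓ i₀) fun i _ => hi₀ i
    have e : (fun i => if ℓ i = ℓ i₀ then (mat c g *ᵥ v) i else 0) = Pi.single i₀ ((mat c g *ᵥ v) i₀) := by
      funext i
      by_cases h : i = i₀
      · subst h; simp
      · rw [Pi.single_eq_of_ne h, if_neg fun h' => h (hone i h')]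
    rw [e] at hlim
    have hlim' : (Pi.single i₀ 1 : Fin n → k) ∈ Orb c v := by
      have := smul_mem_orb hlim ((mat c g *ᵥ v) i₀)⁻¹
      rwa [← Pi.single_smul, smul_eq_mul, inv_mul_cancel₀ hg] at this
    obtain ⟨j, a, ha⟩ := hline _ hlim' (hsingle i₀) (ℓ i₀) fun i hi => by
      by_contra h
      exact hi (Pi.single_eq_of_ne (fun e => h (congrArg ℓ e)) _)
    exact ⟨j, a, fun h => hsingle i₀ (by rw [ha, h, zero_smul]), ha⟩
  -- the extremal covector is in the dual orbit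
  have hξ : (Pi.single i₀ 1 : Fin n → k) ∈ Orb (dual (k := k) c) η := by
    obtain ⟨g, hg⟩ : ∃ g : Conn.Pt k A, (mat (dual (k := k) c) g *ᵥ η) i₀ ≠ 0 := by
      by_contra h
      push Not at h
      refine hη (hspan η fun g => ?_)
      have h1 := h (g * (nn j₀)⁻¹)⁻¹
      rw [mat_dual_mulVec, inv_inv, ← dotProduct_single_one (η ᵥ* _) i₀, ← Matrix.dotProduct_mulVec, ha₀',
        Matrix.mulVec_smul, Matrix.mulVec_mulVec, ← mat_mul hc, inv_mul_cancel_right, dotProduct_smul, smul_eq_zero] at h1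
      exact h1.resolve_left ha₀
    have hlim := limit_mem (isRep_dual hc) hcl' ℓ (fun s hs => by
      obtain ⟨t, _, ht⟩ := hd.curve s⁻¹ (inv_ne_zero hs)
      refine ⟨t, ?_⟩
      rw [mat, ev_dual, show ev t⁻¹.ofConv c = mat c t⁻¹ from rfl]
      have h1 : mat c t⁻¹ * mat c t = 1 := by rw [← mat_mul hc, inv_mul_cancel, mat_one hc]
      have h2 : mat c t⁻¹ = diagonal fun i => s ^ ℓ i := by
        refine left_inv_eq_right_inv h1 ?_
        rw [ht, Matrix.diagonal_mul_diagonal, ← Matrix.diagonal_one]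
        congr 1
        funext i
        rw [_root_.inv_zpow, inv_mul_cancel₀ (zpow_ne_zero _ hs)]
      rw [h2, Matrix.diagonal_transpose]) (w := mat (dual (k := k) c) g *ᵥ η) ⟨g, 1, (one_smul _ _).symm⟩ (ℓ i₀)
      fun i _ => hi₀ i
    have e : (fun i => if ℓ i = ℓ i₀ then (mat (dual (k := k) c) g *ᵥ η) i else 0) =
        Pi.single i₀ ((mat (dual (k := k) c) g *ᵥ η) i₀) := by
      funext i
      by_cases h : i = i₀
      · subst h; simp
      · rw [Pi.single_eq_of_ne h, if_neg fun h' => h (hone i h')]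
    rw [e] at hlim
    have := smul_mem_orb hlim ((mat (dual (k := k) c) g *ᵥ η) i₀)⁻¹
    rwa [← Pi.single_smul, smul_eq_mul, inv_mul_cancel₀ hg] at this
  intro z hz hz0
  obtain ⟨i₁, hi₁⟩ : ∃ i, z i ≠ 0 := by
    by_contra h
    push Not at h
    exact hz0 (funext h)
  obtain ⟨i₂, hi₂, hmin⟩ := (Finset.univ.filter fun i => z i ≠ 0).exists_min_image ℓ ⟨i₁, by simp [hi₁]⟩
  have hi₂' : z i₂ ≠ 0 := (Finset.mem_filter.1 hi₂).2
  have hlim := limit_mem hc hcl ℓ (fun s hs => let ⟨t, _, ht⟩ := hd.curve s hs; ⟨t, ht⟩) hz (ℓ i₂)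
    fun i hi => hmin i (by simp [hi])
  obtain ⟨j, a, ha⟩ := hline _ hlim (fun h => hi₂' (by simpa using congrFun h i₂)) (ℓ i₂) fun i hi => by
    by_contra h
    exact hi (by simp [h])
  have ha' : a ≠ 0 := fun h => hi₂' (by simpa [h] using congrFun ha i₂)
  let m := nn j₀ * (nn j)⁻¹
  let r : Fin n → k := Pi.single i₀ 1 ᵥ* mat c m
  have hm : ∀ t ∈ S, m * t * m⁻¹ ∈ S := fun t ht => by
    have h := (hnn j₀ _ ((hnn j t ht).2)).1
    have e : m * t * m⁻¹ = nn j₀ * ((nn j)⁻¹ * t * nn j) * (nn j₀)⁻¹ := by simp only [m]; group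
    rwa [e]
  have heig : ∀ t ∈ S, ∃ b : k, r ᵥ* mat c t = b • r := fun t ht => by
    obtain ⟨d, hd1, -⟩ := hd.diag _ (hm t ht)
    refine ⟨d i₀, ?_⟩
    rw [Matrix.vecMul_vecMul, ← mat_mul hc, show m * t = m * t * m⁻¹ * m by group, mat_mul hc,
      ← Matrix.vecMul_vecMul, hd1, single_one_vecMul, ← Matrix.smul_vecMul]
    congr 1
    funext l
    by_cases h : l = i₀
    · subst h; simp
    · simp [h, Ne.symm h]
  refine ⟨r, ?_, ?_, heig⟩
  · have hr0 : r ⬝ᵥ (fun i => if ℓ i = ℓ i₂ then z i else 0) ≠ 0 := by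
      rw [ha, ← Matrix.dotProduct_mulVec, Matrix.mulVec_smul, Matrix.mulVec_mulVec, ← mat_mul hc,
        inv_mul_cancel_right, dotProduct_smul]
      have h1 : mat c (nn j₀) *ᵥ v = a₀⁻¹ • (Pi.single i₀ 1 : Fin n → k) := by
        rw [ha₀', smul_smul, inv_mul_cancel₀ ha₀, one_smul]
      rw [h1, dotProduct_smul, single_one_dotProduct, Pi.single_eq_same]
      simp [ha', ha₀]
    have hsup : ∀ l, r l ≠ 0 → ℓ l = ℓ i₂ := by
      obtain ⟨l₀, hl₀, hl₀'⟩ : ∃ l, r l ≠ 0 ∧ ℓ l = ℓ i₂ := by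
        by_contra h
        push Not at h
        refine hr0 (Finset.sum_eq_zero fun l _ => ?_)
        by_cases hl : r l = 0
        · simp [hl]
        · simp [h l hl]
      intro l hl
      rw [← hl₀']
      refine class_of_eigen (k := k) ℓ (z := r) (fun s hs => ?_) hl hl₀
      obtain ⟨t, htS, ht⟩ := hd.curve s hs
      obtain ⟨b, hb⟩ := heig t htS
      refine ⟨b, fun i => ?_⟩
      have := congrFun hb i
      rwa [ht, Matrix.vecMul_diagonal] at this
    have e : r ⬝ᵥ z = r ⬝ᵥ (fun i => if ℓ i = ℓ i₂ then z i else 0) := by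
      refine Finset.sum_congr rfl fun l _ => ?_
      by_cases hl : r l = 0
      · simp [hl]
      · simp [hsup l hl]
    rwa [e]
  · have e : r = mat (dual (k := k) c) m⁻¹ *ᵥ Pi.single i₀ 1 := by rw [mat_dual_mulVec, inv_inv]
    rw [e]
    exact mat_mem_orb (isRep_dual hc) hξ _

end Groth.Agent.AGF80.Luna
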